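import Mathlib
import Cfsg.Agent.S5947
import Cfsg.Agent.S2670

/-!
# Elements of order `r * p` in `PSL_n(q)`

Tools for deciding when a prime `r` is adjacent to the characteristic in the prime graph of
`PSL_n(q)`.
-/

set_option autoImplicit false

namespace Cfsg.Agent.Helper14.PslAdj

open Matrix

theorem lin3 {F V : Type*} [Field F] [Fintype F] [AddCommGroup V] [Module F V] [Finite V]
    (s : ℕ) [Fact s.Prime] (hsq : ¬ s ∣ Fintype.card F) (n : ℕ) (hn : 3 ≤ n)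
    (hdim : Module.finrank F V = n)
    (hd : n - 1 ≤ orderOf ((Fintype.card F : ℕ) : ZMod s))
    (X Nl : Module.End F V) (hXs : X ^ s = 1) (hX1 : X ≠ 1) (hN0 : Nl ≠ 0) (j : ℕ)
    (hNj : Nl ^ j = 0) (hcomm : X * Nl = Nl * X) : False := by
  classical
  obtain ⟨d, hdd⟩ : ∃ d, d = orderOf ((Fintype.card F : ℕ) : ZMod s) := ⟨_, rfl⟩
  rw [← hdd] at hd
  obtain ⟨E, hE⟩ : ∃ E : Submodule F V, E = LinearMap.ker (X - 1) := ⟨_, rfl⟩
  have hq0 : ((Fintype.card F : ℕ) : ZMod s) ≠ 0 := by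
    rw [Ne, ZMod.natCast_eq_zero_iff]; exact hsq
  have key : ∀ W : Submodule F V, (∀ w ∈ W, X w ∈ W) →
      d ∣ Module.finrank F W - Module.finrank F ↥(W ⊓ E) := by
    intro W hW
    have h := S5947.fix_count s X hXs W hW
    rw [S5947.card_sub, S5947.card_sub, ← hE] at h
    have hle : Module.finrank F ↥(W ⊓ E) ≤ Module.finrank F W :=
      Submodule.finrank_mono inf_le_left
    have h2 : ((Fintype.card F : ℕ) : ZMod s) ^ Module.finrank F W
        = ((Fintype.card F : ℕ) : ZMod s) ^ Module.finrank F ↥(W ⊓ E) := by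
      have := (ZMod.natCast_eq_natCast_iff _ _ _).mpr h
      push_cast at this
      exact this
    have h3 : ((Fintype.card F : ℕ) : ZMod s)
        ^ (Module.finrank F W - Module.finrank F ↥(W ⊓ E)) = 1 := by
      have h4 : ((Fintype.card F : ℕ) : ZMod s) ^ Module.finrank F ↥(W ⊓ E)
          * ((Fintype.card F : ℕ) : ZMod s) ^ (Module.finrank F W - Module.finrank F ↥(W ⊓ E))
          = ((Fintype.card F : ℕ) : ZMod s) ^ Module.finrank F ↥(W ⊓ E) * 1 := by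
        rw [← pow_add, Nat.add_sub_cancel' hle, mul_one, h2]
      exact mul_left_cancel₀ (pow_ne_zero _ hq0) h4
    rw [hdd]
    exact orderOf_dvd_of_pow_eq_one h3
  have hEtop : E ≠ ⊤ := by
    intro h
    apply hX1
    apply LinearMap.ext
    intro v
    have : v ∈ E := by rw [h]; exact Submodule.mem_top
    rw [hE, LinearMap.mem_ker, LinearMap.sub_apply, sub_eq_zero] at this
    exact this
  have hc0lt : Module.finrank F E < n := hdim ▸ Submodule.finrank_lt hEtop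
  have h1 := key ⊤ (fun _ _ => Submodule.mem_top)
  rw [top_inf_eq, finrank_top, hdim] at h1
  have hc0 : Module.finrank F E ≤ 1 := by
    have := Nat.le_of_dvd (by omega) h1
    omega
  have hex : ∃ j, Nl ^ (j + 1) = 0 := ⟨j, by rw [pow_succ, hNj, zero_mul]⟩
  obtain ⟨j₀, hj₀, hj₀'⟩ : ∃ j₀, Nl ^ (j₀ + 1) = 0 ∧ Nl ^ j₀ ≠ 0 := by
    refine ⟨Nat.find hex, Nat.find_spec hex, ?_⟩
    intro h
    rcases Nat.eq_zero_or_pos (Nat.find hex) with h0 | hpos
    · have := Nat.find_spec hex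
      rw [h0, zero_add, pow_one] at this
      exact hN0 this
    · have := Nat.find_min hex (m := Nat.find hex - 1) (by omega)
      apply this
      rw [Nat.sub_add_cancel hpos]; exact h
  have hj₀pos : 0 < j₀ := by
    rcases Nat.eq_zero_or_pos j₀ with h0 | h
    · rw [h0, zero_add, pow_one] at hj₀; exact absurd hj₀ hN0
    · exact h
  obtain ⟨v, hv⟩ : ∃ v, (Nl ^ j₀) v ≠ 0 := by
    by_contra hcon
    push_neg at hcon
    exact hj₀' (LinearMap.ext hcon)
  obtain ⟨w, hw⟩ : ∃ w, w = (Nl ^ j₀) v := ⟨_, rfl⟩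
  have hwI : w ∈ LinearMap.range Nl := by
    obtain ⟨i, rfl⟩ : ∃ i, j₀ = i + 1 := ⟨j₀ - 1, by omega⟩
    refine ⟨(Nl ^ i) v, ?_⟩
    rw [hw, pow_succ']; rfl
  have hwK : w ∈ LinearMap.ker Nl := by
    rw [LinearMap.mem_ker, hw]
    have : Nl ((Nl ^ j₀) v) = (Nl ^ (j₀ + 1)) v := by rw [pow_succ']; rfl
    rw [this, hj₀]; rfl
  have hw0 : w ≠ 0 := by rw [hw]; exact hv
  have hXN : ∀ v, X (Nl v) = Nl (X v) := fun v => congrArg (fun f : Module.End F V => f v) hcomm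
  have hKinv : ∀ u ∈ LinearMap.ker Nl, X u ∈ LinearMap.ker Nl := by
    intro u hu
    rw [LinearMap.mem_ker] at hu ⊢
    rw [← hXN, hu, map_zero]
  have hIinv : ∀ u ∈ LinearMap.range Nl, X u ∈ LinearMap.range Nl := by
    rintro u ⟨u', rfl⟩
    exact ⟨X u', (hXN u').symm⟩
  have h2 := key _ hKinv
  have h3 := key _ hIinv
  have hsum := LinearMap.finrank_range_add_finrank_ker Nl
  rw [hdim] at hsum
  have hKpos : 0 < Module.finrank F (LinearMap.ker Nl) := by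
    rw [Module.finrank_pos_iff_exists_ne_zero]
    exact ⟨⟨w, hwK⟩, fun h => hw0 (congrArg Subtype.val h)⟩
  have hIpos : 0 < Module.finrank F (LinearMap.range Nl) := by
    rw [Module.finrank_pos_iff_exists_ne_zero]
    exact ⟨⟨w, hwI⟩, fun h => hw0 (congrArg Subtype.val h)⟩
  have hc1 : Module.finrank F ↥(LinearMap.ker Nl ⊓ E) ≤ Module.finrank F E :=
    Submodule.finrank_mono inf_le_right
  have hc2 : Module.finrank F ↥(LinearMap.range Nl ⊓ E) ≤ Module.finrank F E :=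
    Submodule.finrank_mono inf_le_right
  have hc1' : Module.finrank F ↥(LinearMap.ker Nl ⊓ E) ≤ Module.finrank F (LinearMap.ker Nl) :=
    Submodule.finrank_mono inf_le_left
  have hc2' : Module.finrank F ↥(LinearMap.range Nl ⊓ E)
      ≤ Module.finrank F (LinearMap.range Nl) := Submodule.finrank_mono inf_le_left
  obtain ⟨k, hk⟩ : ∃ k, k = Module.finrank F (LinearMap.ker Nl) := ⟨_, rfl⟩
  obtain ⟨i, hi⟩ : ∃ i, i = Module.finrank F (LinearMap.range Nl) := ⟨_, rfl⟩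
  obtain ⟨c₁, hc₁⟩ : ∃ c, c = Module.finrank F ↥(LinearMap.ker Nl ⊓ E) := ⟨_, rfl⟩
  obtain ⟨c₂, hc₂⟩ : ∃ c, c = Module.finrank F ↥(LinearMap.range Nl ⊓ E) := ⟨_, rfl⟩
  rw [← hk, ← hc₁] at h2 hc1'
  rw [← hc₁] at hc1
  rw [← hi, ← hc₂] at h3 hc2'
  rw [← hc₂] at hc2
  rw [← hk, ← hi] at hsum
  rw [← hk] at hKpos
  rw [← hi] at hIpos
  have hA : k - c₁ = 0 ∨ k - c₁ = d := by
    rcases Nat.eq_zero_or_pos (k - c₁) with h | h
    · exact Or.inl h
    · right
      have := Nat.le_of_dvd h h2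
      omega
  have hB : i - c₂ = 0 ∨ i - c₂ = d := by
    rcases Nat.eq_zero_or_pos (i - c₂) with h | h
    · exact Or.inl h
    · right
      have := Nat.le_of_dvd h h3
      omega
  have hcases : (k = c₁ ∧ c₂ = 0) ∨ (i = c₂ ∧ c₁ = 0) := by omega
  rcases hcases with ⟨h4, h5⟩ | ⟨h4, h5⟩
  · have hKE : LinearMap.ker Nl ⊓ E = LinearMap.ker Nl :=
      Submodule.eq_of_le_of_finrank_eq inf_le_left (by rw [← hc₁, ← hk, h4])
    have hIE : LinearMap.range Nl ⊓ E = ⊥ := Submodule.finrank_eq_zero.mp (by rw [← hc₂, h5])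
    have hwE : w ∈ E := by
      have : w ∈ LinearMap.ker Nl ⊓ E := by rw [hKE]; exact hwK
      exact (Submodule.mem_inf.mp this).2
    have : w ∈ LinearMap.range Nl ⊓ E := Submodule.mem_inf.mpr ⟨hwI, hwE⟩
    rw [hIE] at this
    exact hw0 ((Submodule.mem_bot F).mp this)
  · have hIE : LinearMap.range Nl ⊓ E = LinearMap.range Nl :=
      Submodule.eq_of_le_of_finrank_eq inf_le_left (by rw [← hc₂, ← hi, h4])
    have hKE : LinearMap.ker Nl ⊓ E = ⊥ := Submodule.finrank_eq_zero.mp (by rw [← hc₁, h5])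
    have hwE : w ∈ E := by
      have : w ∈ LinearMap.range Nl ⊓ E := by rw [hIE]; exact hwI
      exact (Submodule.mem_inf.mp this).2
    have : w ∈ LinearMap.ker Nl ⊓ E := Submodule.mem_inf.mpr ⟨hwK, hwE⟩
    rw [hKE] at this
    exact hw0 ((Submodule.mem_bot F).mp this)

theorem core3 {F : Type*} [Field F] [Fintype F] (p : ℕ) [Fact p.Prime] [CharP F p] (n : ℕ)
    (hn : 3 ≤ n) (s : ℕ) [Fact s.Prime] (hsp : s ≠ p)
    (hd : n - 1 ≤ orderOf ((Fintype.card F : ℕ) : ZMod s))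
    (u B : Matrix (Fin n) (Fin n) F) (nu : F) (hnu : nu ≠ 0)
    (hup : u ^ p = 1) (hu1 : u ≠ 1)
    (hB : B ^ s = nu • (1 : Matrix (Fin n) (Fin n) F))
    (hBs : ∀ c : F, B ≠ c • (1 : Matrix (Fin n) (Fin n) F))
    (hcz : u * B = B * u) : False := by
  classical
  haveI : NeZero n := ⟨by omega⟩
  have hpp : p.Prime := Fact.out
  have hsp' : s.Prime := Fact.out
  obtain ⟨f, -, hq⟩ := FiniteField.card F p
  have hsq : ¬ s ∣ Fintype.card F := by
    rw [hq]
    intro h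
    exact hsp ((Nat.prime_dvd_prime_iff_eq hsp' hpp).mp (hsp'.dvd_of_dvd_pow h))
  obtain ⟨N, hN⟩ : ∃ N : Matrix (Fin n) (Fin n) F, N = u - 1 := ⟨_, rfl⟩
  have hNp : N ^ p = 0 := by
    rw [hN, sub_pow_char_of_commute p (Commute.one_right u), hup, one_pow, sub_self]
  have hN0 : N ≠ 0 := by
    intro h
    rw [hN] at h
    exact hu1 (sub_eq_zero.mp h)
  have hs1 : ¬ s ∣ Fintype.card F - 1 := by
    intro h
    have h1 : ((Fintype.card F : ℕ) : ZMod s) = 1 := by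
      have h2 : (((Fintype.card F - 1 : ℕ)) : ZMod s) = 0 := (ZMod.natCast_eq_zero_iff _ _).mpr h
      rw [Nat.cast_sub (Nat.succ_le_of_lt Fintype.card_pos), Nat.cast_one, sub_eq_zero] at h2
      exact h2
    rw [h1, orderOf_one] at hd
    omega
  have hcop : (Nat.card Fˣ).Coprime s := by
    rw [Nat.card_units, Nat.card_eq_fintype_card, Nat.coprime_comm]
    exact (Nat.Prime.coprime_iff_not_dvd hsp').mpr hs1
  obtain ⟨rho, hrho⟩ : ∃ rho : Fˣ, rho ^ s = Units.mk0 nu hnu :=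
    ⟨(powCoprime hcop).symm (Units.mk0 nu hnu), by
      have := (powCoprime hcop).apply_symm_apply (Units.mk0 nu hnu)
      simpa using this⟩
  have hrho' : (rho : F) ^ s = nu := by
    have := congrArg (fun x : Fˣ => (x : F)) hrho
    simpa using this
  obtain ⟨B', hB'⟩ : ∃ B' : Matrix (Fin n) (Fin n) F, B' = (rho : F)⁻¹ • B := ⟨_, rfl⟩
  have hB's : B' ^ s = 1 := by
    rw [hB', smul_pow, hB, smul_smul, inv_pow, hrho', inv_mul_cancel₀ hnu, one_smul]
  have hB'1 : B' ≠ 1 := by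
    intro h
    apply hBs (rho : F)
    have : B = (rho : F) • ((rho : F)⁻¹ • B) := by
      rw [smul_smul, mul_inv_cancel₀ rho.ne_zero, one_smul]
    rw [this, ← hB', h]
  have hNB : B' * N = N * B' := by
    rw [hN, hB', mul_sub, sub_mul, mul_one, one_mul, smul_mul_assoc, mul_smul_comm, hcz]
  obtain ⟨φ, hφ⟩ : ∃ φ : Matrix (Fin n) (Fin n) F ≃ₐ[F] Module.End F (Fin n → F),
      φ = Matrix.toLinAlgEquiv' := ⟨_, rfl⟩
  refine lin3 s hsq n hn (Module.finrank_fin_fun F) hd (φ B') (φ N) ?_ ?_ ?_ p ?_ ?_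
  · rw [← map_pow, hB's, map_one]
  · intro h; rw [← map_one φ] at h; exact hB'1 (φ.injective h)
  · intro h; rw [← map_zero φ] at h; exact hN0 (φ.injective h)
  · rw [← map_pow, hNp, map_zero]
  · rw [← map_mul, ← map_mul, hNB]

theorem lift_pair {F : Type*} [Field F] [Fintype F] (p : ℕ) [Fact p.Prime] [CharP F p] (n : ℕ)
    (hn : 2 ≤ n) (s : ℕ) (hsp : s.Prime)
    (a b₁ : Matrix.ProjectiveSpecialLinearGroup (Fin n) F) (ha : orderOf a = p)
    (hb₁o : orderOf b₁ = s) (hab₁ : a * b₁ = b₁ * a) :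
    ∃ (u B : Matrix (Fin n) (Fin n) F) (nu : F), u ^ p = 1 ∧ u ≠ 1 ∧ B.det = 1 ∧
      B ^ s = nu • (1 : Matrix (Fin n) (Fin n) F) ∧ nu ^ n = 1 ∧
      (∀ c : F, B ≠ c • (1 : Matrix (Fin n) (Fin n) F)) ∧ u * B = B * u := by
  classical
  haveI : NeZero n := ⟨by omega⟩
  have hpp : p.Prime := Fact.out
  obtain ⟨f, -, hq⟩ := FiniteField.card F p
  obtain ⟨A, hA⟩ := QuotientGroup.mk_surjective a
  obtain ⟨B, hB⟩ := QuotientGroup.mk_surjective b₁
  have hcenter : ∀ M : Matrix.SpecialLinearGroup (Fin n) F,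
      M ∈ Subgroup.center (Matrix.SpecialLinearGroup (Fin n) F) ↔
      ∃ r : F, r ^ n = 1 ∧ (M : Matrix (Fin n) (Fin n) F) = r • 1 := by
    intro M
    rw [Matrix.SpecialLinearGroup.mem_center_iff, Fintype.card_fin]
    constructor
    · rintro ⟨r, hr, hM⟩
      exact ⟨r, hr, by rw [← hM, Matrix.smul_one_eq_diagonal]; rfl⟩
    · rintro ⟨r, hr, hM⟩
      exact ⟨r, hr, by rw [hM, Matrix.smul_one_eq_diagonal]; rfl⟩
  have hnotc : ∀ M : Matrix.SpecialLinearGroup (Fin n) F,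
      M ∉ Subgroup.center (Matrix.SpecialLinearGroup (Fin n) F) →
      ∀ c : F, (M : Matrix (Fin n) (Fin n) F) ≠ c • 1 := by
    intro M hM c hc
    apply hM
    rw [hcenter]
    refine ⟨c, ?_, hc⟩
    have h1 := M.det_coe
    rw [hc, Matrix.det_smul, Matrix.det_one, mul_one, Fintype.card_fin] at h1
    exact h1
  have hAp : A ^ p ∈ Subgroup.center (Matrix.SpecialLinearGroup (Fin n) F) := by
    rw [← QuotientGroup.eq_one_iff, QuotientGroup.mk_pow, hA, ← ha, pow_orderOf_eq_one]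
  have hAnc : A ∉ Subgroup.center (Matrix.SpecialLinearGroup (Fin n) F) := by
    intro h
    have h1 : a = 1 := by rw [← hA]; exact (QuotientGroup.eq_one_iff A).mpr h
    rw [h1, orderOf_one] at ha
    exact hpp.one_lt.ne ha
  have hBs : B ^ s ∈ Subgroup.center (Matrix.SpecialLinearGroup (Fin n) F) := by
    rw [← QuotientGroup.eq_one_iff, QuotientGroup.mk_pow, hB, ← hb₁o, pow_orderOf_eq_one]
  have hBnc : B ∉ Subgroup.center (Matrix.SpecialLinearGroup (Fin n) F) := by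
    intro h
    have h1 : b₁ = 1 := by rw [← hB]; exact (QuotientGroup.eq_one_iff B).mpr h
    rw [h1, orderOf_one] at hb₁o
    exact hsp.one_lt.ne hb₁o
  obtain ⟨lam, hlam, hAl⟩ := (hcenter _).mp hAp
  obtain ⟨nu, hnu, hBn⟩ := (hcenter _).mp hBs
  obtain ⟨Z, hZdef⟩ : ∃ Z, Z = (B * A)⁻¹ * (A * B) := ⟨_, rfl⟩
  have hZ : Z ∈ Subgroup.center (Matrix.SpecialLinearGroup (Fin n) F) := by
    rw [hZdef, ← QuotientGroup.eq, QuotientGroup.mk_mul, QuotientGroup.mk_mul, hA, hB, hab₁]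
  obtain ⟨zeta, hzeta, hZz⟩ := (hcenter _).mp hZ
  have hABz : (A : Matrix (Fin n) (Fin n) F) * (B : Matrix (Fin n) (Fin n) F)
      = zeta • ((B : Matrix (Fin n) (Fin n) F) * (A : Matrix (Fin n) (Fin n) F)) := by
    have h1 : (B * A) * Z = A * B := by rw [hZdef]; group
    have h2 := congrArg
      (fun M : Matrix.SpecialLinearGroup (Fin n) F => (M : Matrix (Fin n) (Fin n) F)) h1
    simp only [Matrix.SpecialLinearGroup.coe_mul] at h2
    rw [hZz, mul_smul_comm, mul_one] at h2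
    exact h2.symm
  have hn0 : n ≠ 0 := by omega
  have hlam0 : lam ≠ 0 := by
    rintro rfl; rw [zero_pow hn0] at hlam; exact zero_ne_one hlam
  obtain ⟨mu, hmu⟩ : ∃ mu : F, mu ^ p = lam := by
    refine ⟨lam ^ (p ^ ((f : ℕ) - 1)), ?_⟩
    rw [← pow_mul, ← pow_succ, Nat.sub_add_cancel f.pos, ← hq, FiniteField.pow_card]
  have hmu0 : mu ≠ 0 := by
    rintro rfl
    rw [zero_pow hpp.ne_zero] at hmu
    exact hlam0 hmu.symm
  obtain ⟨Am, hAm⟩ : ∃ Am : Matrix (Fin n) (Fin n) F, Am = (A : Matrix (Fin n) (Fin n) F) :=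
    ⟨_, rfl⟩
  obtain ⟨Bm, hBm⟩ : ∃ Bm : Matrix (Fin n) (Fin n) F, Bm = (B : Matrix (Fin n) (Fin n) F) :=
    ⟨_, rfl⟩
  rw [← hAm, ← hBm] at hABz
  have hApm : Am ^ p = lam • (1 : Matrix (Fin n) (Fin n) F) := by
    rw [hAm, ← Matrix.SpecialLinearGroup.coe_pow]; exact hAl
  have hBsm : Bm ^ s = nu • (1 : Matrix (Fin n) (Fin n) F) := by
    rw [hBm, ← Matrix.SpecialLinearGroup.coe_pow]; exact hBn
  obtain ⟨u, hu⟩ : ∃ u : Matrix (Fin n) (Fin n) F, u = mu⁻¹ • Am := ⟨_, rfl⟩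
  have hup : u ^ p = 1 := by
    rw [hu, smul_pow, hApm, smul_smul, inv_pow, hmu, inv_mul_cancel₀ hlam0, one_smul]
  have hu1 : u ≠ 1 := by
    intro h1
    apply hnotc A hAnc mu
    have : Am = mu • (mu⁻¹ • Am) := by rw [smul_smul, mul_inv_cancel₀ hmu0, one_smul]
    rw [← hAm, this, ← hu, h1]
  have hBm0 : Bm ≠ 0 := by
    intro h
    rw [h, zero_pow hsp.ne_zero] at hBsm
    have hnu0 : nu ≠ 0 := by
      rintro rfl; rw [zero_pow hn0] at hnu; exact zero_ne_one hnu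
    have h2 := congrFun (congrFun hBsm 0) 0
    rw [Matrix.zero_apply, Matrix.smul_apply, Matrix.one_apply_eq, smul_eq_mul, mul_one] at h2
    exact hnu0 h2.symm
  have hcz : u * Bm = zeta • (Bm * u) := by
    rw [hu, smul_mul_assoc, hABz, mul_smul_comm, smul_smul, smul_smul, mul_comm mu⁻¹ zeta]
  have hpowk : ∀ k : ℕ, u ^ k * Bm = zeta ^ k • (Bm * u ^ k) := by
    intro k
    induction k with
    | zero => simp
    | succ k ih =>
      rw [pow_succ u, mul_assoc, hcz, mul_smul_comm, ← mul_assoc, ih, smul_mul_assoc, smul_smul,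
        mul_assoc, pow_succ zeta, mul_comm (zeta ^ k) zeta]
  have hz : zeta ^ p = 1 := by
    have h1 := hpowk p
    rw [hup, one_mul, mul_one] at h1
    by_contra hne
    have h2 : (1 - zeta ^ p) • Bm = 0 := by rw [sub_smul, one_smul, ← h1, sub_self]
    rcases smul_eq_zero.mp h2 with h3 | h3
    · exact hne (sub_eq_zero.mp h3).symm
    · exact hBm0 h3
  have hz1 : zeta = 1 := by
    have h1 : (zeta - 1) ^ p = 0 := by rw [sub_pow_char, hz, one_pow, sub_self]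
    exact sub_eq_zero.mp ((pow_eq_zero_iff hpp.ne_zero).mp h1)
  rw [hz1, one_smul] at hcz
  refine ⟨u, Bm, nu, hup, hu1, ?_, hBsm, hnu, ?_, hcz⟩
  · rw [hBm]; exact B.det_coe
  · rw [hBm]; exact hnotc B hBnc

theorem exc3 {F : Type*} [Field F] [Fintype F] (p : ℕ) [Fact p.Prime] [CharP F p]
    (h3 : 3 ∣ Fintype.card F - 1) (h9 : ¬ 9 ∣ Fintype.card F - 1)
    (u B : Matrix (Fin 3) (Fin 3) F) (nu : F) (hnu3 : nu ^ 3 = 1)
    (hup : u ^ p = 1) (hu1 : u ≠ 1) (hdet : B.det = 1)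
    (hB : B ^ 3 = nu • (1 : Matrix (Fin 3) (Fin 3) F))
    (hBs : ∀ c : F, B ≠ c • (1 : Matrix (Fin 3) (Fin 3) F))
    (hcz : u * B = B * u) : False := by
  classical
  have hpp : p.Prime := Fact.out
  obtain ⟨f, -, hq⟩ := FiniteField.card F p
  have hp3 : p ≠ 3 := by
    rintro rfl
    have h1 : 3 ∣ Fintype.card F := by rw [hq]; exact dvd_pow_self 3 f.pos.ne'
    have h2 : 1 ≤ Fintype.card F := Fintype.card_pos
    omega
  have h3F : (3 : F) ≠ 0 := by
    intro h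
    have h' : ((3 : ℕ) : F) = 0 := by exact_mod_cast h
    rw [CharP.cast_eq_zero_iff F p] at h'
    exact hp3 ((Nat.prime_dvd_prime_iff_eq hpp Nat.prime_three).mp h')
  have hnu0 : nu ≠ 0 := by
    rintro rfl
    rw [zero_pow (by norm_num)] at hnu3
    exact zero_ne_one hnu3
  obtain ⟨N, hN⟩ : ∃ N : Matrix (Fin 3) (Fin 3) F, N = u - 1 := ⟨_, rfl⟩
  have hNp : N ^ p = 0 := by
    rw [hN, sub_pow_char_of_commute p (Commute.one_right u), hup, one_pow, sub_self]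
  have hN0 : N ≠ 0 := by
    intro h
    rw [hN] at h
    exact hu1 (sub_eq_zero.mp h)
  have hNB : N * B = B * N := by rw [hN, sub_mul, mul_sub, one_mul, mul_one, hcz]
  obtain ⟨z, hw0, hNw⟩ : ∃ z : Fin 3 → F, N *ᵥ z ≠ 0 ∧ N *ᵥ (N *ᵥ z) = 0 := by
    obtain ⟨v₁, hv₁⟩ : ∃ v₁ : Fin 3 → F, N *ᵥ v₁ ≠ 0 := by
      by_contra hcon
      push_neg at hcon
      apply hN0
      apply Matrix.toLin'.injective
      apply LinearMap.ext
      intro v
      rw [Matrix.toLin'_apply, hcon v, map_zero, LinearMap.zero_apply]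
    have hex : ∃ k, (N ^ k) *ᵥ (N *ᵥ v₁) = 0 := ⟨p, by rw [hNp, Matrix.zero_mulVec]⟩
    have hk0 : Nat.find hex ≠ 0 := by
      intro h0
      have := Nat.find_spec hex
      rw [h0, pow_zero, Matrix.one_mulVec] at this
      exact hv₁ this
    obtain ⟨k, hk⟩ : ∃ k, Nat.find hex = k + 1 := ⟨Nat.find hex - 1, by omega⟩
    have hwne : (N ^ k) *ᵥ (N *ᵥ v₁) ≠ 0 := Nat.find_min hex (by omega : k < Nat.find hex)
    have hw0 : (N ^ (k + 1)) *ᵥ (N *ᵥ v₁) = 0 := by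
      have := Nat.find_spec hex
      rw [hk] at this
      exact this
    have e : N *ᵥ ((N ^ k) *ᵥ v₁) = (N ^ k) *ᵥ (N *ᵥ v₁) := by
      rw [Matrix.mulVec_mulVec, Matrix.mulVec_mulVec, ← pow_succ', pow_succ]
    refine ⟨(N ^ k) *ᵥ v₁, ?_, ?_⟩
    · rw [e]
      exact hwne
    · rw [e, Matrix.mulVec_mulVec, ← pow_succ']
      exact hw0
  obtain ⟨w, hw⟩ : ∃ w : Fin 3 → F, w = N *ᵥ z := ⟨_, rfl⟩
  rw [← hw] at hw0 hNw
  obtain ⟨Nl, hNl⟩ : ∃ Nl : (Fin 3 → F) →ₗ[F] (Fin 3 → F), Nl = Matrix.toLin' N := ⟨_, rfl⟩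
  have hNlapp : ∀ v, Nl v = N *ᵥ v := fun v => by rw [hNl, Matrix.toLin'_apply]
  obtain ⟨L, hL⟩ : ∃ L : Submodule F (Fin 3 → F),
      L = LinearMap.ker Nl ⊓ LinearMap.range Nl := ⟨_, rfl⟩
  have hLfr : Module.finrank F L ≤ 1 := by
    have hsum := LinearMap.finrank_range_add_finrank_ker Nl
    rw [Module.finrank_fin_fun] at hsum
    have h1 : Module.finrank F L ≤ Module.finrank F (LinearMap.ker Nl) := by
      rw [hL]
      exact Submodule.finrank_mono inf_le_left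
    have h2 : Module.finrank F L ≤ Module.finrank F (LinearMap.range Nl) := by
      rw [hL]
      exact Submodule.finrank_mono inf_le_right
    omega
  have hwL : w ∈ L := by
    rw [hL, Submodule.mem_inf, LinearMap.mem_ker, hNlapp, LinearMap.mem_range]
    exact ⟨hNw, z, by rw [hNlapp, hw]⟩
  have hBwL : B *ᵥ w ∈ L := by
    rw [hL, Submodule.mem_inf, LinearMap.mem_ker, hNlapp, LinearMap.mem_range]
    refine ⟨?_, B *ᵥ z, ?_⟩
    · rw [Matrix.mulVec_mulVec, hNB, ← Matrix.mulVec_mulVec, hNw, Matrix.mulVec_zero]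
    · rw [hNlapp, Matrix.mulVec_mulVec, hNB, ← Matrix.mulVec_mulVec, hw]
  obtain ⟨β, hβ⟩ : ∃ β : F, B *ᵥ w = β • w := by
    obtain ⟨g, hg⟩ := finrank_le_one_iff.mp hLfr
    obtain ⟨a, ha⟩ := hg ⟨w, hwL⟩
    obtain ⟨b, hb⟩ := hg ⟨B *ᵥ w, hBwL⟩
    have ha' : a • (g : Fin 3 → F) = w := congrArg Subtype.val ha
    have hb' : b • (g : Fin 3 → F) = B *ᵥ w := congrArg Subtype.val hb
    have ha0 : a ≠ 0 := by
      rintro rfl
      rw [zero_smul] at ha'
      exact hw0 ha'.symm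
    refine ⟨b * a⁻¹, ?_⟩
    rw [← hb', ← ha', smul_smul, mul_assoc, inv_mul_cancel₀ ha0, mul_one]
  have e1 : B *ᵥ (B *ᵥ w) = (β * β) • w := by rw [hβ, Matrix.mulVec_smul, hβ, smul_smul]
  have e2 : B *ᵥ (B *ᵥ (B *ᵥ w)) = (β * β * β) • w := by
    rw [e1, Matrix.mulVec_smul, hβ, smul_smul]
  have hB3w : (B ^ 3) *ᵥ w = (β ^ 3) • w := by
    rw [pow_succ, pow_succ, pow_one, ← Matrix.mulVec_mulVec, ← Matrix.mulVec_mulVec, e2]
    congr 1
    ring
  have hβ3 : β ^ 3 = nu := by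
    have h1 : (β ^ 3 - nu) • w = 0 := by
      rw [sub_smul, ← hB3w, hB, Matrix.smul_mulVec, Matrix.one_mulVec, sub_self]
    rcases smul_eq_zero.mp h1 with h | h
    · exact sub_eq_zero.mp h
    · exact absurd h hw0
  have hβ0 : β ≠ 0 := by
    rintro rfl
    rw [zero_pow (by norm_num)] at hβ3
    exact hnu0 hβ3.symm
  have hβ31 : β ^ 3 = 1 := by
    have h9' : β ^ 9 = 1 := by
      have : β ^ 9 = (β ^ 3) ^ 3 := by ring
      rw [this, hβ3, hnu3]
    have hq1 : β ^ (Fintype.card F - 1) = 1 := FiniteField.pow_card_sub_one_eq_one β hβ0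
    obtain ⟨g, hg⟩ : ∃ g, g = Nat.gcd 9 (Fintype.card F - 1) := ⟨_, rfl⟩
    have hd9 : g ∣ 9 := by rw [hg]; exact Nat.gcd_dvd_left _ _
    have hd3 : 3 ∣ g := by rw [hg]; exact Nat.dvd_gcd (by norm_num) h3
    have hle : g ≤ 9 := Nat.le_of_dvd (by norm_num) hd9
    have hne : g ≠ 9 := by
      intro h
      apply h9
      rw [← h, hg]
      exact Nat.gcd_dvd_right _ _
    have hg3 : g = 3 := by
      interval_cases g <;> first | rfl | (exfalso; revert hd9 hd3 hne; norm_num)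
    have := pow_gcd_eq_one.mpr ⟨h9', hq1⟩
    rwa [← hg, hg3] at this
  obtain ⟨Bt, hBt⟩ : ∃ Bt : Matrix (Fin 3) (Fin 3) F, Bt = β⁻¹ • B := ⟨_, rfl⟩
  have hBt3 : Bt ^ 3 = 1 := by
    rw [hBt, smul_pow, hB, smul_smul, inv_pow, hβ3, inv_mul_cancel₀ hnu0, one_smul]
  have hBtw : Bt *ᵥ w = w := by
    rw [hBt, Matrix.smul_mulVec, hβ, smul_smul, inv_mul_cancel₀ hβ0, one_smul]
  have hBt1 : Bt ≠ 1 := by
    intro h
    apply hBs β
    have : B = β • (β⁻¹ • B) := by rw [smul_smul, mul_inv_cancel₀ hβ0, one_smul]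
    rw [this, ← hBt, h]
  have hNBt : N * Bt = Bt * N := by rw [hBt, mul_smul_comm, smul_mul_assoc, hNB]
  have hdetBt : Bt.det = 1 := by
    rw [hBt, Matrix.det_smul, Fintype.card_fin, hdet, mul_one, inv_pow, hβ31, inv_one]
  obtain ⟨P, hP⟩ : ∃ P : Matrix (Fin 3) (Fin 3) F, P = (3 : F)⁻¹ • (1 + Bt + Bt * Bt) :=
    ⟨_, rfl⟩
  have hBtP : Bt * P = P := by
    rw [hP, mul_smul_comm]
    congr 1
    have h3' : Bt * (Bt * Bt) = 1 := by
      rw [← hBt3]
      noncomm_ring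
    rw [mul_add, mul_add, mul_one, h3']
    abel
  have hNBt2 : N * (Bt * Bt) = Bt * Bt * N := by
    rw [← mul_assoc N Bt Bt, hNBt, mul_assoc Bt N Bt, hNBt, ← mul_assoc Bt Bt N]
  have hNP : N * P = P * N := by
    rw [hP, mul_smul_comm, smul_mul_assoc]
    congr 1
    rw [mul_add, mul_add, add_mul, add_mul, mul_one, one_mul, hNBt, hNBt2]
  have hPw : P *ᵥ w = w := by
    rw [hP, Matrix.smul_mulVec, Matrix.add_mulVec, Matrix.add_mulVec, Matrix.one_mulVec,
      ← Matrix.mulVec_mulVec, hBtw, hBtw]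
    have : w + w + w = (3 : F) • w := by
      rw [show (3 : F) = 1 + 1 + 1 by norm_num, add_smul, add_smul, one_smul]
    rw [this, smul_smul, inv_mul_cancel₀ h3F, one_smul]
  obtain ⟨e₁, he₁⟩ : ∃ e₁ : Fin 3 → F, e₁ = P *ᵥ z := ⟨_, rfl⟩
  have hBte₁ : Bt *ᵥ e₁ = e₁ := by rw [he₁, Matrix.mulVec_mulVec, hBtP]
  have hNe₁ : N *ᵥ e₁ = w := by
    rw [he₁, Matrix.mulVec_mulVec, hNP, ← Matrix.mulVec_mulVec, ← hw, hPw]
  obtain ⟨R, hR⟩ : ∃ R : Matrix (Fin 3) (Fin 3) F, R = Bt - 1 := ⟨_, rfl⟩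
  have hR0 : R ≠ 0 := by
    intro h
    rw [hR] at h
    exact hBt1 (sub_eq_zero.mp h)
  have hRfix : ∀ v : Fin 3 → F, Bt *ᵥ v = v → R *ᵥ v = 0 := by
    intro v hv
    rw [hR, Matrix.sub_mulVec, Matrix.one_mulVec, hv, sub_self]
  obtain ⟨Rl, hRl⟩ : ∃ Rl : (Fin 3 → F) →ₗ[F] (Fin 3 → F), Rl = Matrix.toLin' R := ⟨_, rfl⟩
  have hRlapp : ∀ v, Rl v = R *ᵥ v := fun v => by rw [hRl, Matrix.toLin'_apply]
  have hker2 : 2 ≤ Module.finrank F (LinearMap.ker Rl) := by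
    have hm1 : e₁ ∈ LinearMap.ker Rl := by
      rw [LinearMap.mem_ker, hRlapp]
      exact hRfix e₁ hBte₁
    have hm2 : w ∈ LinearMap.ker Rl := by
      rw [LinearMap.mem_ker, hRlapp]
      exact hRfix w hBtw
    have hli : LinearIndependent F ![(⟨e₁, hm1⟩ : LinearMap.ker Rl), ⟨w, hm2⟩] := by
      rw [LinearIndependent.pair_iff]
      intro s t hst
      have hst' : s • e₁ + t • w = 0 := by
        have := congrArg Subtype.val hst
        simpa using this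
      have h1 : s • w = 0 := by
        have := congrArg (fun v => N *ᵥ v) hst'
        simp only [Matrix.mulVec_add, Matrix.mulVec_smul, hNe₁, hNw, smul_zero, add_zero,
          Matrix.mulVec_zero] at this
        exact this
      have hs0 : s = 0 := by
        rcases smul_eq_zero.mp h1 with h | h
        · exact h
        · exact absurd h hw0
      rw [hs0, zero_smul, zero_add] at hst'
      have ht0 : t = 0 := by
        rcases smul_eq_zero.mp hst' with h | h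
        · exact h
        · exact absurd h hw0
      exact ⟨hs0, ht0⟩
    have := hli.fintype_card_le_finrank
    simpa using this
  have hrange1 : Module.finrank F (LinearMap.range Rl) ≤ 1 := by
    have hsum := LinearMap.finrank_range_add_finrank_ker Rl
    rw [Module.finrank_fin_fun] at hsum
    omega
  obtain ⟨y₀, hy₀⟩ : ∃ y₀ : Fin 3 → F, R *ᵥ y₀ ≠ 0 := by
    by_contra hcon
    push_neg at hcon
    apply hR0
    apply Matrix.toLin'.injective
    apply LinearMap.ext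
    intro v
    rw [Matrix.toLin'_apply, hcon v, map_zero, LinearMap.zero_apply]
  obtain ⟨x, hx⟩ : ∃ x : Fin 3 → F, x = R *ᵥ y₀ := ⟨_, rfl⟩
  rw [← hx] at hy₀
  have hRy : ∀ y : Fin 3 → F, ∃ c : F, R *ᵥ y = c • x := by
    intro y
    obtain ⟨g, hg⟩ := finrank_le_one_iff.mp hrange1
    obtain ⟨a, ha⟩ := hg ⟨x, ⟨y₀, by rw [hRlapp, hx]⟩⟩
    obtain ⟨b, hb⟩ := hg ⟨R *ᵥ y, ⟨y, hRlapp y⟩⟩
    have ha' : a • (g : Fin 3 → F) = x := congrArg Subtype.val ha
    have hb' : b • (g : Fin 3 → F) = R *ᵥ y := congrArg Subtype.val hb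
    have ha0 : a ≠ 0 := by
      rintro rfl
      rw [zero_smul] at ha'
      exact hy₀ ha'.symm
    refine ⟨b * a⁻¹, ?_⟩
    rw [← hb', ← ha', smul_smul, mul_assoc, inv_mul_cancel₀ ha0, mul_one]
  choose cf hcf using hRy
  obtain ⟨vv, hvv⟩ : ∃ vv : Fin 3 → F, vv = fun j => cf (Pi.single j 1) := ⟨_, rfl⟩
  have hRij : ∀ i j, R i j = x i * vv j := by
    intro i j
    have h1 := congrFun (hcf (Pi.single j 1)) i
    rw [Matrix.mulVec_single_one] at h1
    rw [hvv]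
    show R i j = x i * cf (Pi.single j 1)
    have h2 : R.col j i = R i j := rfl
    rw [← h2, h1, Pi.smul_apply, smul_eq_mul, mul_comm]
  have hRform : R = Matrix.replicateCol (Fin 1) x * Matrix.replicateRow (Fin 1) vv := by
    ext i j
    rw [hRij, Matrix.mul_apply, Fin.sum_univ_one, Matrix.replicateCol_apply,
      Matrix.replicateRow_apply]
  obtain ⟨t, ht⟩ : ∃ t : F, t = vv ⬝ᵥ x := ⟨_, rfl⟩
  have hRx : R *ᵥ x = t • x := by
    ext i
    rw [Pi.smul_apply, smul_eq_mul, ht]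
    show ∑ j, R i j * x j = (∑ j, vv j * x j) * x i
    rw [Finset.sum_mul]
    refine Finset.sum_congr rfl (fun j _ => ?_)
    rw [hRij]
    ring
  have hBtR : Bt = 1 + R := by
    rw [hR]
    abel
  have hdet2 : Bt.det = 1 + t := by
    rw [hBtR, hRform, ht]
    convert Matrix.det_one_add_replicateCol_mul_replicateRow (ι := Fin 1) x vv
  have ht0 : t = 0 := by
    rw [hdetBt] at hdet2
    linear_combination -hdet2
  have hRR : R * R = 0 := by
    apply Matrix.toLin'.injective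
    apply LinearMap.ext
    intro v
    rw [Matrix.toLin'_apply, ← Matrix.mulVec_mulVec, hcf v, Matrix.mulVec_smul, hRx, ht0,
      zero_smul, smul_zero, map_zero, LinearMap.zero_apply]
  have h3R : R + R + R = 0 := by
    have h1 : (1 + R) ^ 3 = 1 + (R + R + R) + (R * R + R * R + R * R) + R * (R * R) := by
      noncomm_ring
    have h2 : (1 + R) ^ 3 = 1 := by
      rw [← hBtR]
      exact hBt3
    rw [h1, hRR] at h2
    simp only [mul_zero, add_zero] at h2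
    have h4 : 1 + (R + R + R) - 1 = 0 := by rw [h2, sub_self]
    rwa [add_sub_cancel_left] at h4
  apply hR0
  have h5 : (3 : F) • R = 0 := by
    rw [show (3 : F) = 1 + 1 + 1 by norm_num, add_smul, add_smul, one_smul]
    exact h3R
  rcases smul_eq_zero.mp h5 with h | h
  · exact absurd h h3F
  · exact h

theorem trans_pow {F : Type*} [Field F] {d : ℕ} (i j : Fin d) (hij : i ≠ j) (k : ℕ) :
    (Matrix.transvection i j (1 : F)) ^ k = Matrix.transvection i j (k : F) := by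
  induction k with
  | zero => rw [pow_zero, Nat.cast_zero, Matrix.transvection_zero]
  | succ k ih =>
    rw [pow_succ, ih, Matrix.transvection_mul_transvection_same i j hij, Nat.cast_succ]

theorem trans_apply {F : Type*} [Field F] {d : ℕ} (i j : Fin d) (hij : i ≠ j) (c : F) :
    (Matrix.transvection i j c) i j = c := by
  simp [Matrix.transvection, Matrix.one_apply_ne hij]

theorem exists_block {F : Type*} [Field F] (n a b : ℕ) (hab : a + b = n)
    (X : Matrix (Fin a) (Fin a) F) (Y : Matrix (Fin b) (Fin b) F) :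
    ∃ M : Matrix (Fin n) (Fin n) F, M.det = X.det * Y.det ∧
      ∀ (j : ℕ) (c : F), M ^ j = c • (1 : Matrix (Fin n) (Fin n) F) ↔
        (X ^ j = c • (1 : Matrix (Fin a) (Fin a) F) ∧
          Y ^ j = c • (1 : Matrix (Fin b) (Fin b) F)) := by
  classical
  subst hab
  obtain ⟨φ, hφ⟩ : ∃ φ : Matrix (Fin a ⊕ Fin b) (Fin a ⊕ Fin b) F ≃ₐ[F]
      Matrix (Fin (a + b)) (Fin (a + b)) F, φ = Matrix.reindexAlgEquiv F F finSumFinEquiv :=
    ⟨_, rfl⟩
  have hpow : ∀ j : ℕ, (Matrix.fromBlocks X 0 0 Y) ^ j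
      = Matrix.fromBlocks (X ^ j) 0 0 (Y ^ j) := by
    intro j
    induction j with
    | zero => rw [pow_zero, pow_zero, pow_zero, Matrix.fromBlocks_one]
    | succ j ih =>
      rw [pow_succ, ih, Matrix.fromBlocks_multiply]
      simp [pow_succ]
  refine ⟨φ (Matrix.fromBlocks X 0 0 Y), ?_, ?_⟩
  · rw [hφ, Matrix.det_reindexAlgEquiv, Matrix.det_fromBlocks_zero₁₂]
  · intro j c
    rw [← map_pow, hpow]
    have h2 : (Matrix.fromBlocks (c • (1 : Matrix (Fin a) (Fin a) F)) 0 0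
        (c • (1 : Matrix (Fin b) (Fin b) F)))
        = c • (1 : Matrix (Fin a ⊕ Fin b) (Fin a ⊕ Fin b) F) := by
      rw [← Matrix.fromBlocks_one, Matrix.fromBlocks_smul, smul_zero, smul_zero]
    have h1 : c • (1 : Matrix (Fin (a + b)) (Fin (a + b)) F)
        = φ (Matrix.fromBlocks (c • (1 : Matrix (Fin a) (Fin a) F)) 0 0
          (c • (1 : Matrix (Fin b) (Fin b) F))) := by
      rw [h2, map_smul, map_one]
    rw [h1, φ.injective.eq_iff, Matrix.fromBlocks_inj]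
    constructor
    · rintro ⟨h1, -, -, h2⟩
      exact ⟨h1, h2⟩
    · rintro ⟨h1, h2⟩
      exact ⟨h1, rfl, rfl, h2⟩

theorem psl_order {F : Type*} [Field F] [Fintype F] (n : ℕ) (M : Matrix (Fin n) (Fin n) F)
    (hdet : M.det = 1) (r p : ℕ) (hr : r.Prime) (hp : p.Prime) (hrp : r ≠ p)
    (h1 : ∃ c : F, M ^ (r * p) = c • (1 : Matrix (Fin n) (Fin n) F))
    (h2 : ∀ c : F, M ^ r ≠ c • (1 : Matrix (Fin n) (Fin n) F))
    (h3 : ∀ c : F, M ^ p ≠ c • (1 : Matrix (Fin n) (Fin n) F)) :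
    ∃ g : Matrix.ProjectiveSpecialLinearGroup (Fin n) F, orderOf g = r * p := by
  classical
  obtain ⟨gS, hgS⟩ : ∃ gS : Matrix.SpecialLinearGroup (Fin n) F, gS = ⟨M, hdet⟩ := ⟨_, rfl⟩
  have hcoe : ∀ j : ℕ, ((gS ^ j : Matrix.SpecialLinearGroup (Fin n) F) :
      Matrix (Fin n) (Fin n) F) = M ^ j := by
    intro j
    rw [Matrix.SpecialLinearGroup.coe_pow, hgS]
  have hcenter : ∀ N : Matrix.SpecialLinearGroup (Fin n) F,
      N ∈ Subgroup.center (Matrix.SpecialLinearGroup (Fin n) F) ↔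
      ∃ r : F, r ^ n = 1 ∧ (N : Matrix (Fin n) (Fin n) F) = r • 1 := by
    intro N
    rw [Matrix.SpecialLinearGroup.mem_center_iff, Fintype.card_fin]
    constructor
    · rintro ⟨r, hr, hM⟩
      exact ⟨r, hr, by rw [← hM, Matrix.smul_one_eq_diagonal]; rfl⟩
    · rintro ⟨r, hr, hM⟩
      exact ⟨r, hr, by rw [hM, Matrix.smul_one_eq_diagonal]; rfl⟩
  obtain ⟨g, hg⟩ : ∃ g : Matrix.ProjectiveSpecialLinearGroup (Fin n) F,
      g = QuotientGroup.mk gS := ⟨_, rfl⟩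
  have hpow : ∀ j : ℕ, g ^ j = 1 ↔ ∃ c : F, M ^ j = c • (1 : Matrix (Fin n) (Fin n) F) := by
    intro j
    rw [hg, ← QuotientGroup.mk_pow, QuotientGroup.eq_one_iff, hcenter, hcoe]
    constructor
    · rintro ⟨c, -, hc⟩
      exact ⟨c, hc⟩
    · rintro ⟨c, hc⟩
      refine ⟨c, ?_, hc⟩
      have h := congrArg Matrix.det hc
      rw [Matrix.det_pow, hdet, one_pow, Matrix.det_smul, Matrix.det_one, mul_one,
        Fintype.card_fin] at h
      exact h.symm
  refine ⟨g, ?_⟩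
  have hdvd : orderOf g ∣ r * p := orderOf_dvd_of_pow_eq_one ((hpow _).mpr h1)
  obtain ⟨d₁, d₂, hd₁, hd₂, hd⟩ := Nat.dvd_mul.mp hdvd
  rcases (Nat.dvd_prime hr).mp hd₁ with h | h
  · exfalso
    rw [h, one_mul] at hd
    have h4 : orderOf g ∣ p := by
      rw [← hd]
      exact hd₂
    obtain ⟨c, hc⟩ := (hpow p).mp (orderOf_dvd_iff_pow_eq_one.mp h4)
    exact h3 c hc
  · rcases (Nat.dvd_prime hp).mp hd₂ with h' | h'
    · exfalso
      rw [h, h', mul_one] at hd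
      have h4 : orderOf g ∣ r := by rw [← hd]
      obtain ⟨c, hc⟩ := (hpow r).mp (orderOf_dvd_iff_pow_eq_one.mp h4)
      exact h2 c hc
    · rw [← hd, h, h']

theorem exists_order {F : Type*} [Field F] [Fintype F] (d : ℕ) (hd : d ∣ Fintype.card F - 1) :
    ∃ ζ : F, orderOf ζ = d := by
  obtain ⟨γ, hγ0, hγord, -⟩ := Cfsg.Agent.S2670.exists_gen F
  refine ⟨γ ^ ((Fintype.card F - 1) / d), ?_⟩
  have h := orderOf_pow_orderOf_div (x := γ) (n := d)
    (by rw [hγord]; have := Fintype.one_lt_card (α := F); omega) (by rw [hγord]; exact hd)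
  rw [hγord] at h
  exact h

theorem exists_rp {F : Type*} [Field F] [Fintype F] (p : ℕ) [Fact p.Prime] [CharP F p]
    (n a : ℕ) (ha1 : 1 ≤ a) (han : a + 2 ≤ n) (r : ℕ) (hr : r.Prime) (hrp : r ≠ p)
    (C : Matrix (Fin a) (Fin a) F) (hCdet : C.det = 1) (hCr : C ^ r = 1) (hC1 : C ≠ 1) :
    ∃ g : Matrix.ProjectiveSpecialLinearGroup (Fin n) F, orderOf g = r * p := by
  classical
  have hpp : p.Prime := Fact.out
  have hpF : (p : F) = 0 := CharP.cast_eq_zero F p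
  have hrF : (r : F) ≠ 0 := by
    intro h
    rw [CharP.cast_eq_zero_iff F p] at h
    exact hrp ((Nat.prime_dvd_prime_iff_eq hpp hr).mp h).symm
  obtain ⟨b, hb⟩ : ∃ b, b = n - a := ⟨_, rfl⟩
  have hb2 : 2 ≤ b := by omega
  obtain ⟨i₀, hi₀⟩ : ∃ i₀ : Fin b, i₀ = ⟨0, by omega⟩ := ⟨_, rfl⟩
  obtain ⟨i₁, hi₁⟩ : ∃ i₁ : Fin b, i₁ = ⟨1, by omega⟩ := ⟨_, rfl⟩
  have hne : i₀ ≠ i₁ := by
    rw [hi₀, hi₁]
    intro h
    have := congrArg Fin.val h
    simp at this
  obtain ⟨T, hT⟩ : ∃ T : Matrix (Fin b) (Fin b) F, T = Matrix.transvection i₀ i₁ (1 : F) :=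
    ⟨_, rfl⟩
  have hTpow : ∀ j : ℕ, T ^ j = Matrix.transvection i₀ i₁ (j : F) := fun j => by
    rw [hT, trans_pow i₀ i₁ hne]
  obtain ⟨M, hMdet, hM⟩ := exists_block n a b (by omega) C T
  refine psl_order n M ?_ r p hr hpp hrp ⟨1, ?_⟩ ?_ ?_
  · rw [hMdet, hCdet, hT, Matrix.det_transvection_of_ne i₀ i₁ hne, mul_one]
  · rw [hM]
    refine ⟨by rw [pow_mul, hCr, one_pow, one_smul], ?_⟩
    rw [hTpow, Nat.cast_mul, hpF, mul_zero, Matrix.transvection_zero, one_smul]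
  · intro c hc
    obtain ⟨-, h2⟩ := (hM r c).mp hc
    rw [hTpow] at h2
    have h3 := congrFun (congrFun h2 i₀) i₁
    rw [trans_apply i₀ i₁ hne, Matrix.smul_apply, Matrix.one_apply_ne hne, smul_zero] at h3
    exact hrF h3
  · intro c hc
    obtain ⟨h1, h2⟩ := (hM p c).mp hc
    rw [hTpow, hpF, Matrix.transvection_zero] at h2
    have h3 := congrFun (congrFun h2 i₀) i₀
    rw [Matrix.one_apply_eq, Matrix.smul_apply, Matrix.one_apply_eq, smul_eq_mul, mul_one] at h3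
    rw [← h3, one_smul] at h1
    apply hC1
    have h4 := pow_gcd_eq_one.mpr ⟨h1, hCr⟩
    rw [Nat.Coprime.gcd_eq_one ((Nat.coprime_primes hpp hr).mpr (Ne.symm hrp)), pow_one] at h4
    exact h4

theorem exists_rp3 {F : Type*} [Field F] [Fintype F] (p : ℕ) [Fact p.Prime] [CharP F p]
    (r : ℕ) (hr : r.Prime) (hrp : r ≠ p) (ζ : F) (hζ0 : ζ ≠ 0) (h1 : ζ ^ (3 * r) = 1)
    (h2 : ζ ^ (3 * p) ≠ 1) :
    ∃ g : Matrix.ProjectiveSpecialLinearGroup (Fin 3) F, orderOf g = r * p := by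
  classical
  have hpp : p.Prime := Fact.out
  have hpF : (p : F) = 0 := CharP.cast_eq_zero F p
  have hrF : (r : F) ≠ 0 := by
    intro h
    rw [CharP.cast_eq_zero_iff F p] at h
    exact hrp ((Nat.prime_dvd_prime_iff_eq hpp hr).mp h).symm
  have hne : (0 : Fin 2) ≠ 1 := by decide
  obtain ⟨T, hT⟩ : ∃ T : Matrix (Fin 2) (Fin 2) F,
      T = Matrix.transvection (0 : Fin 2) 1 (1 : F) := ⟨_, rfl⟩
  have hTpow : ∀ j : ℕ, T ^ j = Matrix.transvection (0 : Fin 2) 1 (j : F) := fun j => by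
    rw [hT, trans_pow 0 1 hne]
  obtain ⟨X, hX⟩ : ∃ X : Matrix (Fin 2) (Fin 2) F, X = ζ • T := ⟨_, rfl⟩
  obtain ⟨Y, hY⟩ : ∃ Y : Matrix (Fin 1) (Fin 1) F,
      Y = (ζ⁻¹ ^ 2) • (1 : Matrix (Fin 1) (Fin 1) F) := ⟨_, rfl⟩
  have hXpow : ∀ j : ℕ, X ^ j = ζ ^ j • Matrix.transvection (0 : Fin 2) 1 (j : F) := fun j => by
    rw [hX, smul_pow, hTpow]
  have hYpow : ∀ j : ℕ, Y ^ j = (ζ⁻¹ ^ 2) ^ j • (1 : Matrix (Fin 1) (Fin 1) F) := fun j => by
    rw [hY, smul_pow, one_pow]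
  have hkey : ∀ m : ℕ, (ζ⁻¹ ^ 2) ^ m = ζ ^ m ↔ ζ ^ (3 * m) = 1 := by
    intro m
    have e1 : (ζ⁻¹ ^ 2) ^ m = ((ζ ^ 2) ^ m)⁻¹ := by rw [inv_pow, inv_pow]
    have e2 : ζ ^ (3 * m) = ζ ^ m * (ζ ^ 2) ^ m := by
      rw [← pow_mul, ← pow_add]
      congr 1
      ring
    have hne0 : (ζ ^ 2) ^ m ≠ 0 := pow_ne_zero _ (pow_ne_zero _ hζ0)
    rw [e1, e2]
    constructor
    · intro h
      rw [← h, inv_mul_cancel₀ hne0]
    · intro h
      exact (eq_inv_of_mul_eq_one_left h).symm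
  obtain ⟨M, hMdet, hM⟩ := exists_block 3 2 1 rfl X Y
  refine psl_order 3 M ?_ r p hr hpp hrp ⟨ζ ^ (r * p), ?_⟩ ?_ ?_
  · rw [hMdet, hX, hY, Matrix.det_smul, Matrix.det_smul, hT,
      Matrix.det_transvection_of_ne 0 1 hne, Matrix.det_one, Fintype.card_fin, Fintype.card_fin,
      mul_one, mul_one, pow_one, ← mul_pow, mul_inv_cancel₀ hζ0, one_pow]
  · rw [hM]
    constructor
    · rw [hXpow, Nat.cast_mul, hpF, mul_zero, Matrix.transvection_zero]
    · rw [hYpow, (hkey (r * p)).mpr (by rw [← mul_assoc, pow_mul, h1, one_pow])]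
  · intro c hc
    obtain ⟨h3, -⟩ := (hM r c).mp hc
    rw [hXpow] at h3
    have h4 := congrFun (congrFun h3 0) 1
    rw [Matrix.smul_apply, trans_apply 0 1 hne, Matrix.smul_apply, Matrix.one_apply_ne hne,
      smul_zero, smul_eq_mul] at h4
    rcases mul_eq_zero.mp h4 with h | h
    · exact pow_ne_zero _ hζ0 h
    · exact hrF h
  · intro c hc
    obtain ⟨h3, h4⟩ := (hM p c).mp hc
    rw [hXpow, hpF, Matrix.transvection_zero] at h3
    rw [hYpow] at h4
    have h5 := congrFun (congrFun h3 0) 0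
    have h6 := congrFun (congrFun h4 0) 0
    rw [Matrix.smul_apply, Matrix.one_apply_eq, Matrix.smul_apply, Matrix.one_apply_eq,
      smul_eq_mul, smul_eq_mul, mul_one, mul_one] at h5 h6
    exact h2 ((hkey p).mp (h6.trans h5.symm))

end Cfsg.Agent.Helper14.PslAdj
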