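import Mathlib
import Cfsg.Agent.Helper14.PslAdj

set_option autoImplicit false

namespace Cfsg.Agent.Helper14.Psl3c

open Matrix

theorem root_mem {F K : Type*} [Field F] [Fintype F] [Field K] [Algebra F K] (m : ℕ)
    (hm0 : 0 < m) (hm : m ∣ Fintype.card F - 1) (z : K) (hz : z ^ m = 1) :
    ∃ c : F, algebraMap F K c = z := by
  obtain ⟨μ, hμ⟩ := Cfsg.Agent.Helper14.PslAdj.exists_order (F := F) m hm
  have hprim : IsPrimitiveRoot μ m := by rw [← hμ]; exact IsPrimitiveRoot.orderOf μ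
  have hprim' : IsPrimitiveRoot (algebraMap F K μ) m :=
    hprim.map_of_injective (algebraMap F K).injective
  haveI : NeZero m := ⟨hm0.ne'⟩
  obtain ⟨i, -, hi⟩ := hprim'.eq_pow_of_pow_eq_one hz
  exact ⟨μ ^ i, by rw [map_pow, hi]⟩

theorem singer2 {F K : Type*} [Field F] [Fintype F] [Field K] [Algebra F K] [Finite K]
    (hfin : Module.finrank F K = 2) :
    ∃ (Z : Matrix (Fin 2) (Fin 2) F) (δ' : F),
      (∀ j : ℕ, Z ^ j = 1 ↔ (Fintype.card F ^ 2 - 1) ∣ j) ∧
      Z ^ (Fintype.card F + 1) = δ' • (1 : Matrix (Fin 2) (Fin 2) F) ∧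
      (∀ (j : ℕ) (c : F), Z ^ j = c • (1 : Matrix (Fin 2) (Fin 2) F) →
        (Fintype.card F + 1) ∣ j) := by
  classical
  haveI : Module.Finite F K := Module.finite_of_finrank_pos (by rw [hfin]; norm_num)
  obtain ⟨b⟩ : Nonempty (Module.Basis (Fin 2) F K) := ⟨Module.finBasisOfFinrankEq F K hfin⟩
  obtain ⟨φ0, hφ0def⟩ : ∃ φ0 : K →ₐ[F] Matrix (Fin 2) (Fin 2) F,
      φ0 = Algebra.leftMulMatrix b := ⟨_, rfl⟩
  have hinj : Function.Injective φ0 := by
    rw [hφ0def]; exact Algebra.leftMulMatrix_injective b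
  have hcardK : Nat.card K = Fintype.card F ^ 2 := by
    rw [Module.natCard_eq_pow_finrank (K := F) (V := K), hfin, Nat.card_eq_fintype_card]
  obtain ⟨ω, hω⟩ := IsCyclic.exists_generator (α := Kˣ)
  have hordω : orderOf ω = Fintype.card F ^ 2 - 1 := by
    rw [orderOf_eq_card_of_forall_mem_zpowers hω, Nat.card_units, hcardK]
  have hφpow : ∀ j : ℕ, φ0 ((ω : K) ^ j) = (φ0 (ω : K)) ^ j := fun j => map_pow φ0 _ j
  have hscal : ∀ c : F, φ0 (algebraMap F K c) = c • (1 : Matrix (Fin 2) (Fin 2) F) := by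
    intro c
    rw [Algebra.algebraMap_eq_smul_one, map_smul, map_one]
  have hq2 : 2 ≤ Fintype.card F := Fintype.one_lt_card
  have hfac : Fintype.card F ^ 2 - 1 = (Fintype.card F - 1) * (Fintype.card F + 1) := by
    obtain ⟨t, ht⟩ : ∃ t, Fintype.card F = t + 1 := ⟨Fintype.card F - 1, by omega⟩
    rw [ht]
    have h : (t + 1) ^ 2 = t * (t + 1 + 1) + 1 := by ring
    rw [h, Nat.add_sub_cancel, Nat.add_sub_cancel]
  have h1 : ((ω : K) ^ (Fintype.card F + 1)) ^ (Fintype.card F - 1) = 1 := by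
    rw [← pow_mul, mul_comm, ← hfac, ← hordω, ← Units.val_pow_eq_pow_val, pow_orderOf_eq_one,
      Units.val_one]
  obtain ⟨δ', hδ'⟩ := root_mem (F := F) (K := K) (Fintype.card F - 1) (by omega) dvd_rfl _ h1
  refine ⟨φ0 (ω : K), δ', ?_, ?_, ?_⟩
  · intro j
    rw [← hφpow, ← hordω, orderOf_dvd_iff_pow_eq_one]
    constructor
    · intro h
      have h2 : (ω : K) ^ j = 1 := hinj (by rw [h, map_one])
      exact Units.ext (by rw [Units.val_pow_eq_pow_val, h2, Units.val_one])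
    · intro h
      rw [← Units.val_pow_eq_pow_val, h, Units.val_one, map_one]
  · rw [← hφpow, ← hδ', hscal]
  · intro j c hc
    rw [← hφpow, ← hscal] at hc
    have h2 : (ω : K) ^ j = algebraMap F K c := hinj hc
    have hc0 : c ≠ 0 := by
      rintro rfl
      rw [map_zero] at h2
      exact (pow_ne_zero j ω.ne_zero) h2
    have h3 : ω ^ (j * (Fintype.card F - 1)) = 1 := by
      apply Units.ext
      rw [Units.val_pow_eq_pow_val, pow_mul, h2, ← map_pow,
        FiniteField.pow_card_sub_one_eq_one c hc0, map_one, Units.val_one]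
    have h4 := orderOf_dvd_of_pow_eq_one h3
    rw [hordω, hfac, mul_comm j] at h4
    exact Nat.dvd_of_mul_dvd_mul_left (by omega) h4

theorem ex_q2m1 {F : Type*} [Field F] [Fintype F] (p : ℕ) [Fact p.Prime] [CharP F p] :
    ∃ M : Matrix (Fin 3) (Fin 3) F, M.det = 1 ∧
      (∃ c : F, M ^ ((Fintype.card F ^ 2 - 1) / Nat.gcd 3 (Fintype.card F - 1)) =
        c • (1 : Matrix (Fin 3) (Fin 3) F)) ∧
      ∀ j : ℕ, (∃ c : F, M ^ j = c • (1 : Matrix (Fin 3) (Fin 3) F)) →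
        (Fintype.card F ^ 2 - 1) / Nat.gcd 3 (Fintype.card F - 1) ∣ j := by
  classical
  obtain ⟨Z, δ', hZ1, hZ2, hZ3⟩ := singer2 (F := F) (K := FiniteField.Extension F p 2)
    (FiniteField.finrank_extension F p 2)
  obtain ⟨t, ht⟩ : ∃ t, Fintype.card F = t + 1 :=
    ⟨Fintype.card F - 1, by have := Fintype.card_pos (α := F); omega⟩
  have ht1 : 1 ≤ t := by have := Fintype.one_lt_card (α := F); omega
  have hq1 : Fintype.card F - 1 = t := by omega
  have hS : Fintype.card F ^ 2 - 1 = t * (t + 2) := by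
    rw [ht]
    have h : (t + 1) ^ 2 = t * (t + 2) + 1 := by ring
    rw [h, Nat.add_sub_cancel]
  have hq2' : Fintype.card F + 1 = t + 2 := by omega
  rw [hS] at hZ1
  rw [hq2'] at hZ2 hZ3
  rw [hS, hq1]
  obtain ⟨δ, hδ⟩ : ∃ δ : F, δ = Z.det := ⟨_, rfl⟩
  have hZone : Z ^ (t * (t + 2)) = 1 := (hZ1 _).mpr dvd_rfl
  have hδ0 : δ ≠ 0 := by
    intro h0
    have h1 := congrArg Matrix.det hZone
    rw [Matrix.det_pow, ← hδ, h0, Matrix.det_one, zero_pow (by positivity)] at h1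
    exact zero_ne_one h1
  have hδt : δ ^ t = 1 := by
    rw [← hq1]; exact FiniteField.pow_card_sub_one_eq_one δ hδ0
  have hδ2 : δ ^ (t + 2) = δ' ^ 2 := by
    have h1 := congrArg Matrix.det hZ2
    rw [Matrix.det_pow, Matrix.det_smul, Matrix.det_one, mul_one, Fintype.card_fin, ← hδ] at h1
    exact h1
  have hδ'' : δ ^ 2 = δ' ^ 2 := by rw [← hδ2, pow_add, hδt, one_mul]
  have hδ'0 : δ' ≠ 0 := by
    intro h0
    rw [h0, zero_pow (by norm_num)] at hδ''
    exact hδ0 (pow_eq_zero_iff (by norm_num) |>.mp hδ'')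
  have hδ't : δ' ^ t = 1 := by
    rw [← hq1]; exact FiniteField.pow_card_sub_one_eq_one δ' hδ'0
  have hδ'ord : ∀ i : ℕ, δ' ^ i = 1 → t ∣ i := by
    intro i hi
    have h1 : Z ^ ((t + 2) * i) = 1 := by rw [pow_mul, hZ2, smul_pow, one_pow, hi, one_smul]
    have h2 := (hZ1 _).mp h1
    rw [mul_comm t] at h2
    exact Nat.dvd_of_mul_dvd_mul_left (by omega) h2
  obtain ⟨d, hd⟩ : ∃ d, d = Nat.gcd 3 t := ⟨_, rfl⟩
  have hd3 : d ∣ 3 := by rw [hd]; exact Nat.gcd_dvd_left 3 t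
  have hdt : d ∣ t := by rw [hd]; exact Nat.gcd_dvd_right 3 t
  have hd0 : 0 < d := by rw [hd]; exact Nat.gcd_pos_of_pos_left _ (by norm_num)
  obtain ⟨e, he⟩ := hdt
  obtain ⟨f, hf⟩ := hd3
  have hcop : Nat.Coprime e f := by
    have h1 : Nat.gcd (d * f) (d * e) = d * 1 := by rw [← hf, ← he, mul_one, hd]
    rw [Nat.gcd_mul_left] at h1
    exact Nat.Coprime.symm (Nat.eq_of_mul_eq_mul_left hd0 h1)
  have hdiv : t * (t + 2) / d = e * (t + 2) := by
    apply Nat.div_eq_of_eq_mul_right hd0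
    rw [← mul_assoc, ← he]
  rw [← hd, hdiv]
  have h3e : e + 2 * e = f * t := by
    rw [he]
    calc e + 2 * e = 3 * e := by ring
      _ = (d * f) * e := by rw [← hf]
      _ = f * (d * e) := by ring
  obtain ⟨M, hMdet, hM⟩ := Cfsg.Agent.Helper14.PslAdj.exists_block 3 2 1 (by norm_num) Z
    (δ⁻¹ • (1 : Matrix (Fin 1) (Fin 1) F))
  have hY : ∀ (j : ℕ) (c : F), (δ⁻¹ • (1 : Matrix (Fin 1) (Fin 1) F)) ^ j =
      c • (1 : Matrix (Fin 1) (Fin 1) F) ↔ c = (δ⁻¹) ^ j := by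
    intro j c
    rw [smul_pow, one_pow]
    constructor
    · intro h
      have h1 := congrFun (congrFun h 0) 0
      rw [Matrix.smul_apply, Matrix.smul_apply, Matrix.one_apply_eq, smul_eq_mul, smul_eq_mul,
        mul_one, mul_one] at h1
      exact h1.symm
    · intro h
      rw [h]
  refine ⟨M, ?_, ⟨δ' ^ e, ?_⟩, ?_⟩
  · rw [hMdet, ← hδ, Matrix.det_smul, Matrix.det_one, Fintype.card_fin, pow_one, mul_one,
      mul_inv_cancel₀ hδ0]
  · rw [hM, hY]
    refine ⟨?_, ?_⟩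
    · rw [mul_comm, pow_mul, hZ2, smul_pow, one_pow]
    · rw [inv_pow, mul_comm e, pow_mul δ (t + 2) e, hδ2, ← pow_mul]
      apply eq_inv_of_mul_eq_one_left
      rw [← pow_add, h3e, mul_comm, pow_mul, hδ't, one_pow]
  · rintro j ⟨c, hc⟩
    obtain ⟨h1, h2⟩ := (hM j c).mp hc
    rw [hY] at h2
    obtain ⟨i, hi⟩ := hZ3 j c h1
    have h3 : δ' ^ i = c := by
      rw [hi, pow_mul, hZ2, smul_pow, one_pow] at h1
      have h5 := congrFun (congrFun h1 0) 0
      rw [Matrix.smul_apply, Matrix.smul_apply, Matrix.one_apply_eq, smul_eq_mul, smul_eq_mul,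
        mul_one, mul_one] at h5
      exact h5
    have h5 : δ' ^ i * δ' ^ (2 * i) = 1 := by
      rw [h3, h2, hi, inv_pow, pow_mul δ (t + 2) i, hδ2, ← pow_mul,
        inv_mul_cancel₀ (pow_ne_zero _ hδ'0)]
    have h4 : δ' ^ (i + 2 * i) = 1 := by rw [pow_add]; exact h5
    have h6 : d * e ∣ d * (f * i) := by
      rw [← he, ← mul_assoc, ← hf]
      have h7 : 3 * i = i + 2 * i := by ring
      rw [h7]
      exact hδ'ord _ h4
    have h7 : e ∣ f * i := Nat.dvd_of_mul_dvd_mul_left hd0 h6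
    have h8 : e ∣ i := hcop.dvd_of_dvd_mul_left h7
    rw [hi, mul_comm e]
    exact Nat.mul_dvd_mul_left _ h8

end Cfsg.Agent.Helper14.Psl3c
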