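import Mathlib
import Cfsg.Agent.S5947
import Cfsg.Agent.S2904
import Cfsg.Agent.Helper2.SLCard

/-!
# Elements of order `r * s` in `PSL_n(q)` for two primes different from the characteristic
-/

set_option autoImplicit false

namespace Cfsg.Agent.Helper14.PslAdj2

open Matrix

theorem fix_dvd {F V : Type*} [Field F] [Fintype F] [AddCommGroup V] [Module F V] [Finite V]
    (s : ℕ) [Fact s.Prime] (hsq : ¬ s ∣ Fintype.card F) (X : Module.End F V) (hXs : X ^ s = 1)
    (W : Submodule F V) (hW : ∀ w ∈ W, X w ∈ W) :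
    orderOf ((Fintype.card F : ℕ) : ZMod s) ∣
      Module.finrank F W - Module.finrank F ↥(W ⊓ LinearMap.ker (X - 1)) := by
  classical
  have hq0 : ((Fintype.card F : ℕ) : ZMod s) ≠ 0 := by
    rw [Ne, ZMod.natCast_eq_zero_iff]
    exact hsq
  have h := S5947.fix_count s X hXs W hW
  rw [S5947.card_sub, S5947.card_sub] at h
  have hle : Module.finrank F ↥(W ⊓ LinearMap.ker (X - 1)) ≤ Module.finrank F W :=
    Submodule.finrank_mono inf_le_left
  have h2 : ((Fintype.card F : ℕ) : ZMod s) ^ Module.finrank F W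
      = ((Fintype.card F : ℕ) : ZMod s) ^ Module.finrank F ↥(W ⊓ LinearMap.ker (X - 1)) := by
    have := (ZMod.natCast_eq_natCast_iff _ _ _).mpr h
    push_cast at this
    exact this
  have h3 : ((Fintype.card F : ℕ) : ZMod s)
      ^ (Module.finrank F W - Module.finrank F ↥(W ⊓ LinearMap.ker (X - 1))) = 1 := by
    have h4 : ((Fintype.card F : ℕ) : ZMod s) ^ Module.finrank F ↥(W ⊓ LinearMap.ker (X - 1))
        * ((Fintype.card F : ℕ) : ZMod s)
          ^ (Module.finrank F W - Module.finrank F ↥(W ⊓ LinearMap.ker (X - 1)))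
        = ((Fintype.card F : ℕ) : ZMod s) ^ Module.finrank F ↥(W ⊓ LinearMap.ker (X - 1)) * 1 := by
      rw [← pow_add, Nat.add_sub_cancel' hle, mul_one, h2]
    exact mul_left_cancel₀ (pow_ne_zero _ hq0) h4
  exact orderOf_dvd_of_pow_eq_one h3

theorem no_rs_lin {F V : Type*} [Field F] [Fintype F] [AddCommGroup V] [Module F V] [Finite V]
    (r s : ℕ) [Fact r.Prime] [Fact s.Prime] (hrq : ¬ r ∣ Fintype.card F)
    (hsq : ¬ s ∣ Fintype.card F) (n : ℕ) (hdim : Module.finrank F V = n) (k l : ℕ)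
    (hk : k = orderOf ((Fintype.card F : ℕ) : ZMod r))
    (hl : l = orderOf ((Fintype.card F : ℕ) : ZMod s))
    (hk1 : 1 ≤ k) (hkl : k ≤ l) (hn : n < k + l) (hkdl : ¬ k ∣ l)
    (A B : Module.End F V) (hA : A ^ r = 1) (hA1 : A ≠ 1) (hB : B ^ s = 1) (hB1 : B ≠ 1)
    (hAB : A * B = B * A) : False := by
  classical
  obtain ⟨EA, hEA⟩ : ∃ EA : Submodule F V, EA = LinearMap.ker (A - 1) := ⟨_, rfl⟩
  obtain ⟨EB, hEB⟩ : ∃ EB : Submodule F V, EB = LinearMap.ker (B - 1) := ⟨_, rfl⟩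
  have hmemA : ∀ v, v ∈ EA ↔ A v = v := fun v => by
    rw [hEA, LinearMap.mem_ker, LinearMap.sub_apply, sub_eq_zero]
    exact Iff.rfl
  have hmemB : ∀ v, v ∈ EB ↔ B v = v := fun v => by
    rw [hEB, LinearMap.mem_ker, LinearMap.sub_apply, sub_eq_zero]
    exact Iff.rfl
  have hABv : ∀ v, A (B v) = B (A v) := fun v => congrArg (fun f : Module.End F V => f v) hAB
  have hEAtop : EA ≠ ⊤ := by
    intro h
    apply hA1
    apply LinearMap.ext
    intro v
    exact (hmemA v).mp (by rw [h]; exact Submodule.mem_top)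
  have hEBtop : EB ≠ ⊤ := by
    intro h
    apply hB1
    apply LinearMap.ext
    intro v
    exact (hmemB v).mp (by rw [h]; exact Submodule.mem_top)
  have hdA : Module.finrank F EA < n := hdim ▸ Submodule.finrank_lt hEAtop
  have hdB : Module.finrank F EB < n := hdim ▸ Submodule.finrank_lt hEBtop
  have h1 := fix_dvd r hrq A hA ⊤ (fun _ _ => Submodule.mem_top)
  rw [top_inf_eq, finrank_top, hdim, ← hEA, ← hk] at h1
  have h2 := fix_dvd s hsq B hB ⊤ (fun _ _ => Submodule.mem_top)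
  rw [top_inf_eq, finrank_top, hdim, ← hEB, ← hl] at h2
  have hk' : k ≤ n - Module.finrank F EA := Nat.le_of_dvd (by omega) h1
  have hl' : l ≤ n - Module.finrank F EB := Nat.le_of_dvd (by omega) h2
  have h3 := fix_dvd r hrq A hA EB (fun w hw => by
    rw [hmemB] at hw ⊢
    rw [← hABv, hw])
  rw [← hEA, ← hk] at h3
  have h4 := fix_dvd s hsq B hB EA (fun w hw => by
    rw [hmemA] at hw ⊢
    rw [hABv, hw])
  rw [← hEB, ← hl] at h4
  have h5 : Module.finrank F ↥(EB ⊓ EA) ≤ Module.finrank F EB :=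
    Submodule.finrank_mono inf_le_left
  have h6 : Module.finrank F ↥(EA ⊓ EB) ≤ Module.finrank F EA :=
    Submodule.finrank_mono inf_le_left
  have h7 : Module.finrank F ↥(EB ⊓ EA) = Module.finrank F EB := by
    by_contra hne
    have := Nat.le_of_dvd (by omega) h3
    omega
  have h8 : Module.finrank F ↥(EA ⊓ EB) = Module.finrank F EA := by
    by_contra hne
    have := Nat.le_of_dvd (by omega) h4
    omega
  have h9 : EB ⊓ EA = EB := Submodule.eq_of_le_of_finrank_eq inf_le_left h7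
  have h10 : EA ⊓ EB = EA := Submodule.eq_of_le_of_finrank_eq inf_le_left h8
  have h11 : EA = EB := by rw [← h10, inf_comm, h9]
  have h12 : n - Module.finrank F EB = l :=
    Nat.eq_of_dvd_of_lt_two_mul (by omega) h2 (by omega)
  have h13 : Module.finrank F EA = Module.finrank F EB := by rw [h11]
  rw [h13, h12] at h1
  exact hkdl h1

theorem lift_ss {F : Type*} [Field F] [Fintype F] (n : ℕ) (hn : 2 ≤ n) (r s : ℕ)
    (hr : r.Prime) (hs : s.Prime) (hr1 : ¬ r ∣ Fintype.card F - 1)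
    (hs1 : ¬ s ∣ Fintype.card F - 1)
    (a b : Matrix.ProjectiveSpecialLinearGroup (Fin n) F) (ha : orderOf a = r)
    (hb : orderOf b = s) (hab : a * b = b * a) :
    ∃ (A B : Matrix (Fin n) (Fin n) F), A ^ r = 1 ∧ A ≠ 1 ∧ B ^ s = 1 ∧ B ≠ 1 ∧
      A * B = B * A := by
  classical
  haveI : NeZero n := ⟨by omega⟩
  obtain ⟨A, hA⟩ := QuotientGroup.mk_surjective a
  obtain ⟨B, hB⟩ := QuotientGroup.mk_surjective b
  have hcenter : ∀ M : Matrix.SpecialLinearGroup (Fin n) F,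
      M ∈ Subgroup.center (Matrix.SpecialLinearGroup (Fin n) F) ↔
      ∃ r : F, r ^ n = 1 ∧ (M : Matrix (Fin n) (Fin n) F) = r • 1 := by
    intro M
    rw [Matrix.SpecialLinearGroup.mem_center_iff, Fintype.card_fin]
    constructor
    · rintro ⟨r, hr, hM⟩
      exact ⟨r, hr, by rw [← hM, Matrix.smul_one_eq_diagonal]; rfl⟩
    · rintro ⟨r, hr, hM⟩
      exact ⟨r, hr, by rw [hM, Matrix.smul_one_eq_diagonal]; rfl⟩
  have hnotc : ∀ M : Matrix.SpecialLinearGroup (Fin n) F,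
      M ∉ Subgroup.center (Matrix.SpecialLinearGroup (Fin n) F) →
      ∀ c : F, (M : Matrix (Fin n) (Fin n) F) ≠ c • 1 := by
    intro M hM c hc
    apply hM
    rw [hcenter]
    refine ⟨c, ?_, hc⟩
    have h1 := M.det_coe
    rw [hc, Matrix.det_smul, Matrix.det_one, mul_one, Fintype.card_fin] at h1
    exact h1
  have hAp : A ^ r ∈ Subgroup.center (Matrix.SpecialLinearGroup (Fin n) F) := by
    rw [← QuotientGroup.eq_one_iff, QuotientGroup.mk_pow, hA, ← ha, pow_orderOf_eq_one]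
  have hAnc : A ∉ Subgroup.center (Matrix.SpecialLinearGroup (Fin n) F) := by
    intro h
    have h1 : a = 1 := by rw [← hA]; exact (QuotientGroup.eq_one_iff A).mpr h
    rw [h1, orderOf_one] at ha
    exact hr.one_lt.ne ha
  have hBs : B ^ s ∈ Subgroup.center (Matrix.SpecialLinearGroup (Fin n) F) := by
    rw [← QuotientGroup.eq_one_iff, QuotientGroup.mk_pow, hB, ← hb, pow_orderOf_eq_one]
  have hBnc : B ∉ Subgroup.center (Matrix.SpecialLinearGroup (Fin n) F) := by
    intro h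
    have h1 : b = 1 := by rw [← hB]; exact (QuotientGroup.eq_one_iff B).mpr h
    rw [h1, orderOf_one] at hb
    exact hs.one_lt.ne hb
  obtain ⟨lam, hlam, hAl⟩ := (hcenter _).mp hAp
  obtain ⟨nu, hnu, hBn⟩ := (hcenter _).mp hBs
  obtain ⟨Z, hZdef⟩ : ∃ Z, Z = (B * A)⁻¹ * (A * B) := ⟨_, rfl⟩
  have hZ : Z ∈ Subgroup.center (Matrix.SpecialLinearGroup (Fin n) F) := by
    rw [hZdef, ← QuotientGroup.eq, QuotientGroup.mk_mul, QuotientGroup.mk_mul, hA, hB, hab]
  obtain ⟨zeta, hzeta, hZz⟩ := (hcenter _).mp hZ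
  have hABz : (A : Matrix (Fin n) (Fin n) F) * (B : Matrix (Fin n) (Fin n) F)
      = zeta • ((B : Matrix (Fin n) (Fin n) F) * (A : Matrix (Fin n) (Fin n) F)) := by
    have h1 : (B * A) * Z = A * B := by rw [hZdef]; group
    have h2 := congrArg
      (fun M : Matrix.SpecialLinearGroup (Fin n) F => (M : Matrix (Fin n) (Fin n) F)) h1
    simp only [Matrix.SpecialLinearGroup.coe_mul] at h2
    rw [hZz, mul_smul_comm, mul_one] at h2
    exact h2.symm
  have hn0 : n ≠ 0 := by omega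
  have hne0 : ∀ c : F, c ^ n = 1 → c ≠ 0 := by
    rintro c hc rfl
    rw [zero_pow hn0] at hc
    exact zero_ne_one hc
  have hlam0 := hne0 lam hlam
  have hnu0 := hne0 nu hnu
  have hzeta0 := hne0 zeta hzeta
  have hroot : ∀ (t : ℕ), t.Prime → ¬ t ∣ Fintype.card F - 1 → ∀ c : F, c ≠ 0 →
      ∃ ρ : F, ρ ≠ 0 ∧ ρ ^ t = c := by
    intro t ht ht1 c hc
    have hcop : (Nat.card Fˣ).Coprime t := by
      rw [Nat.card_units, Nat.card_eq_fintype_card, Nat.coprime_comm]
      exact (Nat.Prime.coprime_iff_not_dvd ht).mpr ht1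
    obtain ⟨rho, hrho⟩ : ∃ rho : Fˣ, rho ^ t = Units.mk0 c hc :=
      ⟨(powCoprime hcop).symm (Units.mk0 c hc), by
        have := (powCoprime hcop).apply_symm_apply (Units.mk0 c hc)
        simpa using this⟩
    refine ⟨(rho : F), rho.ne_zero, ?_⟩
    have := congrArg (fun x : Fˣ => (x : F)) hrho
    simpa using this
  obtain ⟨ρA, hρA0, hρA⟩ := hroot r hr hr1 lam hlam0
  obtain ⟨ρB, hρB0, hρB⟩ := hroot s hs hs1 nu hnu0
  obtain ⟨Am, hAm⟩ : ∃ Am : Matrix (Fin n) (Fin n) F, Am = (A : Matrix (Fin n) (Fin n) F) :=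
    ⟨_, rfl⟩
  obtain ⟨Bm, hBm⟩ : ∃ Bm : Matrix (Fin n) (Fin n) F, Bm = (B : Matrix (Fin n) (Fin n) F) :=
    ⟨_, rfl⟩
  rw [← hAm, ← hBm] at hABz
  have hApm : Am ^ r = lam • (1 : Matrix (Fin n) (Fin n) F) := by
    rw [hAm, ← Matrix.SpecialLinearGroup.coe_pow]; exact hAl
  have hBsm : Bm ^ s = nu • (1 : Matrix (Fin n) (Fin n) F) := by
    rw [hBm, ← Matrix.SpecialLinearGroup.coe_pow]; exact hBn
  obtain ⟨A', hA'⟩ : ∃ A' : Matrix (Fin n) (Fin n) F, A' = ρA⁻¹ • Am := ⟨_, rfl⟩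
  obtain ⟨B', hB'⟩ : ∃ B' : Matrix (Fin n) (Fin n) F, B' = ρB⁻¹ • Bm := ⟨_, rfl⟩
  have hA'r : A' ^ r = 1 := by
    rw [hA', smul_pow, hApm, smul_smul, inv_pow, hρA, inv_mul_cancel₀ hlam0, one_smul]
  have hB's : B' ^ s = 1 := by
    rw [hB', smul_pow, hBsm, smul_smul, inv_pow, hρB, inv_mul_cancel₀ hnu0, one_smul]
  have hA'1 : A' ≠ 1 := by
    intro h
    apply hnotc A hAnc ρA
    have : Am = ρA • (ρA⁻¹ • Am) := by rw [smul_smul, mul_inv_cancel₀ hρA0, one_smul]
    rw [← hAm, this, ← hA', h]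
  have hB'1 : B' ≠ 1 := by
    intro h
    apply hnotc B hBnc ρB
    have : Bm = ρB • (ρB⁻¹ • Bm) := by rw [smul_smul, mul_inv_cancel₀ hρB0, one_smul]
    rw [← hBm, this, ← hB', h]
  have hB'0 : B' ≠ 0 := by
    intro h
    rw [h, zero_pow hs.ne_zero] at hB's
    exact zero_ne_one hB's
  have hcz : A' * B' = zeta • (B' * A') := by
    rw [hA', hB', smul_mul_smul_comm, smul_mul_smul_comm, hABz, smul_smul, smul_smul]
    congr 1
    ring
  have hpowk : ∀ k : ℕ, A' ^ k * B' = zeta ^ k • (B' * A' ^ k) := by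
    intro k
    induction k with
    | zero => simp
    | succ k ih =>
      rw [pow_succ A', mul_assoc, hcz, mul_smul_comm, ← mul_assoc, ih, smul_mul_assoc, smul_smul,
        mul_assoc, pow_succ zeta, mul_comm (zeta ^ k) zeta]
  have hz : zeta ^ r = 1 := by
    have h1 := hpowk r
    rw [hA'r, one_mul, mul_one] at h1
    by_contra hne
    have h2 : (1 - zeta ^ r) • B' = 0 := by rw [sub_smul, one_smul, ← h1, sub_self]
    rcases smul_eq_zero.mp h2 with h3 | h3
    · exact hne (sub_eq_zero.mp h3).symm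
    · exact hB'0 h3
  have hz1 : zeta = 1 := by
    have h1 : zeta ^ (Fintype.card F - 1) = 1 := FiniteField.pow_card_sub_one_eq_one zeta hzeta0
    have h2 := pow_gcd_eq_one.mpr ⟨hz, h1⟩
    rw [Nat.Coprime.gcd_eq_one ((Nat.Prime.coprime_iff_not_dvd hr).mpr hr1), pow_one] at h2
    exact h2
  rw [hz1, one_smul] at hcz
  exact ⟨A', B', hA'r, hA'1, hB's, hB'1, hcz⟩

theorem irr_of_ord {F : Type*} [Field F] [Fintype F] (l : ℕ) (hl1 : 1 ≤ l) (s : ℕ)
    [Fact s.Prime] (hsq : ¬ s ∣ Fintype.card F)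
    (hl : l = orderOf ((Fintype.card F : ℕ) : ZMod s)) (X : Matrix (Fin l) (Fin l) F)
    (hXs : X ^ s = 1) (hX1 : X ≠ 1) (W : Submodule F (Fin l → F))
    (hW : ∀ w ∈ W, X *ᵥ w ∈ W) : W = ⊥ ∨ W = ⊤ := by
  classical
  obtain ⟨φ, hφ⟩ : ∃ φ : Matrix (Fin l) (Fin l) F ≃ₐ[F] Module.End F (Fin l → F),
      φ = Matrix.toLinAlgEquiv' := ⟨_, rfl⟩
  have hφapp : ∀ (M : Matrix (Fin l) (Fin l) F) (v : Fin l → F), φ M v = M *ᵥ v := fun M v => by
    rw [hφ, Matrix.toLinAlgEquiv'_apply]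
  have hφs : (φ X) ^ s = 1 := by rw [← map_pow, hXs, map_one]
  obtain ⟨E, hE⟩ : ∃ E : Submodule F (Fin l → F), E = LinearMap.ker (φ X - 1) := ⟨_, rfl⟩
  have hEtop : E ≠ ⊤ := by
    intro h
    apply hX1
    apply φ.injective
    rw [map_one]
    apply LinearMap.ext
    intro v
    have hv : v ∈ E := by rw [h]; exact Submodule.mem_top
    rw [hE, LinearMap.mem_ker, LinearMap.sub_apply, sub_eq_zero] at hv
    exact hv
  have h1 := fix_dvd s hsq (φ X) hφs ⊤ (fun _ _ => Submodule.mem_top)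
  rw [top_inf_eq, finrank_top, Module.finrank_fin_fun, ← hE, ← hl] at h1
  have hElt : Module.finrank F E < l := by
    have := Submodule.finrank_lt hEtop
    rwa [Module.finrank_fin_fun] at this
  have hE0 : Module.finrank F E = 0 := by
    have := Nat.le_of_dvd (by omega) h1
    omega
  have hEbot : E = ⊥ := Submodule.finrank_eq_zero.mp hE0
  have h2 := fix_dvd s hsq (φ X) hφs W (fun w hw => by rw [hφapp]; exact hW w hw)
  rw [← hE, hEbot, inf_bot_eq, finrank_bot, Nat.sub_zero, ← hl] at h2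
  have hWle : Module.finrank F W ≤ l := by
    have := Submodule.finrank_le W
    rwa [Module.finrank_fin_fun] at this
  rcases Nat.eq_zero_or_pos (Module.finrank F W) with h | h
  · left
    exact Submodule.finrank_eq_zero.mp h
  · right
    have := Nat.le_of_dvd h h2
    apply Submodule.eq_top_of_finrank_eq
    rw [Module.finrank_fin_fun]
    omega

theorem cent_card {F : Type*} [Field F] [Fintype F] (l : ℕ) (hl1 : 1 ≤ l) (s : ℕ)
    [Fact s.Prime] (hsq : ¬ s ∣ Fintype.card F)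
    (hl : l = orderOf ((Fintype.card F : ℕ) : ZMod s)) (x : GL (Fin l) F)
    (hx : orderOf x = s) :
    Nat.card (Subgroup.centralizer ({x} : Set (GL (Fin l) F))) = Fintype.card F ^ l - 1 := by
  classical
  haveI : NeZero l := ⟨by omega⟩
  obtain ⟨X, hX⟩ : ∃ X : Matrix (Fin l) (Fin l) F, X = (x : Matrix (Fin l) (Fin l) F) :=
    ⟨_, rfl⟩
  have hxs : x ^ s = 1 := by
    rw [← hx]
    exact pow_orderOf_eq_one x
  have hXs : X ^ s = 1 := by
    have h := congrArg (fun y : GL (Fin l) F => (y : Matrix (Fin l) (Fin l) F)) hxs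
    simp only [Units.val_pow_eq_pow_val, Units.val_one] at h
    rw [hX]
    exact h
  have hX1 : X ≠ 1 := by
    intro h
    have hx1 : x = 1 := Units.ext (by rw [← hX, h]; rfl)
    rw [hx1, orderOf_one] at hx
    exact (Fact.out : s.Prime).one_lt.ne hx
  have hirr := irr_of_ord l hl1 s hsq hl X hXs hX1
  obtain ⟨v₀, hv₀⟩ : ∃ v₀ : Fin l → F, v₀ ≠ 0 := ⟨Pi.single 0 1, by
    intro h
    have := congrFun h 0
    simp at this⟩
  have hker : ∀ a : Matrix (Fin l) (Fin l) F, a * X = X * a → ∀ v : Fin l → F, v ≠ 0 →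
      a *ᵥ v = 0 → a = 0 := by
    intro a ha v hv hav
    have hK : ∀ w ∈ LinearMap.ker (Matrix.toLin' a), X *ᵥ w ∈ LinearMap.ker (Matrix.toLin' a) := by
      intro w hw
      rw [LinearMap.mem_ker, Matrix.toLin'_apply] at hw ⊢
      rw [Matrix.mulVec_mulVec, ha, ← Matrix.mulVec_mulVec, hw, Matrix.mulVec_zero]
    rcases hirr _ hK with h | h
    · exfalso
      have : v ∈ LinearMap.ker (Matrix.toLin' a) := by
        rw [LinearMap.mem_ker, Matrix.toLin'_apply]
        exact hav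
      rw [h] at this
      exact hv ((Submodule.mem_bot F).mp this)
    · apply Matrix.toLin'.injective
      apply LinearMap.ext
      intro w
      have : w ∈ LinearMap.ker (Matrix.toLin' a) := by rw [h]; exact Submodule.mem_top
      rw [LinearMap.mem_ker] at this
      rw [this, map_zero, LinearMap.zero_apply]
  obtain ⟨S, hS⟩ : ∃ S : Submodule F (Fin l → F), ∀ v, v ∈ S ↔
      ∃ a : Matrix (Fin l) (Fin l) F, a * X = X * a ∧ a *ᵥ v₀ = v :=
    ⟨{ carrier := {v | ∃ a : Matrix (Fin l) (Fin l) F, a * X = X * a ∧ a *ᵥ v₀ = v}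
       add_mem' := by
         rintro u v ⟨a, ha, rfl⟩ ⟨b, hb, rfl⟩
         exact ⟨a + b, by rw [add_mul, mul_add, ha, hb], Matrix.add_mulVec _ _ _⟩
       zero_mem' := ⟨0, by rw [zero_mul, mul_zero], Matrix.zero_mulVec _⟩
       smul_mem' := by
         rintro c v ⟨a, ha, rfl⟩
         exact ⟨c • a, by rw [smul_mul_assoc, mul_smul_comm, ha], Matrix.smul_mulVec _ _ _⟩ },
      fun v => Iff.rfl⟩
  have hStop : S = ⊤ := by
    rcases hirr S (fun w hw => by
      rw [hS] at hw ⊢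
      obtain ⟨a, ha, rfl⟩ := hw
      exact ⟨X * a, by rw [mul_assoc, ha], by rw [Matrix.mulVec_mulVec]⟩) with h | h
    · exfalso
      have : v₀ ∈ S := (hS v₀).mpr ⟨1, by rw [one_mul, mul_one], Matrix.one_mulVec _⟩
      rw [h] at this
      exact hv₀ ((Submodule.mem_bot F).mp this)
    · exact h
  have hmem : ∀ g : GL (Fin l) F, g ∈ Subgroup.centralizer ({x} : Set (GL (Fin l) F)) ↔
      (g : Matrix (Fin l) (Fin l) F) * X = X * (g : Matrix (Fin l) (Fin l) F) := by
    intro g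
    rw [Subgroup.mem_centralizer_iff]
    constructor
    · intro h
      have h1 := h x (Set.mem_singleton x)
      have h2 := congrArg (fun y : GL (Fin l) F => (y : Matrix (Fin l) (Fin l) F)) h1
      simp only [Units.val_mul] at h2
      rw [hX]
      exact h2.symm
    · intro h y hy
      rw [Set.mem_singleton_iff] at hy
      rw [hy]
      apply Units.ext
      rw [Units.val_mul, Units.val_mul, ← hX]
      exact h.symm
  have hne : ∀ g : GL (Fin l) F, (g : Matrix (Fin l) (Fin l) F) *ᵥ v₀ ≠ 0 := by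
    intro g h
    apply hv₀
    have h1 := congrArg (fun v => ((g⁻¹ : GL (Fin l) F) : Matrix (Fin l) (Fin l) F) *ᵥ v) h
    simp only [Matrix.mulVec_mulVec, Matrix.mulVec_zero] at h1
    rw [← Units.val_mul, inv_mul_cancel, Units.val_one, Matrix.one_mulVec] at h1
    exact h1
  let fn : Subgroup.centralizer ({x} : Set (GL (Fin l) F)) → {v : Fin l → F // v ≠ 0} :=
    fun g => ⟨(g.1 : Matrix (Fin l) (Fin l) F) *ᵥ v₀, hne g.1⟩
  have hinj : Function.Injective fn := by
    intro g h hgh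
    have h1 : (g.1 : Matrix (Fin l) (Fin l) F) *ᵥ v₀ = (h.1 : Matrix (Fin l) (Fin l) F) *ᵥ v₀ :=
      congrArg Subtype.val hgh
    have h2 : ((g.1 : Matrix (Fin l) (Fin l) F) - (h.1 : Matrix (Fin l) (Fin l) F)) = 0 := by
      apply hker _ _ v₀ hv₀
      · rw [Matrix.sub_mulVec, h1, sub_self]
      · rw [sub_mul, mul_sub, (hmem g.1).mp g.2, (hmem h.1).mp h.2]
    exact Subtype.ext (Units.ext (sub_eq_zero.mp h2))
  have hsurj : Function.Surjective fn := by
    rintro ⟨v, hv⟩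
    have hvS : v ∈ S := by rw [hStop]; exact Submodule.mem_top
    obtain ⟨a, ha, hav⟩ := (hS v).mp hvS
    have hainj : Function.Injective a.mulVec := by
      intro u w huw
      by_contra hne'
      have h0 : a *ᵥ (u - w) = 0 := by rw [Matrix.mulVec_sub, huw, sub_self]
      have ha0 : a = 0 := hker a ha (u - w) (sub_ne_zero.mpr hne') h0
      rw [ha0, Matrix.zero_mulVec] at hav
      exact hv hav.symm
    have hau : IsUnit a := Matrix.mulVec_injective_iff_isUnit.mp hainj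
    refine ⟨⟨hau.unit, (hmem _).mpr (by rw [IsUnit.unit_spec]; exact ha)⟩, ?_⟩
    apply Subtype.ext
    show (hau.unit : Matrix (Fin l) (Fin l) F) *ᵥ v₀ = v
    rw [IsUnit.unit_spec]
    exact hav
  rw [Nat.card_congr (Equiv.ofBijective fn ⟨hinj, hsurj⟩), Nat.card_eq_fintype_card,
    Fintype.card_subtype, Finset.filter_ne' Finset.univ (0 : Fin l → F),
    Finset.card_erase_of_mem (Finset.mem_univ _), Finset.card_univ, Fintype.card_fun,
    Fintype.card_fin]

theorem not_dvd_sub_one {F : Type*} [Field F] [Fintype F] (t d : ℕ)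
    (hd : d = orderOf ((Fintype.card F : ℕ) : ZMod t)) (h2 : 2 ≤ d) :
    ¬ t ∣ Fintype.card F - 1 := by
  intro hdiv
  have h1 : ((Fintype.card F : ℕ) : ZMod t) = 1 := by
    have h3 : (((Fintype.card F - 1 : ℕ)) : ZMod t) = 0 := (ZMod.natCast_eq_zero_iff _ _).mpr hdiv
    rw [Nat.cast_sub Fintype.card_pos, Nat.cast_one, sub_eq_zero] at h3
    exact h3
  rw [hd, h1, orderOf_one] at h2
  omega

theorem exists_prime_mat {F : Type*} [Field F] [Fintype F] (k r : ℕ) [Fact r.Prime]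
    (hk : k = orderOf ((Fintype.card F : ℕ) : ZMod r)) (hk2 : 2 ≤ k) :
    ∃ C : Matrix (Fin k) (Fin k) F, C.det = 1 ∧ C ^ r = 1 ∧ C ≠ 1 := by
  classical
  have hr : r.Prime := Fact.out
  haveI : NeZero k := ⟨by omega⟩
  have hrdvd : r ∣ Nat.card (GL (Fin k) F) := by
    rw [Matrix.card_GL_field]
    refine Dvd.dvd.trans ?_ (Finset.dvd_prod_of_mem _ (Finset.mem_univ (0 : Fin k)))
    rw [Fin.val_zero, pow_zero]
    apply S2904.dvd_of_pow_eq_one _ r k Fintype.one_lt_card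
    rw [hk]
    exact pow_orderOf_eq_one _
  obtain ⟨x, hx⟩ := exists_prime_orderOf_dvd_card' r hrdvd
  have hxr : x ^ r = 1 := by
    rw [← hx]
    exact pow_orderOf_eq_one x
  obtain ⟨C, hC⟩ : ∃ C : Matrix (Fin k) (Fin k) F, C = (x : Matrix (Fin k) (Fin k) F) :=
    ⟨_, rfl⟩
  have hCr : C ^ r = 1 := by
    have := congrArg (fun y : GL (Fin k) F => (y : Matrix (Fin k) (Fin k) F)) hxr
    simp only [Units.val_pow_eq_pow_val, Units.val_one] at this
    rw [hC]
    exact this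
  have hC1 : C ≠ 1 := by
    intro h
    have hx1 : x = 1 := Units.ext (by rw [← hC, h]; rfl)
    rw [hx1, orderOf_one] at hx
    exact hr.one_lt.ne hx
  have hCdet : C.det = 1 := by
    obtain ⟨δ, hδ⟩ : ∃ δ : Fˣ, δ = Matrix.GeneralLinearGroup.det x := ⟨_, rfl⟩
    have hδr : δ ^ r = 1 := by rw [hδ, ← map_pow, hxr, map_one]
    have hδq : δ ^ (Fintype.card F - 1) = 1 := by
      rw [← Fintype.card_units]
      exact pow_card_eq_one
    have h4 := pow_gcd_eq_one.mpr ⟨hδr, hδq⟩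
    rw [Nat.Coprime.gcd_eq_one ((Nat.Prime.coprime_iff_not_dvd hr).mpr
      (not_dvd_sub_one r k hk hk2)), pow_one] at h4
    have h5 : ((Matrix.GeneralLinearGroup.det x : Fˣ) : F) = 1 := by
      rw [← hδ, h4]
      rfl
    rw [hC]
    exact h5
  exact ⟨C, hCdet, hCr, hC1⟩

theorem exists_rs_mat {F : Type*} [Field F] [Fintype F] (l : ℕ) (r s : ℕ) [Fact r.Prime]
    [Fact s.Prime] (hrs : r ≠ s) (hsq : ¬ s ∣ Fintype.card F) (k : ℕ)
    (hk : k = orderOf ((Fintype.card F : ℕ) : ZMod r))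
    (hl : l = orderOf ((Fintype.card F : ℕ) : ZMod s))
    (hk2 : 2 ≤ k) (hkl : k ∣ l) (hl2 : 2 ≤ l) :
    ∃ C : Matrix (Fin l) (Fin l) F, C.det = 1 ∧ C ^ (r * s) = 1 ∧
      (∀ j : ℕ, C ^ j = 1 → r * s ∣ j) := by
  classical
  have hr : r.Prime := Fact.out
  have hs : s.Prime := Fact.out
  haveI : NeZero l := ⟨by omega⟩
  have hsd : s ∣ Fintype.card F ^ l - 1 := by
    apply S2904.dvd_of_pow_eq_one _ s l Fintype.one_lt_card
    rw [hl]
    exact pow_orderOf_eq_one _
  have hrd : r ∣ Fintype.card F ^ l - 1 := by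
    apply S2904.dvd_of_pow_eq_one _ r l Fintype.one_lt_card
    obtain ⟨c, hc⟩ := hkl
    rw [hc, pow_mul, hk, pow_orderOf_eq_one, one_pow]
  have hsGL : s ∣ Nat.card (GL (Fin l) F) := by
    rw [Matrix.card_GL_field]
    refine Dvd.dvd.trans ?_ (Finset.dvd_prod_of_mem _ (Finset.mem_univ (0 : Fin l)))
    rw [Fin.val_zero, pow_zero]
    exact hsd
  obtain ⟨x, hx⟩ := exists_prime_orderOf_dvd_card' s hsGL
  have hcc := cent_card l (by omega) s hsq hl x hx
  have hrc : r ∣ Nat.card (Subgroup.centralizer ({x} : Set (GL (Fin l) F))) := by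
    rw [hcc]
    exact hrd
  obtain ⟨y, hy⟩ := exists_prime_orderOf_dvd_card' r hrc
  have hyo : orderOf (y : GL (Fin l) F) = r := by
    rw [Subgroup.orderOf_coe]
    exact hy
  have hcomm : Commute x (y : GL (Fin l) F) :=
    Subgroup.mem_centralizer_iff.mp y.2 x (Set.mem_singleton x)
  have hco : (orderOf x).Coprime (orderOf (y : GL (Fin l) F)) := by
    rw [hx, hyo]
    exact (Nat.coprime_primes hs hr).mpr (Ne.symm hrs)
  obtain ⟨c, hc⟩ : ∃ c : GL (Fin l) F, c = x * (y : GL (Fin l) F) := ⟨_, rfl⟩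
  have hord : orderOf c = s * r := by
    rw [hc, hcomm.orderOf_mul_eq_mul_orderOf_of_coprime hco, hx, hyo]
  have hcs : c ^ (s * r) = 1 := by
    rw [← hord]
    exact pow_orderOf_eq_one c
  refine ⟨(c : Matrix (Fin l) (Fin l) F), ?_, ?_, ?_⟩
  · obtain ⟨δ, hδ⟩ : ∃ δ : Fˣ, δ = Matrix.GeneralLinearGroup.det c := ⟨_, rfl⟩
    have hδ1 : δ ^ (s * r) = 1 := by rw [hδ, ← map_pow, hcs, map_one]
    have hδq : δ ^ (Fintype.card F - 1) = 1 := by
      rw [← Fintype.card_units]
      exact pow_card_eq_one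
    have h4 := pow_gcd_eq_one.mpr ⟨hδ1, hδq⟩
    have hcop : Nat.Coprime (s * r) (Fintype.card F - 1) :=
      Nat.Coprime.mul_left
        ((Nat.Prime.coprime_iff_not_dvd hs).mpr (not_dvd_sub_one s l hl hl2))
        ((Nat.Prime.coprime_iff_not_dvd hr).mpr (not_dvd_sub_one r k hk hk2))
    rw [Nat.Coprime.gcd_eq_one hcop, pow_one] at h4
    have h5 : ((Matrix.GeneralLinearGroup.det c : Fˣ) : F) = 1 := by
      rw [← hδ, h4]
      rfl
    exact h5
  · have := congrArg (fun y : GL (Fin l) F => (y : Matrix (Fin l) (Fin l) F)) hcs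
    simp only [Units.val_pow_eq_pow_val, Units.val_one] at this
    rw [mul_comm r s]
    exact this
  · intro j hj
    have hcj : c ^ j = 1 := Units.ext (by rw [Units.val_pow_eq_pow_val, hj]; rfl)
    have := orderOf_dvd_of_pow_eq_one hcj
    rw [hord, mul_comm] at this
    exact this

theorem ord_le_of_dvd {F : Type*} [Field F] [Fintype F] (n : ℕ) (hn : 1 ≤ n) (s : ℕ)
    [Fact s.Prime] (hsq : ¬ s ∣ Fintype.card F)
    (hsG : s ∣ Nat.card (Matrix.ProjectiveSpecialLinearGroup (Fin n) F)) :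
    orderOf ((Fintype.card F : ℕ) : ZMod s) ≤ n := by
  classical
  have hs : s.Prime := Fact.out
  have h1 : Nat.card (Matrix.ProjectiveSpecialLinearGroup (Fin n) F)
      ∣ Nat.card (Matrix.SpecialLinearGroup (Fin n) F) :=
    Subgroup.card_quotient_dvd_card _
  have h2 : s ∣ Nat.card (Matrix.SpecialLinearGroup (Fin n) F) * (Fintype.card F - 1) :=
    Dvd.dvd.mul_right (hsG.trans h1) _
  rw [Cfsg.Agent.Helper2.SLCard.card_SL_mul F n hn, Matrix.card_GL_field] at h2
  obtain ⟨i, -, hi⟩ := (Prime.dvd_finset_prod_iff (Nat.Prime.prime hs) _).mp h2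
  have hilt := i.isLt
  have hq0 : ((Fintype.card F : ℕ) : ZMod s) ≠ 0 := by
    rw [Ne, ZMod.natCast_eq_zero_iff]
    exact hsq
  have hle : Fintype.card F ^ (i : ℕ) ≤ Fintype.card F ^ n :=
    Nat.pow_le_pow_right Fintype.card_pos (by omega)
  have h3 : ((Fintype.card F : ℕ) : ZMod s) ^ n = ((Fintype.card F : ℕ) : ZMod s) ^ (i : ℕ) := by
    have := (ZMod.natCast_eq_zero_iff _ _).mpr hi
    rw [Nat.cast_sub hle] at this
    push_cast at this
    exact sub_eq_zero.mp this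
  have h4 : ((Fintype.card F : ℕ) : ZMod s) ^ (n - (i : ℕ)) = 1 := by
    have h5 : ((Fintype.card F : ℕ) : ZMod s) ^ (i : ℕ)
        * ((Fintype.card F : ℕ) : ZMod s) ^ (n - (i : ℕ))
        = ((Fintype.card F : ℕ) : ZMod s) ^ (i : ℕ) * 1 := by
      rw [← pow_add, Nat.add_sub_cancel' (by omega), mul_one, h3]
    exact mul_left_cancel₀ (pow_ne_zero _ hq0) h5
  have h6 := Nat.le_of_dvd (by omega) (orderOf_dvd_of_pow_eq_one h4)
  omega

end Cfsg.Agent.Helper14.PslAdj2
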