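import Mathlib

/-!
# Semisimple endomorphisms with the same characteristic polynomial are conjugate
-/

set_option autoImplicit false

namespace Cfsg.Agent.Helper14.SemiConj

open Polynomial

universe u

/-- an irreducible factor of the characteristic polynomial annihilates a nonzero vector -/
theorem exists_ker_of_dvd_charpoly {F : Type*} [Field F] {V : Type*} [AddCommGroup V]
    [Module F V] [FiniteDimensional F V] (g : Module.End F V) (f : F[X]) (hf : Irreducible f)
    (hfd : f ∣ g.charpoly) : ∃ w : V, w ≠ 0 ∧ aeval g f w = 0 := by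
  by_contra hcon
  push_neg at hcon
  have hker : LinearMap.ker (aeval g f) = ⊥ := by
    rw [LinearMap.ker_eq_bot']
    intro w hw
    by_contra hw0
    exact hcon w hw0 hw
  obtain ⟨s, hs⟩ := LinearMap.exists_leftInverse_of_injective (aeval g f) hker
  haveI : Fact (Irreducible f) := ⟨hf⟩
  have h2 : eval (AdjoinRoot.root f) (f.map (algebraMap F (AdjoinRoot f))) = 0 := by
    rw [AdjoinRoot.algebraMap_eq]
    exact AdjoinRoot.isRoot_root f
  have hroot : (Module.End.baseChangeHom F (AdjoinRoot f) V g).charpoly.IsRoot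
      (AdjoinRoot.root f) := by
    have h1 : (Module.End.baseChangeHom F (AdjoinRoot f) V g).charpoly =
        g.charpoly.map (algebraMap F (AdjoinRoot f)) :=
      LinearMap.charpoly_baseChange g (AdjoinRoot f)
    rw [h1]
    obtain ⟨c, hc⟩ := hfd
    rw [hc, Polynomial.map_mul, IsRoot.def, eval_mul, h2, zero_mul]
  obtain ⟨x, hx⟩ := ((Module.End.hasEigenvalue_iff_isRoot_charpoly
    (Module.End.baseChangeHom F (AdjoinRoot f) V g) _).mpr hroot).exists_hasEigenvector
  have h3 : aeval (Module.End.baseChangeHom F (AdjoinRoot f) V g)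
      (f.map (algebraMap F (AdjoinRoot f))) x = 0 := by
    rw [Module.End.aeval_apply_of_hasEigenvector hx, h2, zero_smul]
  rw [Polynomial.aeval_map_algebraMap] at h3
  have h4 : aeval (R := F) (Module.End.baseChangeHom F (AdjoinRoot f) V g) f =
      Module.End.baseChangeHom F (AdjoinRoot f) V (aeval g f) :=
    Polynomial.aeval_algHom_apply (Module.End.baseChangeHom F (AdjoinRoot f) V) g f
  rw [h4] at h3
  have h5 : (Module.End.baseChangeHom F (AdjoinRoot f) V s) *
      (Module.End.baseChangeHom F (AdjoinRoot f) V (aeval g f)) = 1 := by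
    rw [← map_mul]
    have : s * aeval g f = 1 := hs
    rw [this, map_one]
  have h6 := congrArg (fun e : Module.End (AdjoinRoot f) (TensorProduct F (AdjoinRoot f) V) =>
    e x) h5
  simp only [Module.End.mul_apply, h3, map_zero, Module.End.one_apply] at h6
  exact hx.2 h6.symm

/-- the cyclic map `p ↦ p(g) w` -/
noncomputable def cyc {F : Type*} [Field F] {V : Type*} [AddCommGroup V] [Module F V]
    (g : Module.End F V) (w : V) : F[X] →ₗ[F] V :=
  (LinearMap.applyₗ w).comp (aeval g).toLinearMap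

theorem cyc_apply {F : Type*} [Field F] {V : Type*} [AddCommGroup V] [Module F V]
    (g : Module.End F V) (w : V) (p : F[X]) : cyc g w p = aeval g p w := rfl

theorem cyc_step {F : Type*} [Field F] {V : Type*} [AddCommGroup V] [Module F V]
    (g : Module.End F V) (w : V) (p : F[X]) : g (cyc g w p) = cyc g w (X * p) := by
  rw [cyc_apply, cyc_apply, map_mul, aeval_X, Module.End.mul_apply]

theorem cyc_eq_zero_iff {F : Type*} [Field F] {V : Type*} [AddCommGroup V] [Module F V]
    (g : Module.End F V) (w : V) (f : F[X]) (hf : Irreducible f) (hw0 : w ≠ 0)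
    (hw : aeval g f w = 0) (p : F[X]) : cyc g w p = 0 ↔ f ∣ p := by
  rw [cyc_apply]
  constructor
  · intro hp
    by_contra hnd
    obtain ⟨s, t, hst⟩ := hf.coprime_iff_not_dvd.mpr hnd
    have h1 := congrArg (fun r => aeval g r w) hst
    simp only [map_add, map_mul, map_one, LinearMap.add_apply, Module.End.mul_apply, hw, hp,
      map_zero, add_zero, Module.End.one_apply] at h1
    exact hw0 h1.symm
  · rintro ⟨c, rfl⟩
    rw [mul_comm, map_mul, Module.End.mul_apply, hw, map_zero]

theorem cyc_iso {F : Type*} [Field F] {V V' : Type*} [AddCommGroup V] [Module F V]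
    [AddCommGroup V'] [Module F V'] (g : Module.End F V) (h : Module.End F V') (f : F[X])
    (hf : Irreducible f) (w : V) (hw0 : w ≠ 0) (hw : aeval g f w = 0) (u : V') (hu0 : u ≠ 0)
    (hu : aeval h f u = 0) :
    ∃ ψ : LinearMap.range (cyc g w) ≃ₗ[F] LinearMap.range (cyc h u),
      ∀ p : F[X], (ψ ⟨cyc g w p, LinearMap.mem_range_self _ p⟩ : V') = cyc h u p := by
  have hker : LinearMap.ker (cyc g w) = LinearMap.ker (cyc h u) := by
    ext p
    rw [LinearMap.mem_ker, LinearMap.mem_ker, cyc_eq_zero_iff g w f hf hw0 hw,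
      cyc_eq_zero_iff h u f hf hu0 hu]
  refine ⟨(LinearMap.quotKerEquivRange (cyc g w)).symm ≪≫ₗ
    (Submodule.quotEquivOfEq _ _ hker) ≪≫ₗ LinearMap.quotKerEquivRange (cyc h u), fun p => ?_⟩
  rw [LinearEquiv.trans_apply, LinearEquiv.trans_apply,
    LinearMap.quotKerEquivRange_symm_apply_image, Submodule.mkQ_apply,
    Submodule.quotEquivOfEq_mk, LinearMap.quotKerEquivRange_apply_mk]

theorem sum_iso {F : Type*} [Field F] {V V' : Type*} [AddCommGroup V] [Module F V]
    [AddCommGroup V'] [Module F V']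
    (g : Module.End F V) (h : Module.End F V') (W W' : Submodule F V) (U U' : Submodule F V')
    (hW : ∀ x ∈ W, g x ∈ W) (hW' : ∀ x ∈ W', g x ∈ W') (hc : IsCompl W W') (hc' : IsCompl U U')
    (ψ : W ≃ₗ[F] U) (hψ : ∀ x : W, (ψ ⟨g x, hW x x.2⟩ : V') = h (ψ x))
    (φ' : W' ≃ₗ[F] U') (hφ' : ∀ x : W', (φ' ⟨g x, hW' x x.2⟩ : V') = h (φ' x)) :
    ∃ φ : V ≃ₗ[F] V', ∀ x, φ (g x) = h (φ x) := by
  refine ⟨(Submodule.prodEquivOfIsCompl W W' hc).symm ≪≫ₗ (ψ.prodCongr φ') ≪≫ₗ
    Submodule.prodEquivOfIsCompl U U' hc', fun x => ?_⟩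
  obtain ⟨⟨a, b⟩, rfl⟩ := (Submodule.prodEquivOfIsCompl W W' hc).surjective x
  have h1 : g (Submodule.prodEquivOfIsCompl W W' hc (a, b)) =
      Submodule.prodEquivOfIsCompl W W' hc (⟨g a, hW a a.2⟩, ⟨g b, hW' b b.2⟩) := by
    rw [Submodule.coe_prodEquivOfIsCompl', Submodule.coe_prodEquivOfIsCompl', map_add]
  rw [h1]
  simp only [LinearEquiv.trans_apply, LinearEquiv.symm_apply_apply, LinearEquiv.prodCongr_apply]
  rw [Submodule.coe_prodEquivOfIsCompl', Submodule.coe_prodEquivOfIsCompl', map_add, hψ, hφ']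

theorem charpoly_of_isCompl {F : Type*} [Field F] {V : Type*} [AddCommGroup V] [Module F V]
    [FiniteDimensional F V] (g : Module.End F V) (A B : Submodule F V)
    (hA : ∀ x ∈ A, g x ∈ A) (hB : ∀ x ∈ B, g x ∈ B) (hAB : IsCompl A B) :
    g.charpoly = (g.restrict hA).charpoly * (g.restrict hB).charpoly := by
  rw [← LinearMap.charpoly_prodMap, ← LinearEquiv.charpoly_conj
    (Submodule.prodEquivOfIsCompl A B hAB)]
  congr 1
  apply LinearMap.ext
  intro x
  obtain ⟨⟨a, b⟩, rfl⟩ := (Submodule.prodEquivOfIsCompl A B hAB).surjective x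
  rw [LinearEquiv.conj_apply]
  simp only [LinearMap.comp_apply, LinearEquiv.coe_coe, LinearEquiv.symm_apply_apply,
    LinearMap.prodMap_apply]
  rw [Submodule.coe_prodEquivOfIsCompl', Submodule.coe_prodEquivOfIsCompl', map_add]
  rfl

/-- Semisimple endomorphisms with the same characteristic polynomial are conjugate. -/
theorem conj_of_charpoly {F : Type*} [Field F] (n : ℕ) :
    ∀ (V V' : Type u) [AddCommGroup V] [Module F V] [FiniteDimensional F V] [AddCommGroup V']
      [Module F V'] [FiniteDimensional F V'] (g : Module.End F V) (h : Module.End F V'),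
      Module.finrank F V = n → g.IsSemisimple → h.IsSemisimple → g.charpoly = h.charpoly →
      ∃ φ : V ≃ₗ[F] V', ∀ x, φ (g x) = h (φ x) := by
  induction n using Nat.strong_induction_on with
  | _ n ih =>
  intro V V' _ _ _ _ _ _ g h hn hg hh hc
  have hn' : Module.finrank F V' = n := by
    rw [← LinearMap.charpoly_natDegree h, ← hc, LinearMap.charpoly_natDegree, hn]
  rcases Nat.eq_zero_or_pos n with rfl | hpos
  · haveI : Subsingleton V := Module.finrank_zero_iff.mp hn
    haveI : Subsingleton V' := Module.finrank_zero_iff.mp hn'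
    exact ⟨LinearEquiv.ofSubsingleton V V', fun x => Subsingleton.elim _ _⟩
  have hdeg : g.charpoly.natDegree = n := by rw [LinearMap.charpoly_natDegree, hn]
  have hnu : ¬ IsUnit g.charpoly := by
    intro hu
    have := Polynomial.natDegree_eq_zero_of_isUnit hu
    omega
  obtain ⟨f, hf, hfd⟩ := WfDvdMonoid.exists_irreducible_factor hnu
    (LinearMap.charpoly_monic g).ne_zero
  obtain ⟨w, hw0, hw⟩ := exists_ker_of_dvd_charpoly g f hf hfd
  obtain ⟨u, hu0, hu⟩ := exists_ker_of_dvd_charpoly h f hf (hc ▸ hfd)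
  obtain ⟨ψ, hψ⟩ := cyc_iso g h f hf w hw0 hw u hu0 hu
  have hWinv : ∀ x ∈ LinearMap.range (cyc g w), g x ∈ LinearMap.range (cyc g w) := by
    rintro _ ⟨p, rfl⟩
    exact ⟨X * p, (cyc_step g w p).symm⟩
  have hUinv : ∀ x ∈ LinearMap.range (cyc h u), h x ∈ LinearMap.range (cyc h u) := by
    rintro _ ⟨p, rfl⟩
    exact ⟨X * p, (cyc_step h u p).symm⟩
  obtain ⟨W', hW'inv, hcW⟩ := (Module.End.isSemisimple_iff.mp hg) _
    ((Module.End.mem_invtSubmodule g).mpr (fun x hx => hWinv x hx))
  obtain ⟨U', hU'inv, hcU⟩ := (Module.End.isSemisimple_iff.mp hh) _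
    ((Module.End.mem_invtSubmodule h).mpr (fun x hx => hUinv x hx))
  have hW'i : ∀ x ∈ W', g x ∈ W' := fun x hx => (Module.End.mem_invtSubmodule g).mp hW'inv hx
  have hU'i : ∀ x ∈ U', h x ∈ U' := fun x hx => (Module.End.mem_invtSubmodule h).mp hU'inv hx
  have hψ' : ∀ x : LinearMap.range (cyc g w), (ψ ⟨g x, hWinv x x.2⟩ : V') = h (ψ x) := by
    rintro ⟨_, p, rfl⟩
    have h1 : (⟨g (cyc g w p), hWinv _ ⟨p, rfl⟩⟩ : LinearMap.range (cyc g w)) =
        ⟨cyc g w (X * p), LinearMap.mem_range_self _ _⟩ := Subtype.ext (cyc_step g w p)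
    have h2 := hψ p
    have h3 := hψ (X * p)
    rw [h1, h3, h2]
    exact (cyc_step h u p).symm
  have hcg := charpoly_of_isCompl g _ W' hWinv hW'i hcW
  have hch := charpoly_of_isCompl h _ U' hUinv hU'i hcU
  have hcψ : (h.restrict hUinv).charpoly = (g.restrict hWinv).charpoly := by
    rw [← LinearEquiv.charpoly_conj ψ (g.restrict hWinv)]
    congr 1
    apply LinearMap.ext
    intro y
    obtain ⟨x, rfl⟩ := ψ.surjective y
    rw [LinearEquiv.conj_apply]
    apply Subtype.ext
    simp only [LinearMap.comp_apply, LinearEquiv.coe_coe, LinearEquiv.symm_apply_apply]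
    exact (hψ' x).symm
  have hc' : (g.restrict hW'i).charpoly = (h.restrict hU'i).charpoly := by
    rw [hcg, hch, hcψ] at hc
    exact mul_left_cancel₀ (LinearMap.charpoly_monic _).ne_zero hc
  have hdimW : 0 < Module.finrank F (LinearMap.range (cyc g w)) := by
    apply Module.finrank_pos_iff_exists_ne_zero.mpr
    refine ⟨⟨cyc g w 1, LinearMap.mem_range_self _ _⟩, ?_⟩
    intro h0
    have h1 := congrArg Subtype.val h0
    simp only [cyc_apply, map_one, Module.End.one_apply, ZeroMemClass.coe_zero] at h1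
    exact hw0 h1
  have hsum := Submodule.finrank_add_eq_of_isCompl hcW
  obtain ⟨φ', hφ'⟩ := ih (Module.finrank F W') (by omega) W' U' (g.restrict hW'i)
    (h.restrict hU'i) rfl (hg.restrict hW'inv) (hh.restrict hU'inv) hc'
  exact sum_iso g h _ W' _ U' hWinv hW'i hcW hcU ψ hψ' φ'
    (fun x => congrArg Subtype.val (hφ' x))

theorem conj_matrix {F : Type*} [Field F] {n : ℕ} (A B : Matrix (Fin n) (Fin n) F)
    (hA : Module.End.IsSemisimple (Matrix.toLin' A))
    (hB : Module.End.IsSemisimple (Matrix.toLin' B))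
    (hc : A.charpoly = B.charpoly) :
    ∃ P : GL (Fin n) F, (P : Matrix (Fin n) (Fin n) F) * A = B * (P : Matrix (Fin n) (Fin n) F) := by
  obtain ⟨φ, hφ⟩ := conj_of_charpoly n (Fin n → F) (Fin n → F) (Matrix.toLin' A)
    (Matrix.toLin' B) (by simp) hA hB (by rw [Matrix.charpoly_toLin', Matrix.charpoly_toLin', hc])
  refine ⟨⟨LinearMap.toMatrix' (φ : (Fin n → F) →ₗ[F] (Fin n → F)),
    LinearMap.toMatrix' (φ.symm : (Fin n → F) →ₗ[F] (Fin n → F)), ?_, ?_⟩, ?_⟩
  · rw [← LinearMap.toMatrix'_comp]; simp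
  · rw [← LinearMap.toMatrix'_comp]; simp
  · show LinearMap.toMatrix' (φ : (Fin n → F) →ₗ[F] (Fin n → F)) * A =
      B * LinearMap.toMatrix' (φ : (Fin n → F) →ₗ[F] (Fin n → F))
    apply Matrix.toLin'.injective
    rw [Matrix.toLin'_mul, Matrix.toLin'_mul, Matrix.toLin'_toMatrix']
    apply LinearMap.ext
    intro x
    exact hφ x

theorem semisimple_of_pow {F : Type*} [Field F] {n : ℕ} (A : Matrix (Fin n) (Fin n) F) (m : ℕ)
    (hm : (m : F) ≠ 0) (hA : A ^ m = 1) : Module.End.IsSemisimple (Matrix.toLin' A) := by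
  apply Module.End.isSemisimple_of_squarefree_aeval_eq_zero (p := X ^ m - 1)
  · exact (Polynomial.X_pow_sub_one_separable_iff.mpr hm).squarefree
  · have h1 : Matrix.toLin' A = Matrix.toLinAlgEquiv' A := rfl
    rw [map_sub, map_pow, aeval_X, map_one, h1, ← map_pow, hA, map_one, sub_self]

end Cfsg.Agent.Helper14.SemiConj
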