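import Mathlib
import Cfsg.Agent.Helper14.SemiConj

/-!
# Counting semisimple classes through characteristic polynomials
-/

set_option autoImplicit false

namespace Cfsg.Agent.Helper14.SemiConj

open Polynomial

theorem semi_of_order {F : Type*} [Field F] (p : ℕ) [hp : Fact p.Prime] [CharP F p]
    (n : ℕ) (A : Matrix (Fin n) (Fin n) F) (m : ℕ) (hm : m.Coprime p) (hA : A ^ m = 1) :
    Module.End.IsSemisimple (Matrix.toLin' A) := by
  apply semisimple_of_pow A m _ hA
  intro h0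
  have h1 := (CharP.cast_eq_zero_iff F p m).mp h0
  have h2 := Nat.Coprime.eq_one_of_dvd hm.symm h1
  exact hp.out.one_lt.ne' h2

theorem charpoly_pow_card_pow {F : Type*} [Field F] [Fintype F] {n : ℕ}
    (M : Matrix (Fin n) (Fin n) F) (a : ℕ) :
    (M ^ (Fintype.card F ^ a)).charpoly = M.charpoly := by
  induction a with
  | zero => simp
  | succ a ih => rw [pow_succ, pow_mul, FiniteField.Matrix.charpoly_pow_card, ih]

theorem exists_matrix_charpoly {F : Type*} [Field F] (n : ℕ) (χ : F[X]) (hm : χ.Monic)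
    (hd : χ.natDegree = n) : ∃ M : Matrix (Fin n) (Fin n) F, M.charpoly = χ := by
  classical
  subst hd
  have h1 := charpoly_leftMulMatrix (AdjoinRoot.powerBasis hm.ne_zero)
  rw [AdjoinRoot.minpoly_powerBasis_gen_of_monic hm] at h1
  exact ⟨_, h1⟩

/-- every monic polynomial with nonzero constant term is the characteristic polynomial of a
matrix of order prime to the characteristic. -/
theorem exists_semisimple_matrix {F : Type*} [Field F] [Fintype F] (p : ℕ) [hp : Fact p.Prime]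
    [CharP F p] (n : ℕ) (χ : F[X]) (hm : χ.Monic) (hd : χ.natDegree = n)
    (h0 : χ.coeff 0 ≠ 0) :
    ∃ (M : Matrix (Fin n) (Fin n) F) (m : ℕ), m.Coprime p ∧ 0 < m ∧ M ^ m = 1 ∧
      M.charpoly = χ := by
  classical
  obtain ⟨M₀, hM₀⟩ := exists_matrix_charpoly n χ hm hd
  have hdet : M₀.det ≠ 0 := by
    rw [Matrix.det_eq_sign_charpoly_coeff, hM₀]
    exact mul_ne_zero (pow_ne_zero _ (neg_ne_zero.mpr one_ne_zero)) h0
  obtain ⟨g₀, hg₀⟩ : ∃ g₀ : GL (Fin n) F, (g₀ : Matrix (Fin n) (Fin n) F) = M₀ :=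
    ⟨Matrix.GeneralLinearGroup.mkOfDetNeZero M₀ hdet, rfl⟩
  obtain ⟨N, hN⟩ : ∃ N, N = orderOf g₀ := ⟨_, rfl⟩
  have hN0 : N ≠ 0 := by rw [hN]; exact (orderOf_pos g₀).ne'
  obtain ⟨a, ha⟩ : ∃ a, a = N.factorization p := ⟨_, rfl⟩
  have hpq : p ∣ Fintype.card F := (CharP.cast_eq_zero_iff F p _).mp (Nat.cast_card_eq_zero F)
  have hcop : (N / p ^ a).Coprime p := by
    rw [ha]; exact (Nat.coprime_ordCompl hp.out hN0).symm
  have hdvd : p ^ a ∣ N := by rw [ha]; exact Nat.ordProj_dvd N p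
  have hmul : p ^ a * (N / p ^ a) = N := Nat.mul_div_cancel' hdvd
  have hpos : 0 < N / p ^ a := by
    rcases Nat.eq_zero_or_pos (N / p ^ a) with h | h
    · rw [h, mul_zero] at hmul; exact absurd hmul.symm hN0
    · exact h
  refine ⟨M₀ ^ (Fintype.card F ^ a), N / p ^ a, hcop, hpos, ?_, ?_⟩
  · rw [← pow_mul, ← hg₀, ← Units.val_pow_eq_pow_val]
    have h1 : orderOf g₀ ∣ Fintype.card F ^ a * (N / p ^ a) := by
      rw [← hN]
      conv_lhs => rw [← hmul]
      exact Nat.mul_dvd_mul_right (pow_dvd_pow_of_dvd hpq a) _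
    rw [orderOf_dvd_iff_pow_eq_one.mp h1, Units.val_one]
  · rw [charpoly_pow_card_pow, hM₀]

/-- counting monic polynomials of degree `n + 1` by a condition on the constant term -/
theorem card_monic_coeff_zero {F : Type*} [Field F] [Fintype F] (n' : ℕ) (P : F → Prop) :
    Nat.card {x : {χ : F[X] // χ.Monic ∧ χ.natDegree = n' + 1} // P (x.1.coeff 0)} =
      Nat.card {c : F // P c} * Fintype.card F ^ n' := by
  classical
  obtain ⟨e, he⟩ : ∃ e : {χ : F[X] // χ.Monic ∧ χ.natDegree = n' + 1} ≃ (Fin (n' + 1) → F),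
      ∀ x, e x 0 = x.1.coeff 0 := by
    refine ⟨(monicEquivDegreeLT (n' + 1)).trans (degreeLTEquiv F (n' + 1)).toEquiv, fun x => ?_⟩
    show (x.1.eraseLead).coeff ((0 : Fin (n' + 1)) : ℕ) = x.1.coeff 0
    rw [Fin.val_zero]
    exact eraseLead_coeff_of_ne 0 (by rw [x.2.2]; omega)
  rw [Nat.card_congr (e.subtypeEquiv (p := fun x => P (x.1.coeff 0))
    (q := fun a : Fin (n' + 1) → F => P (a 0)) (fun x => by rw [he])),
    Nat.card_congr ((Fin.consEquiv (fun _ : Fin (n' + 1) => F)).symm.subtypeEquiv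
      (p := fun a : Fin (n' + 1) → F => P (a 0))
      (q := fun y : F × (Fin n' → F) => P y.1) (fun a => Iff.rfl)),
    Nat.card_congr Equiv.prodSubtypeFstEquivSubtypeProd, Nat.card_prod, Nat.card_fun,
    Nat.card_fin, Nat.card_eq_fintype_card (α := F)]

end Cfsg.Agent.Helper14.SemiConj
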