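import Mathlib
import Cfsg.Agent.Helper14.SemiConj
import Cfsg.Agent.Helper14.SemiCount

/-!
Conjugacy classes of elements of prime order `r` (prime to the characteristic) in `GL_n(q)`,
parametrised by multiplicities of the irreducible factors of `X^r - 1`.
-/

set_option autoImplicit false
open Polynomial

namespace Cfsg.Agent.Helper14.PrimeOrd

section Gen

variable {F : Type*} [Field F]

theorem coprime_of_ne {ψ χ : F[X]} (hψ : Irreducible ψ) (hχ : Irreducible χ) (mψ : ψ.Monic)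
    (mχ : χ.Monic) (hne : ψ ≠ χ) : IsCoprime ψ χ := by
  rw [Irreducible.coprime_iff_not_dvd hψ]
  intro h
  exact hne (Polynomial.eq_of_monic_of_associated mψ mχ (hψ.associated_of_dvd hχ h))

/-- uniqueness of the exponents in a product of powers of pairwise coprime irreducibles -/
theorem exp_unique (s : Finset F[X]) (hirr : ∀ ψ ∈ s, Irreducible ψ)
    (hcop : ∀ ψ ∈ s, ∀ χ ∈ s, ψ ≠ χ → IsCoprime ψ χ)
    (e e' : F[X] → ℕ) (h : ∏ ψ ∈ s, ψ ^ e ψ = ∏ ψ ∈ s, ψ ^ e' ψ) : ∀ χ ∈ s, e χ = e' χ := by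
  classical
  have key : ∀ (e e' : F[X] → ℕ), ∏ ψ ∈ s, ψ ^ e ψ = ∏ ψ ∈ s, ψ ^ e' ψ →
      ∀ χ ∈ s, e χ ≤ e' χ := by
    intro e e' h χ hχ
    rw [← Finset.mul_prod_erase s (fun ψ => ψ ^ e ψ) hχ,
      ← Finset.mul_prod_erase s (fun ψ => ψ ^ e' ψ) hχ] at h
    have h1 : χ ^ e χ ∣ χ ^ e' χ * ∏ ψ ∈ s.erase χ, ψ ^ e' ψ := Dvd.intro _ h
    have h2 : IsCoprime (χ ^ e χ) (∏ ψ ∈ s.erase χ, ψ ^ e' ψ) := by
      apply IsCoprime.pow_left
      apply IsCoprime.prod_right
      intro ψ hψ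
      apply IsCoprime.pow_right
      exact hcop χ hχ ψ (Finset.mem_of_mem_erase hψ) (Finset.ne_of_mem_erase hψ).symm
    have h3 : χ ^ e χ ∣ χ ^ e' χ := h2.dvd_of_dvd_mul_right h1
    exact (pow_dvd_pow_iff (hirr χ hχ).ne_zero (hirr χ hχ).not_isUnit).mp h3
  intro χ hχ
  exact le_antisymm (key e e' h χ hχ) (key e' e h.symm χ hχ)

theorem dvd_of_pow_eq_one {n : ℕ} (A : Matrix (Fin n) (Fin n) F) (r : ℕ) (hA : A ^ r = 1)
    (ψ : F[X]) (hψ : Irreducible ψ) (hd : ψ ∣ A.charpoly) : ψ ∣ X ^ r - 1 := by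
  by_contra hnd
  have hcop : IsCoprime ψ (X ^ r - 1) := (Irreducible.coprime_iff_not_dvd hψ).mpr hnd
  obtain ⟨a, b, hab⟩ := hcop
  obtain ⟨w, hw0, hw⟩ := SemiConj.exists_ker_of_dvd_charpoly (Matrix.toLin' A) ψ hψ
    (by rw [Matrix.charpoly_toLin']; exact hd)
  apply hw0
  have h1 : aeval (Matrix.toLin' A) (X ^ r - 1 : F[X]) = 0 := by
    have h1 : Matrix.toLin' A = Matrix.toLinAlgEquiv' A := rfl
    rw [map_sub, map_pow, aeval_X, map_one, h1, ← map_pow, hA, map_one, sub_self]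
  have h2 := congrArg (fun P : F[X] => aeval (Matrix.toLin' A) P w) hab
  simp only [map_add, map_mul, map_one, h1, mul_zero, add_zero, Module.End.mul_apply,
    Module.End.one_apply] at h2
  rw [hw, map_zero] at h2
  exact h2.symm

theorem eq_one_of_charpoly {n : ℕ} (A : Matrix (Fin n) (Fin n) F) (r : ℕ) (hr : (r : F) ≠ 0)
    (hA : A ^ r = 1) (hc : A.charpoly = (X - 1) ^ n) : A = 1 := by
  rcases Nat.eq_zero_or_pos n with rfl | hn
  · exact Subsingleton.elim _ _
  have h1 : minpoly F A ∣ X ^ r - 1 := minpoly.dvd F A (by simp [hA])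
  have hsq : Squarefree (minpoly F A) :=
    Squarefree.squarefree_of_dvd h1 ((Polynomial.X_pow_sub_one_separable_iff.mpr hr).squarefree)
  have h2 : minpoly F A ∣ (X - 1) ^ n := by rw [← hc]; exact Matrix.minpoly_dvd_charpoly A
  have h3 : minpoly F A ∣ X - 1 := (Squarefree.dvd_pow_iff_dvd hsq hn.ne').mp h2
  have h4 := Polynomial.aeval_eq_zero_of_dvd_aeval_eq_zero h3 (minpoly.aeval F A)
  rw [map_sub, aeval_X, map_one, sub_eq_zero] at h4
  exact h4

theorem pow_eq_one_of_charpoly {n : ℕ} (M : Matrix (Fin n) (Fin n) F) (k r : ℕ)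
    (hk : (k : F) ≠ 0) (hM : M ^ k = 1) (K : ℕ) (hK : K ≠ 0)
    (hc : M.charpoly ∣ (X ^ r - 1) ^ K) : M ^ r = 1 := by
  have h1 : minpoly F M ∣ X ^ k - 1 := minpoly.dvd F M (by simp [hM])
  have hsq : Squarefree (minpoly F M) :=
    Squarefree.squarefree_of_dvd h1 ((Polynomial.X_pow_sub_one_separable_iff.mpr hk).squarefree)
  have h2 : minpoly F M ∣ (X ^ r - 1) ^ K := (Matrix.minpoly_dvd_charpoly M).trans hc
  have h3 := (Squarefree.dvd_pow_iff_dvd hsq hK).mp h2
  have h4 := Polynomial.aeval_eq_zero_of_dvd_aeval_eq_zero h3 (minpoly.aeval F M)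
  rw [map_sub, map_pow, aeval_X, map_one, sub_eq_zero] at h4
  exact h4

end Gen

section Abs

variable {F : Type*} [Field F] [DecidableEq F]

/-- a monic polynomial whose normalized factors lie in `s` is a product of powers -/
theorem exists_exp (s : Finset F[X]) (f : F[X]) (hf : f.Monic)
    (h : ∀ ψ ∈ UniqueFactorizationMonoid.normalizedFactors f, ψ ∈ s) :
    ∃ e : F[X] → ℕ, f = ∏ ψ ∈ s, ψ ^ e ψ := by
  refine ⟨fun ψ => (UniqueFactorizationMonoid.normalizedFactors f).count ψ, ?_⟩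
  rw [← Finset.prod_multiset_count_of_subset _ s (fun ψ hψ => h ψ (Multiset.mem_toFinset.mp hψ))]
  have h1 := UniqueFactorizationMonoid.prod_normalizedFactors hf.ne_zero
  have h2 : (UniqueFactorizationMonoid.normalizedFactors f).prod.Monic := by
    have h3 := Polynomial.monic_multiset_prod_of_monic
      (UniqueFactorizationMonoid.normalizedFactors f) id (fun ψ hψ => by
        have hirrψ := UniqueFactorizationMonoid.irreducible_of_normalized_factor ψ hψ
        show Polynomial.Monic ψ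
        rw [← UniqueFactorizationMonoid.normalize_normalized_factor ψ hψ]
        exact Polynomial.monic_normalize hirrψ.ne_zero)
    rwa [Multiset.map_id] at h3
  exact (Polynomial.eq_of_monic_of_associated h2 hf h1).symm

noncomputable def expo (n i : ℕ) (m : F[X] → ℕ) (ψ : F[X]) : ℕ :=
  if ψ = X - 1 then n % i + i * m ψ else m ψ

noncomputable def PP (s : Finset F[X]) (n i : ℕ) (m : F[X] → ℕ) : F[X] :=
  ∏ ψ ∈ s, ψ ^ expo n i m ψ

variable {n i r : ℕ} (Φ : Finset F[X]) (hΦ1 : X - 1 ∉ Φ)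
  (hirr : ∀ ψ ∈ insert (X - 1) Φ, Irreducible ψ)
  (hmon : ∀ ψ ∈ insert (X - 1) Φ, ψ.Monic)
  (hdeg : ∀ φ ∈ Φ, φ.natDegree = i) (hi : 0 < i)

include hΦ1 hmon hdeg in
theorem natDegree_prod (e : F[X] → ℕ) :
    (∏ ψ ∈ insert (X - 1) Φ, ψ ^ e ψ).natDegree = e (X - 1) + (∑ φ ∈ Φ, e φ) * i := by
  have hX : (X - 1 : F[X]).natDegree = 1 := by
    rw [← map_one (C : F →+* F[X])]; exact Polynomial.natDegree_X_sub_C 1
  rw [Polynomial.natDegree_prod_of_monic _ _ (fun ψ hψ => (hmon ψ hψ).pow _),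
    Finset.sum_insert hΦ1, Finset.sum_mul]
  congr 1
  · rw [(hmon _ (Finset.mem_insert_self _ _)).natDegree_pow, hX, mul_one]
  · apply Finset.sum_congr rfl
    intro φ hφ
    rw [(hmon φ (Finset.mem_insert_of_mem hφ)).natDegree_pow, hdeg φ hφ]

include hΦ1 hmon hdeg in
theorem natDegree_PP (m : F[X] → ℕ) (hm : ∑ ψ ∈ insert (X - 1) Φ, m ψ = n / i) :
    (PP (insert (X - 1) Φ) n i m).natDegree = n := by
  unfold PP
  rw [natDegree_prod Φ hΦ1 hmon hdeg]
  rw [Finset.sum_insert hΦ1] at hm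
  have h1 : expo n i m (X - 1) = n % i + i * m (X - 1) := by
    unfold expo; rw [if_pos rfl]
  have h2 : ∑ φ ∈ Φ, expo n i m φ = ∑ φ ∈ Φ, m φ := by
    apply Finset.sum_congr rfl
    intro φ hφ
    have hne : φ ≠ X - 1 := fun h => hΦ1 (h ▸ hφ)
    unfold expo; rw [if_neg hne]
  rw [h1, h2]
  have h3 : n % i + i * m (X - 1) + (∑ φ ∈ Φ, m φ) * i =
      n % i + i * (m (X - 1) + ∑ φ ∈ Φ, m φ) := by ring
  rw [h3, hm, Nat.mod_add_div]

include hirr hmon hi in
theorem PP_inj (m m' : F[X] →₀ ℕ) (hm : m.support ⊆ insert (X - 1) Φ)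
    (hm' : m'.support ⊆ insert (X - 1) Φ)
    (h : PP (insert (X - 1) Φ) n i m = PP (insert (X - 1) Φ) n i m') : m = m' := by
  have key := exp_unique (insert (X - 1) Φ) hirr (fun ψ hψ χ hχ hne =>
    coprime_of_ne (hirr ψ hψ) (hirr χ hχ) (hmon ψ hψ) (hmon χ hχ) hne)
    (expo n i m) (expo n i m') h
  ext ψ
  by_cases hψ : ψ ∈ insert (X - 1) Φ
  · have h1 := key ψ hψ
    unfold expo at h1
    by_cases h2 : ψ = X - 1
    · rw [if_pos h2, if_pos h2] at h1
      exact Nat.eq_of_mul_eq_mul_left hi (Nat.add_left_cancel h1)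
    · rw [if_neg h2, if_neg h2] at h1
      exact h1
  · rw [Finsupp.notMem_support_iff.mp (fun h => hψ (hm h)),
      Finsupp.notMem_support_iff.mp (fun h => hψ (hm' h))]

include hΦ1 in
theorem PP_single : PP (insert (X - 1) Φ) n i (Finsupp.single (X - 1) (n / i)) = (X - 1) ^ n := by
  unfold PP
  rw [Finset.prod_insert hΦ1, Finset.prod_eq_one, mul_one]
  · unfold expo
    rw [if_pos rfl, Finsupp.single_eq_same, Nat.mod_add_div]
  · intro φ hφ
    have hne : φ ≠ X - 1 := fun h => hΦ1 (h ▸ hφ)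
    unfold expo
    rw [if_neg hne, Finsupp.single_apply, if_neg hne.symm, pow_zero]

include hΦ1 hmon hdeg hi in
theorem exists_m
    (hmem : ∀ ψ : F[X], Irreducible ψ → ψ.Monic → ψ ∣ X ^ r - 1 → ψ ∈ insert (X - 1) Φ)
    (A : Matrix (Fin n) (Fin n) F) (hA : A ^ r = 1) :
    ∃ m : F[X] →₀ ℕ, m ∈ (insert (X - 1) Φ).finsuppAntidiag (n / i) ∧
      A.charpoly = PP (insert (X - 1) Φ) n i m := by
  obtain ⟨e, he⟩ := exists_exp (insert (X - 1) Φ) A.charpoly (Matrix.charpoly_monic A) (by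
    intro ψ hψ
    have hirrψ := UniqueFactorizationMonoid.irreducible_of_normalized_factor ψ hψ
    have hmonψ : ψ.Monic := by
      rw [← UniqueFactorizationMonoid.normalize_normalized_factor ψ hψ]
      exact Polynomial.monic_normalize hirrψ.ne_zero
    exact hmem ψ hirrψ hmonψ (dvd_of_pow_eq_one A r hA ψ hirrψ
      (UniqueFactorizationMonoid.dvd_of_mem_normalizedFactors hψ)))
  have hdegA : n = e (X - 1) + (∑ φ ∈ Φ, e φ) * i := by
    have h1 := natDegree_prod Φ hΦ1 hmon hdeg e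
    rw [← he, Matrix.charpoly_natDegree_eq_dim, Fintype.card_fin] at h1
    exact h1
  obtain ⟨E, hE⟩ : ∃ E, E = ∑ φ ∈ Φ, e φ := ⟨_, rfl⟩
  rw [← hE] at hdegA
  have hEN : E ≤ n / i := (Nat.le_div_iff_mul_le hi).mpr (by omega)
  obtain ⟨mf, hmf_def⟩ : ∃ mf : F[X] → ℕ, mf = fun ψ =>
      if ψ = X - 1 then n / i - E else if ψ ∈ Φ then e ψ else 0 := ⟨_, rfl⟩
  have hmf1 : mf (X - 1) = n / i - E := by rw [hmf_def]; exact if_pos rfl
  have hmf2 : ∀ φ ∈ Φ, mf φ = e φ := by
    intro φ hφ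
    have hne : φ ≠ X - 1 := fun h => hΦ1 (h ▸ hφ)
    rw [hmf_def]
    show (if φ = X - 1 then n / i - E else if φ ∈ Φ then e φ else 0) = e φ
    rw [if_neg hne, if_pos hφ]
  have hmf : ∀ ψ, mf ψ ≠ 0 → ψ ∈ insert (X - 1) Φ := by
    intro ψ h
    by_contra hψ
    rw [Finset.mem_insert, not_or] at hψ
    apply h
    rw [hmf_def]
    show (if ψ = X - 1 then n / i - E else if ψ ∈ Φ then e ψ else 0) = 0
    rw [if_neg hψ.1, if_neg hψ.2]
  refine ⟨Finsupp.onFinset (insert (X - 1) Φ) mf hmf, ?_, ?_⟩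
  · rw [Finset.mem_finsuppAntidiag]
    refine ⟨?_, Finsupp.support_onFinset_subset⟩
    rw [Finset.sum_insert hΦ1]
    have h2 : ∑ φ ∈ Φ, (Finsupp.onFinset (insert (X - 1) Φ) mf hmf) φ = E := by
      rw [hE]
      apply Finset.sum_congr rfl
      intro φ hφ
      rw [Finsupp.onFinset_apply, hmf2 φ hφ]
    rw [h2, Finsupp.onFinset_apply, hmf1]; omega
  · rw [he]
    unfold PP
    apply Finset.prod_congr rfl
    intro ψ hψ
    congr 1
    unfold expo
    rw [Finsupp.onFinset_apply]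
    rcases Finset.mem_insert.mp hψ with h | h
    · rw [if_pos h, h, hmf1]
      have h3 := Nat.mod_add_div n i
      have h4 : i * E ≤ i * (n / i) := Nat.mul_le_mul_left i hEN
      have h5 : E * i = i * E := mul_comm _ _
      rw [Nat.mul_sub]
      omega
    · have hne : ψ ≠ X - 1 := fun h' => hΦ1 (h' ▸ h)
      rw [if_neg hne, hmf2 ψ h]

include hΦ1 hirr hmon hdeg in
theorem exists_M [Fintype F] (p : ℕ) [Fact p.Prime] [CharP F p]
    (hdvd : ∀ ψ ∈ insert (X - 1) Φ, ψ ∣ X ^ r - 1) (hr0 : r ≠ 0)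
    (m : F[X] →₀ ℕ) (hm : m ∈ (insert (X - 1) Φ).finsuppAntidiag (n / i)) :
    ∃ M : Matrix (Fin n) (Fin n) F, M ^ r = 1 ∧ M.charpoly = PP (insert (X - 1) Φ) n i m := by
  rw [Finset.mem_finsuppAntidiag] at hm
  have hmonic : (PP (insert (X - 1) Φ) n i m).Monic :=
    Polynomial.monic_prod_of_monic _ _ (fun ψ hψ => (hmon ψ hψ).pow _)
  have hdegP : (PP (insert (X - 1) Φ) n i m).natDegree = n :=
    natDegree_PP Φ hΦ1 hmon hdeg m hm.1
  have hdvdP : PP (insert (X - 1) Φ) n i m ∣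
      (X ^ r - 1) ^ ((∑ ψ ∈ insert (X - 1) Φ, expo n i m ψ) + 1) := by
    have h1 : PP (insert (X - 1) Φ) n i m ∣ ∏ ψ ∈ insert (X - 1) Φ,
        ψ ^ ((∑ ψ ∈ insert (X - 1) Φ, expo n i m ψ) + 1) := by
      apply Finset.prod_dvd_prod_of_dvd
      intro ψ hψ
      apply pow_dvd_pow
      exact Nat.le_succ_of_le (Finset.single_le_sum (f := fun ψ => expo n i m ψ)
        (fun _ _ => Nat.zero_le _) hψ)
    rw [Finset.prod_pow] at h1
    refine h1.trans (pow_dvd_pow_of_dvd ?_ _)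
    apply Finset.prod_dvd_of_coprime (s := fun ψ : F[X] => ψ)
    · intro ψ hψ χ hχ hne
      exact coprime_of_ne (hirr ψ hψ) (hirr χ hχ) (hmon ψ hψ) (hmon χ hχ) hne
    · exact hdvd
  have h0 : (PP (insert (X - 1) Φ) n i m).coeff 0 ≠ 0 := by
    intro h
    have h1 := Polynomial.eval_dvd (x := (0 : F)) hdvdP
    rw [← Polynomial.coeff_zero_eq_eval_zero, h, zero_dvd_iff] at h1
    simp [hr0] at h1
  obtain ⟨M, k, hk, hkpos, hMk, hMc⟩ :=
    SemiConj.exists_semisimple_matrix p n _ hmonic hdegP h0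
  refine ⟨M, ?_, hMc⟩
  have hkF : (k : F) ≠ 0 := by
    intro h
    rw [CharP.cast_eq_zero_iff F p] at h
    have h2 := Nat.Coprime.eq_one_of_dvd hk.symm h
    exact (Fact.out : p.Prime).one_lt.ne' h2
  exact pow_eq_one_of_charpoly M k r hkF hMk _ (Nat.succ_ne_zero _) (by rw [hMc]; exact hdvdP)

include hΦ1 hirr hmon hdeg hi in
/-- the classes of elements of order `r` of `GL_n(F)` are parametrised by multiplicity vectors -/
theorem card_abs [Fintype F] (p : ℕ) [Fact p.Prime] [CharP F p] (hr : r.Prime)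
    (hrF : (r : F) ≠ 0)
    (hdvd : ∀ ψ ∈ insert (X - 1) Φ, ψ ∣ X ^ r - 1)
    (hmem : ∀ ψ : F[X], Irreducible ψ → ψ.Monic → ψ ∣ X ^ r - 1 → ψ ∈ insert (X - 1) Φ) :
    Nat.card {C : ConjClasses (GL (Fin n) F) //
      ∃ g : GL (Fin n) F, ConjClasses.mk g = C ∧ orderOf g = r} =
      (((insert (X - 1) Φ).finsuppAntidiag (n / i)).erase
        (Finsupp.single (X - 1) (n / i))).card := by
  haveI : Fact r.Prime := ⟨hr⟩
  have hpow : ∀ g : GL (Fin n) F, orderOf g = r →
      (g : Matrix (Fin n) (Fin n) F) ^ r = 1 := by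
    intro g hg
    rw [← Units.val_pow_eq_pow_val, ← hg, pow_orderOf_eq_one, Units.val_one]
  have hsemi : ∀ g : GL (Fin n) F, orderOf g = r →
      Module.End.IsSemisimple (Matrix.toLin' (g : Matrix (Fin n) (Fin n) F)) := by
    intro g hg
    exact SemiConj.semisimple_of_pow _ r hrF (hpow g hg)
  have hconj : ∀ g g' : GL (Fin n) F, orderOf g = r → orderOf g' = r →
      (g : Matrix (Fin n) (Fin n) F).charpoly = (g' : Matrix (Fin n) (Fin n) F).charpoly →
      IsConj g g' := by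
    intro g g' hg hg' hc
    obtain ⟨P, hP⟩ := SemiConj.conj_matrix _ _ (hsemi g hg) (hsemi g' hg') hc
    rw [isConj_iff]
    refine ⟨P, ?_⟩
    rw [mul_inv_eq_iff_eq_mul]
    apply Units.ext
    rw [Units.val_mul, Units.val_mul]
    exact hP
  have hcharconj : ∀ g g' : GL (Fin n) F, IsConj g g' →
      (g : Matrix (Fin n) (Fin n) F).charpoly = (g' : Matrix (Fin n) (Fin n) F).charpoly := by
    intro g g' h
    obtain ⟨c, hc⟩ := isConj_iff.mp h
    rw [← hc, Units.val_mul, Units.val_mul, Matrix.coe_units_inv, Matrix.charpoly_units_conj]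
  rw [← Fintype.card_coe, ← Nat.card_eq_fintype_card]
  apply le_antisymm
  · have hB : ∀ C : {C : ConjClasses (GL (Fin n) F) //
        ∃ g : GL (Fin n) F, ConjClasses.mk g = C ∧ orderOf g = r},
        ∃ m : F[X] →₀ ℕ, m ∈ ((insert (X - 1) Φ).finsuppAntidiag (n / i)).erase
          (Finsupp.single (X - 1) (n / i)) ∧
          ∃ g : GL (Fin n) F, ConjClasses.mk g = C.1 ∧ orderOf g = r ∧
            (g : Matrix (Fin n) (Fin n) F).charpoly = PP (insert (X - 1) Φ) n i m := by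
      intro C
      obtain ⟨g, hg1, hg2⟩ := C.2
      obtain ⟨m, hm, hmc⟩ := exists_m Φ hΦ1 hmon hdeg hi hmem
        (g : Matrix (Fin n) (Fin n) F) (hpow g hg2)
      refine ⟨m, Finset.mem_erase.mpr ⟨?_, hm⟩, g, hg1, hg2, hmc⟩
      intro h0
      rw [h0, PP_single Φ hΦ1] at hmc
      have h1 := eq_one_of_charpoly _ r hrF (hpow g hg2) hmc
      have h2 : g = 1 := Units.ext h1
      rw [h2, orderOf_one] at hg2
      exact hr.one_lt.ne hg2
    choose mf hm1 gf hg1 hg2 hg3 using hB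
    apply Nat.card_le_card_of_injective (fun C => (⟨mf C, hm1 C⟩ :
      ↥(((insert (X - 1) Φ).finsuppAntidiag (n / i)).erase (Finsupp.single (X - 1) (n / i)))))
    intro C C' h
    have h1 : mf C = mf C' := congrArg Subtype.val h
    have h2 : ((gf C : GL (Fin n) F) : Matrix (Fin n) (Fin n) F).charpoly =
        ((gf C' : GL (Fin n) F) : Matrix (Fin n) (Fin n) F).charpoly := by
      rw [hg3, hg3, h1]
    have h3 := hconj _ _ (hg2 C) (hg2 C') h2
    apply Subtype.ext
    rw [← hg1 C, ← hg1 C']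
    exact ConjClasses.mk_eq_mk_iff_isConj.mpr h3
  · have hC : ∀ m : ↥(((insert (X - 1) Φ).finsuppAntidiag (n / i)).erase
        (Finsupp.single (X - 1) (n / i))),
        ∃ g : GL (Fin n) F, orderOf g = r ∧
          (g : Matrix (Fin n) (Fin n) F).charpoly = PP (insert (X - 1) Φ) n i m.1 := by
      intro m
      have hm := Finset.mem_erase.mp m.2
      obtain ⟨M, hM1, hM2⟩ := exists_M Φ hΦ1 hirr hmon hdeg p hdvd hr.ne_zero m.1 hm.2
      refine ⟨Units.ofPowEqOne M r hM1 hr.ne_zero, ?_, ?_⟩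
      · apply orderOf_eq_prime
        · apply Units.ext
          rw [Units.val_pow_eq_pow_val, Units.val_ofPowEqOne, Units.val_one]
          exact hM1
        · intro h1
          have h2 : M = 1 := by
            have h3 := congrArg Units.val h1
            rw [Units.val_ofPowEqOne, Units.val_one] at h3
            exact h3
          apply hm.1
          apply PP_inj Φ hirr hmon hi _ _ (Finset.mem_finsuppAntidiag.mp hm.2).2
            (Finsupp.support_single_subset.trans (by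
              rw [Finset.singleton_subset_iff]; exact Finset.mem_insert_self _ _))
          rw [PP_single Φ hΦ1, ← hM2, h2, Matrix.charpoly_one, Fintype.card_fin]
      · rw [Units.val_ofPowEqOne]; exact hM2
    choose G hG1 hG2 using hC
    apply Nat.card_le_card_of_injective (fun m => (⟨ConjClasses.mk (G m), G m, rfl, hG1 m⟩ :
      {C : ConjClasses (GL (Fin n) F) //
        ∃ g : GL (Fin n) F, ConjClasses.mk g = C ∧ orderOf g = r}))
    intro m m' h
    have h1 : ConjClasses.mk (G m) = ConjClasses.mk (G m') := congrArg Subtype.val h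
    rw [ConjClasses.mk_eq_mk_iff_isConj] at h1
    have h2 := hcharconj _ _ h1
    rw [hG2, hG2] at h2
    apply Subtype.ext
    exact PP_inj Φ hirr hmon hi _ _
      (Finset.mem_finsuppAntidiag.mp (Finset.mem_erase.mp m.2).2).2
      (Finset.mem_finsuppAntidiag.mp (Finset.mem_erase.mp m'.2).2).2 h2

end Abs

end Cfsg.Agent.Helper14.PrimeOrd
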