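import Mathlib

/-!
# Invariant alternating forms on the field `AdjoinRoot f` (helper14)

Field-level lemmas for the conjugacy of semisimple symplectic isometries.
-/

set_option autoImplicit false

namespace Cfsg.Agent.Helper14.SpConj

open Polynomial

/-- descend a linear map killing the multiples of `f` to `AdjoinRoot f` -/
theorem descend {F : Type*} [Field F] (f : F[X]) {M : Type*} [AddCommGroup M] [Module F M]
    (l : F[X] →ₗ[F] M) (h : ∀ p, l (f * p) = 0) :
    ∃ lb : AdjoinRoot f →ₗ[F] M, ∀ p, lb (AdjoinRoot.mk f p) = l p := by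
  have key : ∀ p q, AdjoinRoot.mk f p = AdjoinRoot.mk f q → l p = l q := by
    intro p q hpq
    obtain ⟨c, hc⟩ := AdjoinRoot.mk_eq_mk.mp hpq
    have h1 : l (p - q) = 0 := by rw [hc]; exact h c
    rw [map_sub, sub_eq_zero] at h1; exact h1
  have hs : ∀ x, AdjoinRoot.mk f (Function.surjInv (AdjoinRoot.mk_surjective (g := f)) x) = x :=
    Function.surjInv_eq _
  refine ⟨{ toFun := fun x => l (Function.surjInv (AdjoinRoot.mk_surjective (g := f)) x)
            map_add' := ?_, map_smul' := ?_ }, ?_⟩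
  · intro x y
    rw [← map_add]
    apply key
    rw [hs, map_add, hs, hs]
  · intro c x
    rw [RingHom.id_apply, ← map_smul]
    apply key
    rw [hs, ← AdjoinRoot.smul_mk, hs]
  · intro p
    exact key _ _ (hs _)

section Lfield

variable {F : Type*} [Field F] (f : F[X]) [hfi : Fact (Irreducible f)]

/-- the self-reciprocity property, on the level of `AdjoinRoot f` -/
def SR : Prop := aeval (AdjoinRoot.root f)⁻¹ f = 0 ∧ (AdjoinRoot.root f) ^ 2 ≠ 1

variable {f}

theorem skew (β : AdjoinRoot f →ₗ[F] AdjoinRoot f →ₗ[F] F) (halt : ∀ x, β x x = 0)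
    (x y : AdjoinRoot f) : β x y = - β y x := by
  have h := halt (x + y)
  simp only [map_add, LinearMap.add_apply, halt, zero_add, add_zero] at h
  linear_combination h

theorem root_ne_zero (β : AdjoinRoot f →ₗ[F] AdjoinRoot f →ₗ[F] F)
    (hinv : ∀ x y, β (AdjoinRoot.root f * x) (AdjoinRoot.root f * y) = β x y)
    (hne : ∃ x y, β x y ≠ 0) : AdjoinRoot.root f ≠ 0 := by
  intro h0
  obtain ⟨x, y, hxy⟩ := hne
  apply hxy
  rw [← hinv, h0, zero_mul, map_zero, LinearMap.zero_apply]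

theorem adj_poly (β : AdjoinRoot f →ₗ[F] AdjoinRoot f →ₗ[F] F)
    (hinv : ∀ x y, β (AdjoinRoot.root f * x) (AdjoinRoot.root f * y) = β x y)
    (hθ : AdjoinRoot.root f ≠ 0) (p : F[X]) (x y : AdjoinRoot f) :
    β (aeval (AdjoinRoot.root f) p * x) y = β x (aeval (AdjoinRoot.root f)⁻¹ p * y) := by
  have hpow : ∀ (n : ℕ) (x y : AdjoinRoot f),
      β (AdjoinRoot.root f ^ n * x) y = β x ((AdjoinRoot.root f)⁻¹ ^ n * y) := by
    intro n
    induction n with
    | zero => intro x y; simp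
    | succ n ih =>
      intro x y
      have e1 : AdjoinRoot.root f ^ (n + 1) * x =
          AdjoinRoot.root f * (AdjoinRoot.root f ^ n * x) := by rw [pow_succ']; ring
      have e2 : y = AdjoinRoot.root f * ((AdjoinRoot.root f)⁻¹ * y) := by
        rw [mul_inv_cancel_left₀ hθ]
      have e3 : (AdjoinRoot.root f)⁻¹ ^ (n + 1) * y =
          (AdjoinRoot.root f)⁻¹ ^ n * ((AdjoinRoot.root f)⁻¹ * y) := by rw [pow_succ]; ring
      rw [e1, e3, ← ih]
      conv_lhs => rw [e2]
      exact hinv _ _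
  induction p using Polynomial.induction_on' with
  | add p q hp hq =>
    rw [map_add, map_add, add_mul, add_mul, map_add, map_add, LinearMap.add_apply, hp, hq]
  | monomial n a =>
    rw [aeval_monomial, aeval_monomial, ← Algebra.smul_def, ← Algebra.smul_def, smul_mul_assoc,
      smul_mul_assoc, map_smul, map_smul, LinearMap.smul_apply, hpow]

theorem nondeg (β : AdjoinRoot f →ₗ[F] AdjoinRoot f →ₗ[F] F)
    (hinv : ∀ x y, β (AdjoinRoot.root f * x) (AdjoinRoot.root f * y) = β x y)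
    (hne : ∃ x y, β x y ≠ 0) (x : AdjoinRoot f) (hx : ∀ y, β x y = 0) : x = 0 := by
  by_contra hx0
  obtain ⟨x₁, y₁, h1⟩ := hne
  apply h1
  obtain ⟨p, hp⟩ := AdjoinRoot.mk_surjective (g := f) (x₁ * x⁻¹)
  have e : x₁ = aeval (AdjoinRoot.root f) p * x := by
    rw [AdjoinRoot.aeval_eq, hp, inv_mul_cancel_right₀ hx0]
  rw [e, adj_poly β hinv (root_ne_zero β hinv ⟨x₁, y₁, h1⟩)]
  exact hx _

theorem sr_of_form (β : AdjoinRoot f →ₗ[F] AdjoinRoot f →ₗ[F] F) (halt : ∀ x, β x x = 0)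
    (hinv : ∀ x y, β (AdjoinRoot.root f * x) (AdjoinRoot.root f * y) = β x y)
    (hne : ∃ x y, β x y ≠ 0) : SR f := by
  have hθ := root_ne_zero β hinv hne
  constructor
  · apply nondeg β hinv hne
    intro y
    rw [skew β halt]
    have h1 := adj_poly β hinv hθ f y 1
    rw [AdjoinRoot.aeval_eq, AdjoinRoot.mk_self, zero_mul, map_zero, LinearMap.zero_apply,
      mul_one] at h1
    rw [← h1, neg_zero]
  · intro h2
    have h3 : (AdjoinRoot.root f - 1) * (AdjoinRoot.root f + 1) = 0 := by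
      have : (AdjoinRoot.root f - 1) * (AdjoinRoot.root f + 1) = AdjoinRoot.root f ^ 2 - 1 := by
        ring
      rw [this, h2, sub_self]
    have h4 : ∃ c : F, AdjoinRoot.root f = algebraMap F (AdjoinRoot f) c := by
      rcases mul_eq_zero.mp h3 with h | h
      · exact ⟨1, by rw [map_one]; exact sub_eq_zero.mp h⟩
      · exact ⟨-1, by rw [map_neg, map_one]; exact eq_neg_of_add_eq_zero_left h⟩
    obtain ⟨c, hc⟩ := h4
    have h5 : ∀ l : AdjoinRoot f, ∃ a : F, l = a • (1 : AdjoinRoot f) := by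
      intro l
      obtain ⟨p, hp⟩ := AdjoinRoot.mk_surjective (g := f) l
      refine ⟨aeval c p, ?_⟩
      rw [← hp, ← AdjoinRoot.aeval_eq, hc, Polynomial.aeval_algebraMap_apply,
        Algebra.algebraMap_eq_smul_one]
    obtain ⟨x, y, hxy⟩ := hne
    apply hxy
    obtain ⟨a, ha⟩ := h5 x
    obtain ⟨b, hb⟩ := h5 y
    rw [ha, hb, map_smul, map_smul, LinearMap.smul_apply, halt, smul_zero, smul_zero]

theorem finiteDim : Module.Finite F (AdjoinRoot f) :=
  (AdjoinRoot.powerBasis hfi.out.ne_zero).finite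

/-- functionals on `AdjoinRoot f` are represented by multiplication -/
theorem repr_fun (μ μ' : AdjoinRoot f →ₗ[F] F) (hμ : ∃ z, μ z ≠ 0) :
    ∃ a : AdjoinRoot f, ∀ z, μ' z = μ (a * z) := by
  haveI := finiteDim (f := f)
  obtain ⟨Φ, hΦ⟩ : ∃ Φ : AdjoinRoot f →ₗ[F] (AdjoinRoot f →ₗ[F] F),
      ∀ a z, Φ a z = μ (a * z) :=
    ⟨(LinearMap.llcomp F (AdjoinRoot f) (AdjoinRoot f) F μ) ∘ₗ (LinearMap.mul F (AdjoinRoot f)),
      fun a z => rfl⟩
  have hinj : Function.Injective Φ := by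
    rw [← LinearMap.ker_eq_bot, LinearMap.ker_eq_bot']
    intro a ha
    by_contra ha0
    obtain ⟨z, hz⟩ := hμ
    apply hz
    have h1 := hΦ a (a⁻¹ * z)
    rw [ha, LinearMap.zero_apply, mul_inv_cancel_left₀ ha0] at h1
    exact h1.symm
  have hfr : Module.finrank F (AdjoinRoot f) = Module.finrank F (AdjoinRoot f →ₗ[F] F) :=
    (Subspace.dual_finrank_eq (K := F) (V := AdjoinRoot f)).symm
  obtain ⟨a, ha⟩ := (LinearMap.injective_iff_surjective_of_finrank_eq_finrank hfr).mp hinj μ'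
  exact ⟨a, fun z => by rw [← hΦ, ha]⟩

/-- norm surjectivity for an involution of a finite field -/
theorem norm_surj {L : Type*} [Field L] [Finite L] (σ : L →+* L) (hσσ : ∀ x, σ (σ x) = x)
    (hne : ∃ x₀, σ x₀ ≠ x₀) (b : L) (hb0 : b ≠ 0) (hb : σ b = b) : ∃ u : L, u * σ u = b := by
  obtain ⟨N, hN⟩ : ∃ N : Lˣ →* Lˣ, ∀ u : Lˣ, ((N u : Lˣ) : L) = (u : L) * σ u :=
    ⟨{ toFun := fun u => u * Units.map (σ : L →* L) u
       map_one' := by simp
       map_mul' := fun a b => by
        simp only [map_mul]; exact mul_mul_mul_comm _ _ _ _ }, fun u => rfl⟩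
  obtain ⟨D, hD⟩ : ∃ D : Lˣ →* Lˣ, ∀ u : Lˣ, ((D u : Lˣ) : L) = (u : L) * (σ u)⁻¹ :=
    ⟨{ toFun := fun u => u * (Units.map (σ : L →* L) u)⁻¹
       map_one' := by simp
       map_mul' := fun a b => by
        rw [map_mul, mul_inv]; exact mul_mul_mul_comm _ _ _ _ }, fun u => by
        show (u : L) * (((Units.map (σ : L →* L) u)⁻¹ : Lˣ) : L) = _
        rw [Units.val_inv_eq_inv_val]; rfl⟩
  have h1 : D.range = N.ker := by
    apply le_antisymm
    · rintro _ ⟨v, rfl⟩
      rw [MonoidHom.mem_ker]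
      apply Units.ext
      rw [hN, hD, Units.val_one, map_mul, map_inv₀, hσσ]
      have hv : (v : L) ≠ 0 := v.ne_zero
      have hsv : σ (v : L) ≠ 0 := by
        intro h; apply hv; rw [← hσσ (v : L), h, map_zero]
      field_simp
    · intro c hc
      rw [MonoidHom.mem_ker] at hc
      have hc' : (c : L) * σ c = 1 := by rw [← hN, hc, Units.val_one]
      have key : ∃ v : L, v ≠ 0 ∧ (c : L) * σ v = v := by
        by_cases h : (1 + (c : L)) = 0
        · obtain ⟨x₀, hx₀⟩ := hne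
          refine ⟨x₀ - σ x₀, fun h' => hx₀ (sub_eq_zero.mp h').symm, ?_⟩
          have hcm : (c : L) = -1 := by linear_combination h
          rw [hcm, map_sub, hσσ]; ring
        · refine ⟨1 + c, h, ?_⟩
          rw [map_add, map_one, mul_add, mul_one, hc', add_comm]
      obtain ⟨v, hv0, hv⟩ := key
      refine ⟨Units.mk0 v hv0, ?_⟩
      apply Units.ext
      rw [hD, Units.val_mk0]
      have hsv : σ v ≠ 0 := by
        intro h; apply hv0; rw [← hσσ v, h, map_zero]
      calc v * (σ v)⁻¹ = ((c : L) * σ v) * (σ v)⁻¹ := by rw [hv]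
        _ = c := mul_inv_cancel_right₀ hsv _
  have h2 : N.range ≤ D.ker := by
    rintro _ ⟨u, rfl⟩
    rw [MonoidHom.mem_ker]
    apply Units.ext
    rw [hD, hN, Units.val_one, map_mul, hσσ]
    have hu : (u : L) ≠ 0 := u.ne_zero
    have hsu : σ (u : L) ≠ 0 := by
      intro h; apply hu; rw [← hσσ (u : L), h, map_zero]
    field_simp
  have c1 := Subgroup.card_mul_index N.ker
  rw [Subgroup.index_ker] at c1
  have c2 := Subgroup.card_mul_index D.ker
  rw [Subgroup.index_ker, h1] at c2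
  have c3 : Nat.card D.ker ≤ Nat.card N.range := by
    have hpos : 0 < Nat.card N.ker := Nat.card_pos
    have : Nat.card N.ker * Nat.card D.ker = Nat.card N.ker * Nat.card N.range := by
      rw [c1, mul_comm, c2]
    exact (Nat.eq_of_mul_eq_mul_left hpos this).le
  have h3 : N.range = D.ker := Subgroup.eq_of_le_of_card_ge h2 c3
  have hbk : Units.mk0 b hb0 ∈ D.ker := by
    rw [MonoidHom.mem_ker]
    apply Units.ext
    rw [hD, Units.val_mk0, Units.val_one, hb, mul_inv_cancel₀ hb0]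
  rw [← h3] at hbk
  obtain ⟨u, hu⟩ := hbk
  refine ⟨u, ?_⟩
  rw [← hN, hu, Units.val_mk0]

/-- two nonzero invariant alternating forms on `AdjoinRoot f` are equivalent by a multiplication -/
theorem base_field [Finite F] (β β' : AdjoinRoot f →ₗ[F] AdjoinRoot f →ₗ[F] F)
    (halt : ∀ x, β x x = 0) (halt' : ∀ x, β' x x = 0)
    (hinv : ∀ x y, β (AdjoinRoot.root f * x) (AdjoinRoot.root f * y) = β x y)
    (hinv' : ∀ x y, β' (AdjoinRoot.root f * x) (AdjoinRoot.root f * y) = β' x y)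
    (hne : ∃ x y, β x y ≠ 0) (hne' : ∃ x y, β' x y ≠ 0) :
    ∃ u : AdjoinRoot f, ∀ x y, β' (u * x) (u * y) = β x y := by
  haveI := finiteDim (f := f)
  haveI : Finite (AdjoinRoot f) := Module.finite_of_finite F
  have hθ := root_ne_zero β hinv hne
  have h0 : aeval (AdjoinRoot.root f)⁻¹ f = 0 := (sr_of_form β halt hinv hne).1
  obtain ⟨σ, hσ⟩ : ∃ σ : AdjoinRoot f →ₐ[F] AdjoinRoot f,
      ∀ p : F[X], σ (AdjoinRoot.mk f p) = aeval (AdjoinRoot.root f)⁻¹ p :=
    ⟨AdjoinRoot.liftAlgHom f (Algebra.ofId F (AdjoinRoot f)) (AdjoinRoot.root f)⁻¹ h0,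
      fun p => rfl⟩
  have adj : ∀ l x y, β (l * x) y = β x (σ l * y) := by
    intro l x y
    obtain ⟨p, rfl⟩ := AdjoinRoot.mk_surjective (g := f) l
    rw [hσ, ← AdjoinRoot.aeval_eq]
    exact adj_poly β hinv hθ p x y
  have adj' : ∀ l x y, β' (l * x) y = β' x (σ l * y) := by
    intro l x y
    obtain ⟨p, rfl⟩ := AdjoinRoot.mk_surjective (g := f) l
    rw [hσ, ← AdjoinRoot.aeval_eq]
    exact adj_poly β' hinv' hθ p x y
  have hσσ : ∀ l, σ (σ l) = l := by
    intro l
    have h1 : ∀ y, β (l - σ (σ l)) y = 0 := by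
      intro y
      have e1 : β l y = β 1 (σ l * y) := by
        have := adj l 1 y; rwa [mul_one] at this
      have e2 : β (σ (σ l)) y = β 1 (σ l * y) := by
        have := adj (σ l) y 1
        rw [mul_one, skew β halt, skew β halt y] at this
        exact (neg_injective this).symm
      rw [map_sub, LinearMap.sub_apply, e1, e2, sub_self]
    exact (sub_eq_zero.mp (nondeg β hinv hne _ h1)).symm
  obtain ⟨lam, hlam⟩ : ∃ lam : AdjoinRoot f →ₗ[F] F, ∀ z, lam z = β z 1 := ⟨β.flip 1, fun z => rfl⟩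
  obtain ⟨lam', hlam'⟩ : ∃ lam' : AdjoinRoot f →ₗ[F] F, ∀ z, lam' z = β' z 1 :=
    ⟨β'.flip 1, fun z => rfl⟩
  have hβ : ∀ x y, β x y = lam (σ y * x) := by
    intro x y; rw [hlam, adj, hσσ, mul_one]
  have hβ' : ∀ x y, β' x y = lam' (σ y * x) := by
    intro x y; rw [hlam', adj', hσσ, mul_one]
  have hlσ : ∀ z, lam (σ z) = - lam z := by
    intro z
    have h1 := adj (σ z) 1 1
    rw [mul_one, hσσ, mul_one] at h1
    rw [hlam, hlam, h1, skew β halt]
  have hlσ' : ∀ z, lam' (σ z) = - lam' z := by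
    intro z
    have h1 := adj' (σ z) 1 1
    rw [mul_one, hσσ, mul_one] at h1
    rw [hlam', hlam', h1, skew β' halt']
  have hl0 : ∃ z, lam z ≠ 0 := by
    obtain ⟨x, y, hxy⟩ := hne
    exact ⟨σ y * x, by rw [← hβ]; exact hxy⟩
  have hl0' : ∃ z, lam' z ≠ 0 := by
    obtain ⟨x, y, hxy⟩ := hne'
    exact ⟨σ y * x, by rw [← hβ']; exact hxy⟩
  have hkill : ∀ d : AdjoinRoot f, (∀ z, lam (d * z) = 0) → d = 0 := by
    intro d hd
    by_contra hd0
    obtain ⟨z, hz⟩ := hl0
    apply hz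
    have := hd (d⁻¹ * z)
    rwa [mul_inv_cancel_left₀ hd0] at this
  obtain ⟨a, ha⟩ := repr_fun lam lam' hl0
  have ha0 : a ≠ 0 := by
    rintro rfl
    obtain ⟨z, hz⟩ := hl0'
    apply hz
    rw [ha, zero_mul, map_zero]
  have hσa : σ a = a := by
    have h1 : ∀ z, lam ((a - σ a) * z) = 0 := by
      intro z
      have e1 : lam (a * z) = lam' z := (ha z).symm
      have e2 : lam (σ a * z) = lam' z := by
        have h2 := hlσ (a * σ z)
        rw [map_mul, hσσ] at h2
        rw [h2, ← ha, hlσ', neg_neg]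
      rw [sub_mul, map_sub, e1, e2, sub_self]
    exact (sub_eq_zero.mp (hkill _ h1)).symm
  have hσne : ∃ x₀, σ x₀ ≠ x₀ := by
    by_contra hall
    push_neg at hall
    have h2 : ∀ z, lam ((2 : AdjoinRoot f) * z) = 0 := by
      intro z
      have h3 := hlσ z
      rw [hall] at h3
      rw [two_mul, map_add]
      linear_combination h3
    by_cases h20 : (2 : AdjoinRoot f) = 0
    · have hch : ringChar (AdjoinRoot f) = 2 :=
        CharP.ringChar_of_prime_eq_zero Nat.prime_two (by exact_mod_cast h20)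
      obtain ⟨z, hz⟩ := hl0
      apply hz
      obtain ⟨s, hs⟩ := FiniteField.isSquare_of_char_two hch z
      have h4 := hβ s s
      rw [hall, halt] at h4
      rw [hs, ← h4]
    · exact h20 (hkill _ h2)
  have hainv : σ a⁻¹ = a⁻¹ := by rw [map_inv₀, hσa]
  obtain ⟨u, hu⟩ := norm_surj (σ : AdjoinRoot f →+* AdjoinRoot f) hσσ hσne a⁻¹
    (inv_ne_zero ha0) hainv
  refine ⟨u, fun x y => ?_⟩
  have hu' : u * σ u = a⁻¹ := hu
  rw [hβ', ha, hβ, show σ (u * y) = σ u * σ y from map_mul σ u y]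
  congr 1
  have : a * (σ u * σ y * (u * x)) = (u * σ u) * a * (σ y * x) := by ring
  rw [this, hu', inv_mul_cancel₀ ha0, one_mul]

end Lfield

end Cfsg.Agent.Helper14.SpConj
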