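import Mathlib
import Cfsg.Agent.Helper14.SemiConj
import Cfsg.Agent.Helper14.SpConjL

/-!
# Semisimple isometries of alternating spaces with equal characteristic polynomial (helper14)

`sp_conj`: over a finite field, two semisimple isometries of nondegenerate alternating spaces with
the same characteristic polynomial are conjugate by an isometry.
-/

set_option autoImplicit false

namespace Cfsg.Agent.Helper14.SpConj

open Polynomial

universe u

section Basic

variable {F : Type*} [Field F] {V : Type*} [AddCommGroup V] [Module F V]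

/-- an alternating nondegenerate form together with an isometry -/
def Good (B : LinearMap.BilinForm F V) (g : Module.End F V) : Prop :=
  (∀ x, B x x = 0) ∧ (∀ x, (∀ y, B x y = 0) → x = 0) ∧ (∀ x y, B (g x) (g y) = B x y)

theorem bskew {B : LinearMap.BilinForm F V} (halt : ∀ x, B x x = 0) (x y : V) :
    B x y = - B y x := by
  have h := halt (x + y)
  simp only [map_add, LinearMap.add_apply, halt, zero_add, add_zero] at h
  linear_combination h

theorem good_inj {B : LinearMap.BilinForm F V} {g : Module.End F V} (hG : Good B g) :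
    Function.Injective g := by
  rw [← LinearMap.ker_eq_bot, LinearMap.ker_eq_bot']
  intro x hx
  apply hG.2.1
  intro y
  rw [← hG.2.2, hx, map_zero, LinearMap.zero_apply]

theorem exists_inv [FiniteDimensional F V] {B : LinearMap.BilinForm F V} {g : Module.End F V}
    (hG : Good B g) :
    ∃ gi : Module.End F V, (∀ x, g (gi x) = x) ∧ (∀ x, gi (g x) = x) ∧ Good B gi := by
  have hinj := good_inj hG
  obtain ⟨e, he⟩ : ∃ e : V ≃ₗ[F] V, ∀ x, e x = g x :=
    ⟨LinearEquiv.ofInjectiveEndo g hinj, fun x => rfl⟩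
  refine ⟨e.symm.toLinearMap, fun x => ?_, fun x => ?_, hG.1, hG.2.1, fun x y => ?_⟩
  · show g (e.symm x) = x
    rw [← he, LinearEquiv.apply_symm_apply]
  · show e.symm (g x) = x
    rw [← he, LinearEquiv.symm_apply_apply]
  · show B (e.symm x) (e.symm y) = B x y
    rw [← hG.2.2 (e.symm x) (e.symm y), ← he, ← he, LinearEquiv.apply_symm_apply,
      LinearEquiv.apply_symm_apply]

theorem aeval_comm (g : Module.End F V) (p : F[X]) (x : V) :
    g (aeval g p x) = aeval g p (g x) := by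
  have h : aeval g (X * p) = aeval g (p * X) := by rw [mul_comm]
  rw [map_mul, map_mul, aeval_X] at h
  exact congrArg (fun e : Module.End F V => e x) h

theorem aeval_mem (t : Module.End F V) (S : Submodule F V) (hS : ∀ x ∈ S, t x ∈ S) (p : F[X]) :
    ∀ x ∈ S, aeval t p x ∈ S := by
  have hpow : ∀ (n : ℕ), ∀ x ∈ S, (t ^ n) x ∈ S := by
    intro n
    induction n with
    | zero => intro x hx; simpa using hx
    | succ n ih =>
      intro x hx
      rw [pow_succ, Module.End.mul_apply]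
      exact ih _ (hS x hx)
  induction p using Polynomial.induction_on' with
  | add p q hp hq =>
    intro x hx
    rw [map_add, LinearMap.add_apply]
    exact S.add_mem (hp x hx) (hq x hx)
  | monomial n a =>
    intro x hx
    rw [aeval_monomial, ← Algebra.smul_def, LinearMap.smul_apply]
    exact S.smul_mem _ (hpow n x hx)

theorem adj_aeval {B : LinearMap.BilinForm F V} {g gi : Module.End F V}
    (hiso : ∀ x y, B (g x) (g y) = B x y) (h1 : ∀ x, g (gi x) = x) (p : F[X]) (x y : V) :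
    B (aeval g p x) y = B x (aeval gi p y) := by
  have hpow : ∀ (n : ℕ) (x y : V), B ((g ^ n) x) y = B x ((gi ^ n) y) := by
    intro n
    induction n with
    | zero => intro x y; simp
    | succ n ih =>
      intro x y
      rw [pow_succ', pow_succ, Module.End.mul_apply, Module.End.mul_apply, ← ih]
      conv_lhs => rw [← h1 y]
      exact hiso _ _
  induction p using Polynomial.induction_on' with
  | add p q hp hq =>
    simp only [map_add, LinearMap.add_apply, hp, hq]
  | monomial n a =>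
    rw [aeval_monomial, aeval_monomial, ← Algebra.smul_def, ← Algebra.smul_def,
      LinearMap.smul_apply, LinearMap.smul_apply, map_smul, LinearMap.smul_apply, map_smul, hpow]

theorem inv_mem [FiniteDimensional F V] {g gi : Module.End F V} (hinj : Function.Injective g)
    (h2 : ∀ x, gi (g x) = x) (S : Submodule F V) (hS : ∀ x ∈ S, g x ∈ S) :
    ∀ x ∈ S, gi x ∈ S := by
  intro x hx
  have hsurj : Function.Surjective (g.restrict hS) := by
    apply LinearMap.surjective_of_injective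
    intro a b hab
    exact Subtype.ext (hinj (congrArg Subtype.val hab))
  obtain ⟨x', hx'⟩ := hsurj ⟨x, hx⟩
  have e : x = g (x' : V) := (congrArg Subtype.val hx').symm
  rw [e, h2]
  exact x'.2

theorem exists_kappa (f : F[X]) (t : Module.End F V) (v : V) (hv : aeval t f v = 0) :
    ∃ κ : AdjoinRoot f →ₗ[F] V, ∀ p, κ (AdjoinRoot.mk f p) = aeval t p v := by
  obtain ⟨lb, hlb⟩ := descend f (SemiConj.cyc t v) (fun p => by
    rw [SemiConj.cyc_apply, mul_comm, map_mul, Module.End.mul_apply, hv, map_zero])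
  exact ⟨lb, fun p => hlb p⟩

section kappa

variable {f : F[X]} {t : Module.End F V} {v : V} (κ : AdjoinRoot f →ₗ[F] V)
  (hκ : ∀ p, κ (AdjoinRoot.mk f p) = aeval t p v)

include hκ

theorem kappa_mul (q : F[X]) (l : AdjoinRoot f) :
    κ (AdjoinRoot.mk f q * l) = aeval t q (κ l) := by
  obtain ⟨p, rfl⟩ := AdjoinRoot.mk_surjective (g := f) l
  rw [← map_mul, hκ, hκ, map_mul, Module.End.mul_apply]

theorem kappa_root (l : AdjoinRoot f) : κ (AdjoinRoot.root f * l) = t (κ l) := by
  have h := kappa_mul κ hκ X l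
  rwa [AdjoinRoot.mk_X, aeval_X] at h

theorem kappa_one : κ 1 = v := by
  have h := hκ 1
  have e1 : AdjoinRoot.mk f (1 : F[X]) = 1 := map_one _
  have e2 : aeval t (1 : F[X]) = 1 := map_one _
  rw [e1, e2, Module.End.one_apply] at h
  exact h

theorem kappa_inj [Fact (Irreducible f)] (hv0 : v ≠ 0) (l : AdjoinRoot f) (hl : κ l = 0) :
    l = 0 := by
  by_contra hl0
  apply hv0
  obtain ⟨q, hq⟩ := AdjoinRoot.mk_surjective (g := f) l⁻¹
  have h1 := kappa_mul κ hκ q l
  rw [hq, inv_mul_cancel₀ hl0, kappa_one κ hκ, hl, map_zero] at h1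
  exact h1

end kappa

/-- polarization: in the self-reciprocal case there is a cyclic vector which is not isotropic -/
theorem exists_nonTI [FiniteDimensional F V] {B : LinearMap.BilinForm F V} {g : Module.End F V}
    (hG : Good B g) (hs : g.IsSemisimple) (f : F[X]) [Fact (Irreducible f)] (hSR : SR f)
    (w₀ : V) (hw₀ : w₀ ≠ 0) (hfw : aeval g f w₀ = 0) :
    ∃ y, aeval g f y = 0 ∧ B y (g y) ≠ 0 := by
  by_contra hcon
  push_neg at hcon
  obtain ⟨gi, hg1, hg2, hGi⟩ := exists_inv hG
  have skw := bskew hG.1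
  obtain ⟨κ₀, hκ₀⟩ := exists_kappa f g w₀ hfw
  have hκθ : κ₀ (AdjoinRoot.root f) = g w₀ := by
    have h1 := kappa_root κ₀ hκ₀ 1
    rwa [mul_one, kappa_one κ₀ hκ₀] at h1
  have hθ : AdjoinRoot.root f ≠ 0 := by
    intro h0
    rw [h0, map_zero] at hκθ
    exact hw₀ (good_inj hG (by rw [← hκθ, map_zero]))
  have hfi : ∀ y, aeval g f y = 0 → aeval gi f y = 0 := by
    intro y hy
    obtain ⟨κ, hκ⟩ := exists_kappa f g y hy
    have hgi : ∀ l, gi (κ l) = κ ((AdjoinRoot.root f)⁻¹ * l) := by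
      intro l
      have h1 := kappa_root κ hκ ((AdjoinRoot.root f)⁻¹ * l)
      rw [mul_inv_cancel_left₀ hθ] at h1
      rw [h1, hg2]
    have hpow : ∀ (n : ℕ) (l : AdjoinRoot f),
        (gi ^ n) (κ l) = κ ((AdjoinRoot.root f)⁻¹ ^ n * l) := by
      intro n
      induction n with
      | zero => intro l; simp
      | succ n ih =>
        intro l
        rw [pow_succ, Module.End.mul_apply, hgi, ih, pow_succ, mul_assoc]
    have hpoly : ∀ (p : F[X]) (l : AdjoinRoot f),
        aeval gi p (κ l) = κ (aeval (AdjoinRoot.root f)⁻¹ p * l) := by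
      intro p
      induction p using Polynomial.induction_on' with
      | add p q hp hq =>
        intro l
        rw [map_add, LinearMap.add_apply, hp, hq, map_add, add_mul, map_add]
      | monomial n a =>
        intro l
        rw [aeval_monomial, aeval_monomial, ← Algebra.smul_def, ← Algebra.smul_def,
          LinearMap.smul_apply, smul_mul_assoc, map_smul, hpow]
    have h2 := hpoly f 1
    rw [hSR.1, zero_mul, map_zero, kappa_one κ hκ] at h2
    exact h2
  have hKg : ∀ y, aeval g f y = 0 → aeval g f (g y) = 0 := by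
    intro y hy; rw [← aeval_comm, hy, map_zero]
  have hKgi : ∀ y, aeval g f y = 0 → aeval g f (gi y) = 0 := by
    intro y hy
    apply good_inj hG
    rw [aeval_comm, hg1, hy, map_zero]
  have hpol : ∀ y₁ y₂, aeval g f y₁ = 0 → aeval g f y₂ = 0 → B y₁ (g y₂ - gi y₂) = 0 := by
    intro y₁ y₂ h1 h2
    have e := hcon (y₁ + y₂) (by rw [map_add, h1, h2, add_zero])
    simp only [map_add, LinearMap.add_apply, hcon y₁ h1, hcon y₂ h2, zero_add, add_zero] at e
    have e2 : B y₂ (g y₁) = - B y₁ (gi y₂) := by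
      rw [skw y₂ (g y₁), ← hG.2.2 y₁ (gi y₂), hg1]
    rw [map_sub]
    linear_combination e - e2
  have hKinv : LinearMap.ker (aeval g f) ∈ Module.End.invtSubmodule g := by
    rw [Module.End.mem_invtSubmodule]
    intro y hy
    rw [Submodule.mem_comap, LinearMap.mem_ker]
    exact hKg y (LinearMap.mem_ker.mp hy)
  obtain ⟨Q, hQinv, hKQ⟩ := (Module.End.isSemisimple_iff.mp hs) _ hKinv
  have hQg : ∀ x ∈ Q, g x ∈ Q := fun x hx => (Module.End.mem_invtSubmodule g).mp hQinv hx
  have hQf : ∀ x ∈ Q, aeval g f x ∈ Q := aeval_mem g Q hQg f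
  have hsurj : Function.Surjective ((aeval g f).restrict hQf) := by
    apply LinearMap.surjective_of_injective
    rw [← LinearMap.ker_eq_bot, LinearMap.ker_eq_bot']
    intro x hx
    have h1 : aeval g f (x : V) = 0 := congrArg Subtype.val hx
    have h2 : (x : V) ∈ LinearMap.ker (aeval g f) ⊓ Q := ⟨LinearMap.mem_ker.mpr h1, x.2⟩
    rw [hKQ.inf_eq_bot] at h2
    exact Subtype.ext ((Submodule.mem_bot F).mp h2)
  have hgg : ∀ y, aeval g f y = 0 → g y = gi y := by
    intro y hy
    have hz : aeval g f (g y - gi y) = 0 := by rw [map_sub, hKg y hy, hKgi y hy, sub_zero]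
    have h0 : ∀ v, B (g y - gi y) v = 0 := by
      intro v
      have hv : v ∈ LinearMap.ker (aeval g f) ⊔ Q := by
        rw [hKQ.sup_eq_top]; exact Submodule.mem_top
      obtain ⟨a, ha, q, hq, rfl⟩ := Submodule.mem_sup.mp hv
      obtain ⟨t, ht⟩ := hsurj ⟨q, hq⟩
      have hq' : q = aeval g f (t : V) := (congrArg Subtype.val ht).symm
      rw [skw, map_add, LinearMap.add_apply, hpol a y (LinearMap.mem_ker.mp ha) hy, hq',
        adj_aeval hG.2.2 hg1, hfi _ hz, map_zero, add_zero, neg_zero]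
    exact sub_eq_zero.mp (hG.2.1 _ h0)
  have h1 := hgg w₀ hfw
  have h2 : g (g w₀) = w₀ := by rw [h1, hg1]
  apply hSR.2
  have h3 : κ₀ (AdjoinRoot.root f ^ 2) = κ₀ 1 := by
    rw [pow_two, kappa_root κ₀ hκ₀, hκθ, kappa_one κ₀ hκ₀, h2]
  have h4 := kappa_inj κ₀ hκ₀ hw₀ (AdjoinRoot.root f ^ 2 - 1) (by rw [map_sub, h3, sub_self])
  exact sub_eq_zero.mp h4

theorem orth_inv [FiniteDimensional F V] {B : LinearMap.BilinForm F V} {g : Module.End F V}
    (hG : Good B g) (H : Submodule F V) (hH : ∀ x ∈ H, g x ∈ H) :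
    ∀ x ∈ B.orthogonal H, g x ∈ B.orthogonal H := by
  intro x hx n hn
  have hsurj : Function.Surjective (g.restrict hH) := by
    apply LinearMap.surjective_of_injective
    intro a b hab
    exact Subtype.ext (good_inj hG (congrArg Subtype.val hab))
  obtain ⟨n', hn'⟩ := hsurj ⟨n, hn⟩
  have e : n = g (n' : V) := (congrArg Subtype.val hn').symm
  show B n (g x) = 0
  rw [e, hG.2.2]
  exact hx n' n'.2

theorem decomp [FiniteDimensional F V] {C : LinearMap.BilinForm F V} {k : Module.End F V}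
    (hGk : Good C k) (H : Submodule F V) (hH : ∀ x ∈ H, k x ∈ H)
    (hHnd : ∀ x ∈ H, (∀ y ∈ H, C x y = 0) → x = 0) :
    IsCompl H (C.orthogonal H) ∧ ∃ hU : ∀ x ∈ C.orthogonal H, k x ∈ C.orthogonal H,
      Good (C.restrict (C.orthogonal H)) (k.restrict hU) := by
  have skw := bskew hGk.1
  have hrefl : C.IsRefl := fun x y h => by rw [skw, h, neg_zero]
  have hnondeg : (C.restrict H).Nondegenerate := by
    constructor
    · intro x hx
      apply Subtype.ext
      exact hHnd x x.2 (fun y hy => hx ⟨y, hy⟩)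
    · intro y hy
      apply Subtype.ext
      apply hHnd y y.2
      intro x hx
      rw [skw, show C x y = 0 from hy ⟨x, hx⟩, neg_zero]
  have hc := LinearMap.BilinForm.isCompl_orthogonal_of_restrict_nondegenerate hrefl hnondeg
  refine ⟨hc, orth_inv hGk H hH, fun x => hGk.1 x, ?_, fun x y => hGk.2.2 x y⟩
  intro x hx
  apply Subtype.ext
  apply hGk.2.1
  intro v
  have hv : v ∈ H ⊔ C.orthogonal H := by rw [hc.sup_eq_top]; exact Submodule.mem_top
  obtain ⟨a, ha, b, hb, rfl⟩ := Submodule.mem_sup.mp hv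
  have e1 : C (x : V) a = 0 := by
    rw [skw, show C a (x : V) = 0 from x.2 a ha, neg_zero]
  have e2 : C (x : V) b = 0 := hx ⟨b, hb⟩
  rw [map_add, e1, e2, add_zero]

end Basic


section Step

variable {F : Type*} [Field F]

theorem step {n : ℕ}
    (ih : ∀ m < n, ∀ (V V' : Type u) [AddCommGroup V] [Module F V] [FiniteDimensional F V]
      [AddCommGroup V'] [Module F V'] [FiniteDimensional F V'] (B : LinearMap.BilinForm F V)
      (B' : LinearMap.BilinForm F V') (g : Module.End F V) (g' : Module.End F V'),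
      Module.finrank F V = m → Good B g → Good B' g' → g.IsSemisimple → g'.IsSemisimple →
      g.charpoly = g'.charpoly →
      ∃ ψ : V →ₗ[F] V', (∀ x y, B' (ψ x) (ψ y) = B x y) ∧ ∀ x, ψ (g x) = g' (ψ x))
    (V V' : Type u) [AddCommGroup V] [Module F V] [FiniteDimensional F V]
    [AddCommGroup V'] [Module F V'] [FiniteDimensional F V']
    (B : LinearMap.BilinForm F V) (B' : LinearMap.BilinForm F V') (g : Module.End F V)
    (g' : Module.End F V') (hn : Module.finrank F V = n) (hG : Good B g) (hG' : Good B' g')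
    (hs : g.IsSemisimple) (hs' : g'.IsSemisimple) (hc : g.charpoly = g'.charpoly)
    {M : Type*} [AddCommGroup M] [Module F M] [FiniteDimensional F M] (T j : M →ₗ[F] M)
    (Θ : M →ₗ[F] V) (Θ' : M →ₗ[F] V')
    (hΘ : ∀ x, g (Θ x) = Θ (T x)) (hΘ' : ∀ x, g' (Θ' x) = Θ' (T x))
    (hiso : ∀ x y, B' (Θ' (j x)) (Θ' (j y)) = B (Θ x) (Θ y))
    (hjT : ∀ x, j (T x) = T (j x))
    (hnd : ∀ x, (∀ y, B (Θ x) (Θ y) = 0) → x = 0)
    (hnd' : ∀ x, (∀ y, B' (Θ' x) (Θ' y) = 0) → x = 0)
    (hM : ∃ x : M, x ≠ 0) :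
    ∃ ψ : V →ₗ[F] V', (∀ x y, B' (ψ x) (ψ y) = B x y) ∧ ∀ x, ψ (g x) = g' (ψ x) := by
  have skw := bskew hG.1
  have skw' := bskew hG'.1
  have hinj : Function.Injective Θ := by
    rw [← LinearMap.ker_eq_bot, LinearMap.ker_eq_bot']
    intro x hx; apply hnd; intro y; rw [hx, map_zero, LinearMap.zero_apply]
  have hinj' : Function.Injective Θ' := by
    rw [← LinearMap.ker_eq_bot, LinearMap.ker_eq_bot']
    intro x hx; apply hnd'; intro y; rw [hx, map_zero, LinearMap.zero_apply]
  obtain ⟨e, he⟩ : ∃ e : M ≃ₗ[F] LinearMap.range Θ, ∀ m, (e m : V) = Θ m :=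
    ⟨LinearEquiv.ofInjective Θ hinj, fun m => rfl⟩
  obtain ⟨e', he'⟩ : ∃ e' : M ≃ₗ[F] LinearMap.range Θ', ∀ m, (e' m : V') = Θ' m :=
    ⟨LinearEquiv.ofInjective Θ' hinj', fun m => rfl⟩
  have hH : ∀ x ∈ LinearMap.range Θ, g x ∈ LinearMap.range Θ := by
    rintro _ ⟨m, rfl⟩; exact ⟨T m, (hΘ m).symm⟩
  have hH' : ∀ x ∈ LinearMap.range Θ', g' x ∈ LinearMap.range Θ' := by
    rintro _ ⟨m, rfl⟩; exact ⟨T m, (hΘ' m).symm⟩
  have hHnd : ∀ x ∈ LinearMap.range Θ, (∀ y ∈ LinearMap.range Θ, B x y = 0) → x = 0 := by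
    rintro _ ⟨m, rfl⟩ h
    rw [hnd m (fun y => h _ ⟨y, rfl⟩), map_zero]
  have hHnd' : ∀ x ∈ LinearMap.range Θ', (∀ y ∈ LinearMap.range Θ', B' x y = 0) → x = 0 := by
    rintro _ ⟨m, rfl⟩ h
    rw [hnd' m (fun y => h _ ⟨y, rfl⟩), map_zero]
  obtain ⟨hcU, hU, hGU⟩ := decomp hG _ hH hHnd
  obtain ⟨hcU', hU', hGU'⟩ := decomp hG' _ hH' hHnd'
  have hcg := SemiConj.charpoly_of_isCompl g _ _ hH hU hcU
  have hcg' := SemiConj.charpoly_of_isCompl g' _ _ hH' hU' hcU'
  have hT : (g.restrict hH).charpoly = T.charpoly := by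
    rw [← LinearEquiv.charpoly_conj e T]
    congr 1
    apply LinearMap.ext
    intro x
    obtain ⟨m, rfl⟩ := e.surjective x
    rw [LinearEquiv.conj_apply]
    apply Subtype.ext
    simp only [LinearMap.comp_apply, LinearEquiv.coe_coe, LinearEquiv.symm_apply_apply]
    rw [he]
    show g (e m : V) = Θ (T m)
    rw [he, hΘ]
  have hT' : (g'.restrict hH').charpoly = T.charpoly := by
    rw [← LinearEquiv.charpoly_conj e' T]
    congr 1
    apply LinearMap.ext
    intro x
    obtain ⟨m, rfl⟩ := e'.surjective x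
    rw [LinearEquiv.conj_apply]
    apply Subtype.ext
    simp only [LinearMap.comp_apply, LinearEquiv.coe_coe, LinearEquiv.symm_apply_apply]
    rw [he']
    show g' (e' m : V') = Θ' (T m)
    rw [he', hΘ']
  have hc2 : (g.restrict hU).charpoly = (g'.restrict hU').charpoly := by
    rw [hcg, hcg', hT, hT'] at hc
    exact mul_left_cancel₀ (LinearMap.charpoly_monic _).ne_zero hc
  have hdimH : 0 < Module.finrank F (LinearMap.range Θ) := by
    obtain ⟨x, hx⟩ := hM
    apply Module.finrank_pos_iff_exists_ne_zero.mpr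
    exact ⟨e x, fun h0 => hx (e.injective (by rw [h0, map_zero]))⟩
  have hsum := Submodule.finrank_add_eq_of_isCompl hcU
  obtain ⟨ψ₂, hψ₂a, hψ₂b⟩ := ih (Module.finrank F (B.orthogonal (LinearMap.range Θ)))
    (by omega) _ _ (B.restrict _) (B'.restrict _) (g.restrict hU) (g'.restrict hU') rfl hGU hGU'
    (hs.restrict ((Module.End.mem_invtSubmodule g).mpr hU))
    (hs'.restrict ((Module.End.mem_invtSubmodule g').mpr hU')) hc2
  obtain ⟨ψ₁, hψ₁⟩ : ∃ ψ₁ : LinearMap.range Θ →ₗ[F] V', ∀ m, ψ₁ (e m) = Θ' (j m) :=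
    ⟨(Θ' ∘ₗ j) ∘ₗ e.symm.toLinearMap, fun m => by simp⟩
  obtain ⟨ψ, hψ⟩ : ∃ ψ : V →ₗ[F] V', ∀ (a : LinearMap.range Θ)
      (b : B.orthogonal (LinearMap.range Θ)), ψ ((a : V) + (b : V)) = ψ₁ a + (ψ₂ b : V') :=
    ⟨LinearMap.ofIsCompl hcU ψ₁ ((Submodule.subtype _) ∘ₗ ψ₂), fun a b => by
      rw [map_add, LinearMap.ofIsCompl_apply_left, LinearMap.ofIsCompl_apply_right]; rfl⟩
  have hdecomp : ∀ x : V, ∃ (m : M) (b : B.orthogonal (LinearMap.range Θ)),
      x = Θ m + (b : V) := by
    intro x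
    have hx : x ∈ LinearMap.range Θ ⊔ B.orthogonal (LinearMap.range Θ) := by
      rw [hcU.sup_eq_top]; exact Submodule.mem_top
    obtain ⟨a, ⟨m, rfl⟩, b, hb, rfl⟩ := Submodule.mem_sup.mp hx
    exact ⟨m, ⟨b, hb⟩, rfl⟩
  have hval : ∀ (m : M) (b : B.orthogonal (LinearMap.range Θ)),
      ψ (Θ m + (b : V)) = Θ' (j m) + (ψ₂ b : V') := by
    intro m b
    have h1 := hψ (e m) b
    rw [he, hψ₁] at h1
    exact h1
  refine ⟨ψ, fun x y => ?_, fun x => ?_⟩
  · obtain ⟨m, b, rfl⟩ := hdecomp x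
    obtain ⟨m₂, b₂, rfl⟩ := hdecomp y
    rw [hval, hval]
    have c1 : B' (Θ' (j m)) ((ψ₂ b₂ : V')) = 0 := (ψ₂ b₂).2 _ ⟨j m, rfl⟩
    have c2 : B' ((ψ₂ b : V')) (Θ' (j m₂)) = 0 := by
      rw [skw', show B' (Θ' (j m₂)) (ψ₂ b : V') = 0 from (ψ₂ b).2 _ ⟨j m₂, rfl⟩, neg_zero]
    have c3 : B (Θ m) (b₂ : V) = 0 := b₂.2 _ ⟨m, rfl⟩
    have c4 : B (b : V) (Θ m₂) = 0 := by
      rw [skw, show B (Θ m₂) (b : V) = 0 from b.2 _ ⟨m₂, rfl⟩, neg_zero]
    have c5 : B' (ψ₂ b : V') (ψ₂ b₂ : V') = B (b : V) (b₂ : V) := hψ₂a b b₂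
    simp only [map_add, LinearMap.add_apply]
    rw [c1, c2, c3, c4, c5, hiso]
  · obtain ⟨m, b, rfl⟩ := hdecomp x
    have e1 : g (Θ m + (b : V)) =
        Θ (T m) + ((g.restrict hU b : B.orthogonal (LinearMap.range Θ)) : V) := by
      rw [map_add, hΘ]; rfl
    rw [e1, hval, hval, map_add, hΘ', hjT]
    congr 1
    exact congrArg Subtype.val (hψ₂b b)

/-- the data of a hyperbolic pair of cyclic modules in the non-self-reciprocal case -/
theorem caseB_data {V : Type*} [AddCommGroup V] [Module F V] [FiniteDimensional F V]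
    {B : LinearMap.BilinForm F V} {g : Module.End F V} (hG : Good B g) (hs : g.IsSemisimple)
    (f : F[X]) [Fact (Irreducible f)] (hSR : ¬ SR f) (w : V) (hw0 : w ≠ 0)
    (hw : aeval g f w = 0) :
    ∃ (κ κt : AdjoinRoot f →ₗ[F] V) (μ : AdjoinRoot f →ₗ[F] F),
      (∀ l, g (κ l) = κ (AdjoinRoot.root f * l)) ∧
      (∀ l, g (κt l) = κt ((AdjoinRoot.root f)⁻¹ * l)) ∧
      (∀ l m, B (κ l) (κ m) = 0) ∧ (∀ l m, B (κt l) (κt m) = 0) ∧
      (∀ l m, B (κ l) (κt m) = μ (l * m)) ∧ (∃ z, μ z ≠ 0) := by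
  obtain ⟨gi, hg1, hg2, hGi⟩ := exists_inv hG
  have skw := bskew hG.1
  obtain ⟨κ, hκ⟩ := exists_kappa f g w hw
  have hκθ : κ (AdjoinRoot.root f) = g w := by
    have h1 := kappa_root κ hκ 1
    rwa [mul_one, kappa_one κ hκ] at h1
  have hθ : AdjoinRoot.root f ≠ 0 := by
    intro h0
    rw [h0, map_zero] at hκθ
    exact hw0 (good_inj hG (by rw [← hκθ, map_zero]))
  have hTI : ∀ l m, B (κ l) (κ m) = 0 := by
    by_contra hcon
    push_neg at hcon
    apply hSR
    exact sr_of_form (B.compl₁₂ κ κ) (fun x => hG.1 _)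
      (fun x y => by
        show B (κ (AdjoinRoot.root f * x)) (κ (AdjoinRoot.root f * y)) = B (κ x) (κ y)
        rw [kappa_root κ hκ, kappa_root κ hκ, hG.2.2]) hcon
  have hW : ∀ x ∈ LinearMap.range κ, g x ∈ LinearMap.range κ := by
    rintro _ ⟨l, rfl⟩
    exact ⟨AdjoinRoot.root f * l, kappa_root κ hκ l⟩
  have hWp := orth_inv hG _ hW
  obtain ⟨C₀, hC₀inv, hcompl⟩ := (Module.End.isSemisimple_iff.mp hs) _
    ((Module.End.mem_invtSubmodule g).mpr hWp)
  have hC₀g : ∀ x ∈ C₀, g x ∈ C₀ := fun x hx => (Module.End.mem_invtSubmodule g).mp hC₀inv hx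
  have hC₀gi : ∀ x ∈ C₀, gi x ∈ C₀ := inv_mem (good_inj hG) hg2 C₀ hC₀g
  have hC₀ne : C₀ ≠ ⊥ := by
    intro h0
    have h1 := hcompl.sup_eq_top
    rw [h0, sup_bot_eq] at h1
    apply hw0
    apply hG.2.1
    intro v
    have hv : v ∈ B.orthogonal (LinearMap.range κ) := by rw [h1]; exact Submodule.mem_top
    have h2 := hv (κ 1) ⟨1, rfl⟩
    rw [kappa_one κ hκ] at h2
    exact h2
  obtain ⟨c, hcC, hc0⟩ := Submodule.exists_mem_ne_zero_of_ne_bot hC₀ne
  have hmeet : ∀ z, z ∈ B.orthogonal (LinearMap.range κ) → z ∈ C₀ → z = 0 := by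
    intro z h1 h2
    have h3 : z ∈ B.orthogonal (LinearMap.range κ) ⊓ C₀ := ⟨h1, h2⟩
    rw [hcompl.inf_eq_bot] at h3
    exact (Submodule.mem_bot F).mp h3
  have hfc : aeval gi f c = 0 := by
    apply hmeet
    · rintro _ ⟨l, rfl⟩
      show B (κ l) (aeval gi f c) = 0
      rw [← adj_aeval hG.2.2 hg1, ← kappa_mul κ hκ, AdjoinRoot.mk_self, zero_mul, map_zero,
        map_zero, LinearMap.zero_apply]
    · exact aeval_mem gi C₀ hC₀gi f c hcC
  obtain ⟨κt, hκt⟩ := exists_kappa f gi c hfc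
  have hκtC : ∀ l, κt l ∈ C₀ := by
    intro l
    obtain ⟨p, rfl⟩ := AdjoinRoot.mk_surjective (g := f) l
    rw [hκt]
    exact aeval_mem gi C₀ hC₀gi p c hcC
  have hgκt : ∀ l, g (κt l) = κt ((AdjoinRoot.root f)⁻¹ * l) := by
    intro l
    have h1 := kappa_root κt hκt ((AdjoinRoot.root f)⁻¹ * l)
    rw [mul_inv_cancel_left₀ hθ] at h1
    rw [h1, hg1]
  have hTI2 : ∀ l m, B (κt l) (κt m) = 0 := by
    by_contra hcon
    push_neg at hcon
    apply hSR
    exact sr_of_form (B.compl₁₂ κt κt) (fun x => hG.1 _)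
      (fun x y => by
        show B (κt (AdjoinRoot.root f * x)) (κt (AdjoinRoot.root f * y)) = B (κt x) (κt y)
        rw [kappa_root κt hκt, kappa_root κt hκt, hGi.2.2]) hcon
  obtain ⟨μ, hμ⟩ : ∃ μ : AdjoinRoot f →ₗ[F] F, ∀ z, μ z = B w (κt z) :=
    ⟨(B w) ∘ₗ κt, fun z => rfl⟩
  have hpair : ∀ l m, B (κ l) (κt m) = μ (l * m) := by
    intro l m
    obtain ⟨p, rfl⟩ := AdjoinRoot.mk_surjective (g := f) l
    rw [hκ, adj_aeval hG.2.2 hg1, ← kappa_mul κt hκt, hμ]
  refine ⟨κ, κt, μ, fun l => (kappa_root κ hκ l).symm, hgκt, hTI, hTI2, hpair, ?_⟩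
  by_contra hcon
  push_neg at hcon
  apply hc0
  apply hmeet
  · rintro _ ⟨l, rfl⟩
    show B (κ l) c = 0
    have h1 := hpair l 1
    rw [kappa_one κt hκt, mul_one, hcon] at h1
    exact h1
  · exact hcC

/-- Semisimple isometries of nondegenerate alternating spaces over a finite field with the same
characteristic polynomial are conjugate by an isometry. -/
theorem sp_conj [Finite F] (n : ℕ) :
    ∀ (V V' : Type u) [AddCommGroup V] [Module F V] [FiniteDimensional F V]
      [AddCommGroup V'] [Module F V'] [FiniteDimensional F V'] (B : LinearMap.BilinForm F V)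
      (B' : LinearMap.BilinForm F V') (g : Module.End F V) (g' : Module.End F V'),
      Module.finrank F V = n → Good B g → Good B' g' → g.IsSemisimple → g'.IsSemisimple →
      g.charpoly = g'.charpoly →
      ∃ ψ : V →ₗ[F] V', (∀ x y, B' (ψ x) (ψ y) = B x y) ∧ ∀ x, ψ (g x) = g' (ψ x) := by
  induction n using Nat.strong_induction_on with
  | _ n ih =>
  intro V V' _ _ _ _ _ _ B B' g g' hn hG hG' hs hs' hc
  rcases Nat.eq_zero_or_pos n with rfl | hpos
  · haveI : Subsingleton V := Module.finrank_zero_iff.mp hn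
    refine ⟨0, fun x y => ?_, fun x => ?_⟩
    · rw [Subsingleton.elim x 0]; simp
    · simp
  have hdeg : g.charpoly.natDegree = n := by rw [LinearMap.charpoly_natDegree, hn]
  have hnu : ¬ IsUnit g.charpoly := by
    intro hu
    have := Polynomial.natDegree_eq_zero_of_isUnit hu
    omega
  obtain ⟨f, hf, hfd⟩ := WfDvdMonoid.exists_irreducible_factor hnu
    (LinearMap.charpoly_monic g).ne_zero
  haveI : Fact (Irreducible f) := ⟨hf⟩
  haveI := finiteDim (f := f)
  obtain ⟨w, hw0, hw⟩ := SemiConj.exists_ker_of_dvd_charpoly g f hf hfd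
  obtain ⟨w', hw0', hw'⟩ := SemiConj.exists_ker_of_dvd_charpoly g' f hf (hc ▸ hfd)
  by_cases hSR : SR f
  · obtain ⟨y, hy, hBy⟩ := exists_nonTI hG hs f hSR w hw0 hw
    obtain ⟨y', hy', hBy'⟩ := exists_nonTI hG' hs' f hSR w' hw0' hw'
    obtain ⟨κ, hκ⟩ := exists_kappa f g y hy
    obtain ⟨κ', hκ'⟩ := exists_kappa f g' y' hy'
    obtain ⟨β, hβ⟩ : ∃ β : AdjoinRoot f →ₗ[F] AdjoinRoot f →ₗ[F] F,
        ∀ l m, β l m = B (κ l) (κ m) := ⟨B.compl₁₂ κ κ, fun l m => rfl⟩
    obtain ⟨β', hβ'⟩ : ∃ β' : AdjoinRoot f →ₗ[F] AdjoinRoot f →ₗ[F] F,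
        ∀ l m, β' l m = B' (κ' l) (κ' m) := ⟨B'.compl₁₂ κ' κ', fun l m => rfl⟩
    have halt : ∀ x, β x x = 0 := fun x => by rw [hβ]; exact hG.1 _
    have halt' : ∀ x, β' x x = 0 := fun x => by rw [hβ']; exact hG'.1 _
    have hinv : ∀ x y, β (AdjoinRoot.root f * x) (AdjoinRoot.root f * y) = β x y := by
      intro x y; rw [hβ, hβ, kappa_root κ hκ, kappa_root κ hκ, hG.2.2]
    have hinv' : ∀ x y, β' (AdjoinRoot.root f * x) (AdjoinRoot.root f * y) = β' x y := by
      intro x y; rw [hβ', hβ', kappa_root κ' hκ', kappa_root κ' hκ', hG'.2.2]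
    have hne : ∃ x y, β x y ≠ 0 := by
      refine ⟨1, AdjoinRoot.root f, ?_⟩
      have e1 := kappa_root κ hκ 1
      rw [mul_one] at e1
      rw [hβ, e1, kappa_one κ hκ]
      exact hBy
    have hne' : ∃ x y, β' x y ≠ 0 := by
      refine ⟨1, AdjoinRoot.root f, ?_⟩
      have e1 := kappa_root κ' hκ' 1
      rw [mul_one] at e1
      rw [hβ', e1, kappa_one κ' hκ']
      exact hBy'
    obtain ⟨u, hu⟩ := base_field β β' halt halt' hinv hinv' hne hne'
    exact step ih V V' B B' g g' hn hG hG' hs hs' hc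
      (LinearMap.mulLeft F (AdjoinRoot.root f)) (LinearMap.mulLeft F u) κ κ'
      (fun x => (kappa_root κ hκ x).symm) (fun x => (kappa_root κ' hκ' x).symm)
      (fun x y => by simp only [LinearMap.mulLeft_apply]; rw [← hβ', hu, hβ])
      (fun x => by simp only [LinearMap.mulLeft_apply]; ring)
      (fun x hx => nondeg β hinv hne x (fun y => by rw [hβ]; exact hx y))
      (fun x hx => nondeg β' hinv' hne' x (fun y => by rw [hβ']; exact hx y))
      ⟨1, one_ne_zero⟩
  · obtain ⟨κ, κt, μ, h1, h2, h3, h4, h5, h6⟩ := caseB_data hG hs f hSR w hw0 hw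
    obtain ⟨κ', κt', μ', h1', h2', h3', h4', h5', h6'⟩ := caseB_data hG' hs' f hSR w' hw0' hw'
    have skw := bskew hG.1
    have skw' := bskew hG'.1
    obtain ⟨a, ha⟩ := repr_fun μ μ' h6
    have ha0 : a ≠ 0 := by
      rintro rfl
      obtain ⟨z, hz⟩ := h6'
      apply hz
      rw [ha, zero_mul, map_zero]
    have hkill : ∀ (ν : AdjoinRoot f →ₗ[F] F), (∃ z, ν z ≠ 0) → ∀ d : AdjoinRoot f,
        (∀ z, ν (d * z) = 0) → d = 0 := by
      intro ν hν d hd
      by_contra hd0
      obtain ⟨z, hz⟩ := hν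
      apply hz
      have := hd (d⁻¹ * z)
      rwa [mul_inv_cancel_left₀ hd0] at this
    have hform : ∀ l m l₂ m₂, B (κ l + κt m) (κ l₂ + κt m₂) = μ (l * m₂) - μ (l₂ * m) := by
      intro l m l₂ m₂
      simp only [map_add, LinearMap.add_apply]
      rw [h3, h4, h5, skw (κt m) (κ l₂), h5]
      ring
    have hform' : ∀ l m l₂ m₂, B' (κ' l + κt' m) (κ' l₂ + κt' m₂) = μ' (l * m₂) - μ' (l₂ * m) := by
      intro l m l₂ m₂
      simp only [map_add, LinearMap.add_apply]
      rw [h3', h4', h5', skw' (κt' m) (κ' l₂), h5']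
      ring
    exact step ih V V' B B' g g' hn hG hG' hs hs' hc
      ((LinearMap.mulLeft F (AdjoinRoot.root f)).prodMap
        (LinearMap.mulLeft F (AdjoinRoot.root f)⁻¹))
      ((LinearMap.id).prodMap (LinearMap.mulLeft F a⁻¹)) (κ.coprod κt) (κ'.coprod κt')
      (fun x => by
        simp only [LinearMap.coprod_apply, LinearMap.prodMap_apply, LinearMap.mulLeft_apply,
          map_add, h1, h2])
      (fun x => by
        simp only [LinearMap.coprod_apply, LinearMap.prodMap_apply, LinearMap.mulLeft_apply,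
          map_add, h1', h2'])
      (fun x y => by
        simp only [LinearMap.coprod_apply, LinearMap.prodMap_apply, LinearMap.mulLeft_apply,
          LinearMap.id_apply]
        rw [hform, hform', ha, ha]
        congr 2
        · field_simp
        · field_simp)
      (fun x => by
        simp only [LinearMap.prodMap_apply, LinearMap.mulLeft_apply, LinearMap.id_apply]
        congr 1
        ring)
      (fun x hx => by
        have e1 : x.1 = 0 := by
          apply hkill μ h6
          intro z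
          have h := hx (0, z)
          simp only [LinearMap.coprod_apply] at h
          rw [hform, zero_mul, map_zero, sub_zero] at h
          exact h
        have e2 : x.2 = 0 := by
          apply hkill μ h6
          intro z
          have h := hx (z, 0)
          simp only [LinearMap.coprod_apply] at h
          rw [hform, mul_zero, map_zero, zero_sub, neg_eq_zero, mul_comm] at h
          exact h
        exact Prod.ext e1 e2)
      (fun x hx => by
        have e1 : x.1 = 0 := by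
          apply hkill μ' h6'
          intro z
          have h := hx (0, z)
          simp only [LinearMap.coprod_apply] at h
          rw [hform', zero_mul, map_zero, sub_zero] at h
          exact h
        have e2 : x.2 = 0 := by
          apply hkill μ' h6'
          intro z
          have h := hx (z, 0)
          simp only [LinearMap.coprod_apply] at h
          rw [hform', mul_zero, map_zero, zero_sub, neg_eq_zero, mul_comm] at h
          exact h
        exact Prod.ext e1 e2)
      ⟨(1, 0), by simp⟩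

end Step

end Cfsg.Agent.Helper14.SpConj
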