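import Mathlib
import Cfsg.Agent.Helper14.SpConjV
import Cfsg.Agent.Helper2.SpEmbed

/-!
Palindromic polynomials and characteristic polynomials of symplectic matrices:
* the characteristic polynomial of a symplectic matrix is palindromic;
* every palindromic monic polynomial of degree `2n` is the characteristic polynomial of a
  symplectic matrix (multiplication by the root on `F[X]/(f)` with a Frobenius-type form);
* replacing an element by a suitable `q`-power gives an element of order prime to `p` with the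
  same characteristic polynomial.
-/

set_option autoImplicit false
open Polynomial
open scoped Matrix

namespace Cfsg.Agent.Helper14.SpPal

/-- the characteristic polynomial of a symplectic matrix is palindromic -/
theorem rev_charpoly {F : Type*} [Field F] (n : ℕ)
    (A : Matrix (Fin n ⊕ Fin n) (Fin n ⊕ Fin n) F)
    (hA : A ∈ Matrix.symplecticGroup (Fin n) F) : A.charpoly.reverse = A.charpoly := by
  have hdet : A.det = 1 := SymplecticGroup.det_eq_one hA
  have hunit : IsUnit A := (Matrix.isUnit_iff_isUnit_det A).mpr (by rw [hdet]; exact isUnit_one)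
  have h1 := Matrix.charpoly_inv A hunit
  have hcard : Fintype.card (Fin n ⊕ Fin n) = n + n := by simp
  rw [hdet, Ring.inverse_one, map_one, mul_one, hcard, Even.neg_one_pow ⟨n, rfl⟩, one_mul] at h1
  rw [Matrix.reverse_charpoly, ← h1]
  have h2 : A⁻¹ = (-Matrix.J (Fin n) F) * Aᵀ * Matrix.J (Fin n) F := by
    have h3 := SymplecticGroup.coe_inv' (⟨A, hA⟩ : Matrix.symplecticGroup (Fin n) F)
    have h4 := SymplecticGroup.coe_inv (⟨A, hA⟩ : Matrix.symplecticGroup (Fin n) F)
    rw [← h3, h4]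
  rw [h2, Matrix.charpoly_mul_comm, ← mul_assoc, mul_neg, Matrix.J_squared, neg_neg, one_mul,
    Matrix.charpoly_transpose]

theorem charpoly_isConj {F : Type*} [Field F] (n : ℕ)
    (A B : ↥(Matrix.symplecticGroup (Fin n) F)) (h : IsConj A B) :
    (A : Matrix (Fin n ⊕ Fin n) (Fin n ⊕ Fin n) F).charpoly =
      (B : Matrix (Fin n ⊕ Fin n) (Fin n ⊕ Fin n) F).charpoly := by
  have h' : IsConj (A : Matrix (Fin n ⊕ Fin n) (Fin n ⊕ Fin n) F)
      (B : Matrix (Fin n ⊕ Fin n) (Fin n ⊕ Fin n) F) :=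
    (Submonoid.subtype (Matrix.symplecticGroup (Fin n) F)).map_isConj h
  obtain ⟨c, hc⟩ := h'
  have e : (B : Matrix (Fin n ⊕ Fin n) (Fin n ⊕ Fin n) F) =
      (c : Matrix (Fin n ⊕ Fin n) (Fin n ⊕ Fin n) F) * A *
        ((c⁻¹ : (Matrix (Fin n ⊕ Fin n) (Fin n ⊕ Fin n) F)ˣ) :
          Matrix (Fin n ⊕ Fin n) (Fin n ⊕ Fin n) F) := by
    rw [hc.eq, mul_assoc, Units.mul_inv, mul_one]
  rw [e, Matrix.coe_units_inv, Matrix.charpoly_units_conj]

theorem charpoly_pow_card_pow' {F : Type*} [Field F] [Fintype F] {ι : Type*} [Fintype ι]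
    [DecidableEq ι] (M : Matrix ι ι F) (a : ℕ) :
    (M ^ (Fintype.card F ^ a)).charpoly = M.charpoly := by
  induction a with
  | zero => simp
  | succ a ih => rw [pow_succ, pow_mul, FiniteField.Matrix.charpoly_pow_card, ih]

/-- a `q`-power of a symplectic matrix of order prime to `p` with the same characteristic
polynomial -/
theorem exists_pprime {F : Type*} [Field F] [Fintype F] (p : ℕ) [Fact p.Prime] [CharP F p]
    (n : ℕ) (g : ↥(Matrix.symplecticGroup (Fin n) F)) :
    ∃ h : ↥(Matrix.symplecticGroup (Fin n) F), (orderOf h).Coprime p ∧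
      (h : Matrix (Fin n ⊕ Fin n) (Fin n ⊕ Fin n) F).charpoly =
        (g : Matrix (Fin n ⊕ Fin n) (Fin n ⊕ Fin n) F).charpoly := by
  obtain ⟨r, -, hq⟩ := FiniteField.card F p
  have hN : orderOf g ≠ 0 := (orderOf_pos g).ne'
  obtain ⟨e, m, hm, hNe⟩ := Nat.exists_eq_pow_mul_and_not_dvd hN p (Fact.out : p.Prime).ne_one
  refine ⟨g ^ (Fintype.card F ^ e), ?_, ?_⟩
  · have h1 : (g ^ (Fintype.card F ^ e)) ^ m = 1 := by
      have hle : e ≤ (r : ℕ) * e := Nat.le_mul_of_pos_left e r.pos
      obtain ⟨s, hs⟩ : ∃ s, (r : ℕ) * e = e + s := ⟨_, (Nat.add_sub_of_le hle).symm⟩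
      have e1 : Fintype.card F ^ e * m = orderOf g * p ^ s := by
        rw [hq, ← pow_mul, hs, pow_add, hNe]; ring
      rw [← pow_mul, e1, pow_mul, pow_orderOf_eq_one, one_pow]
    exact Nat.Coprime.coprime_dvd_left (orderOf_dvd_of_pow_eq_one h1)
      ((Nat.Prime.coprime_iff_not_dvd Fact.out).mpr hm).symm
  · rw [SubmonoidClass.coe_pow]
    exact charpoly_pow_card_pow' _ e

section Pal

variable {F : Type*} [Field F]

theorem coeff_zero_of_pal {f : F[X]} (hm : f.Monic) (hr : f.reverse = f) : f.coeff 0 = 1 := by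
  have h := Polynomial.coeff_zero_reverse f
  rw [hr, hm.leadingCoeff] at h
  exact h

theorem pal_coeff {n : ℕ} {f : F[X]} (hd : f.natDegree = 2 * n) (hr : f.reverse = f) (k : ℕ)
    (hk : k ≤ 2 * n) : f.coeff (2 * n - k) = f.coeff k := by
  have h := Polynomial.coeff_reverse f k
  rw [hr, hd, Polynomial.revAt_le hk] at h
  exact h.symm

/-- a palindromic monic polynomial of degree `2n` is determined by its coefficients `1..n` -/
theorem pal_ext {n : ℕ} {f g : F[X]} (hfm : f.Monic) (hfd : f.natDegree = 2 * n)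
    (hfr : f.reverse = f) (hgm : g.Monic) (hgd : g.natDegree = 2 * n) (hgr : g.reverse = g)
    (h : ∀ i, i < n → f.coeff (i + 1) = g.coeff (i + 1)) : f = g := by
  have hle : ∀ k, k ≤ n → f.coeff k = g.coeff k := by
    intro k hk
    rcases Nat.eq_zero_or_pos k with rfl | hpos
    · rw [coeff_zero_of_pal hfm hfr, coeff_zero_of_pal hgm hgr]
    · obtain ⟨i, rfl⟩ : ∃ i, k = i + 1 := ⟨k - 1, by omega⟩
      exact h i (by omega)
  ext k
  by_cases hk : k ≤ n
  · exact hle k hk
  · by_cases hk2 : k ≤ 2 * n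
    · rw [← pal_coeff hfd hfr k hk2, ← pal_coeff hgd hgr k hk2]
      exact hle _ (by omega)
    · rw [Polynomial.coeff_eq_zero_of_natDegree_lt (by omega),
        Polynomial.coeff_eq_zero_of_natDegree_lt (by omega)]

noncomputable def ext0 (n : ℕ) (a : Fin n → F) (k : ℕ) : F :=
  if h : k < n then a ⟨k, h⟩ else 0

noncomputable def cfun (n : ℕ) (a : Fin n → F) (j : ℕ) : F :=
  if j = 0 ∨ j = 2 * n then 1 else ext0 n a (min j (2 * n - j) - 1)

/-- the palindromic monic polynomial of degree `2n` with coefficients `a` in degrees `1..n` -/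
noncomputable def palPoly (n : ℕ) (a : Fin n → F) : F[X] :=
  ∑ j ∈ Finset.range (2 * n + 1), Polynomial.monomial j (cfun n a j)

theorem palPoly_coeff (n : ℕ) (a : Fin n → F) (k : ℕ) :
    (palPoly n a).coeff k = if k ≤ 2 * n then cfun n a k else 0 := by
  unfold palPoly
  rw [Polynomial.finsetSum_coeff]
  simp only [Polynomial.coeff_monomial]
  rw [Finset.sum_ite_eq']
  simp only [Finset.mem_range, Nat.lt_succ_iff]

theorem cfun_top (n : ℕ) (a : Fin n → F) : cfun n a (2 * n) = 1 := by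
  unfold cfun
  rw [if_pos (Or.inr rfl)]

theorem palPoly_natDegree (n : ℕ) (a : Fin n → F) : (palPoly n a).natDegree = 2 * n := by
  apply Polynomial.natDegree_eq_of_le_of_coeff_ne_zero
  · rw [Polynomial.natDegree_le_iff_coeff_eq_zero]
    intro k hk
    rw [palPoly_coeff, if_neg (by omega)]
  · rw [palPoly_coeff, if_pos le_rfl, cfun_top]
    exact one_ne_zero

theorem palPoly_monic (n : ℕ) (a : Fin n → F) : (palPoly n a).Monic := by
  unfold Polynomial.Monic Polynomial.leadingCoeff
  rw [palPoly_natDegree, palPoly_coeff, if_pos le_rfl, cfun_top]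

theorem cfun_symm (n : ℕ) (a : Fin n → F) (k : ℕ) (hk : k ≤ 2 * n) :
    cfun n a (2 * n - k) = cfun n a k := by
  unfold cfun
  have e1 : (2 * n - k = 0 ∨ 2 * n - k = 2 * n) ↔ (k = 0 ∨ k = 2 * n) := by omega
  have e2 : min (2 * n - k) (2 * n - (2 * n - k)) = min k (2 * n - k) := by omega
  rw [e2]
  by_cases h : k = 0 ∨ k = 2 * n
  · rw [if_pos h, if_pos (e1.mpr h)]
  · rw [if_neg h, if_neg (fun h' => h (e1.mp h'))]

theorem palPoly_reverse (n : ℕ) (a : Fin n → F) : (palPoly n a).reverse = palPoly n a := by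
  ext k
  rw [Polynomial.coeff_reverse, palPoly_natDegree, palPoly_coeff, palPoly_coeff]
  by_cases hk : k ≤ 2 * n
  · rw [Polynomial.revAt_le hk, if_pos (by omega), if_pos hk, cfun_symm n a k hk]
  · rw [Polynomial.revAt_eq_self_of_lt (by omega), if_neg hk]

theorem palPoly_coeff_succ (n : ℕ) (a : Fin n → F) (i : Fin n) :
    (palPoly n a).coeff ((i : ℕ) + 1) = a i := by
  have hi := i.2
  rw [palPoly_coeff, if_pos (by omega)]
  unfold cfun
  rw [if_neg (by omega)]
  have e : min ((i : ℕ) + 1) (2 * n - ((i : ℕ) + 1)) - 1 = i := by omega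
  rw [e]
  unfold ext0
  rw [dif_pos hi]

end Pal

section Exist

variable {F : Type*} [Field F]

/-- the coefficient functional on `F[X]/(f)` -/
theorem exists_mu (f : F[X]) (hm : f.Monic) (N : ℕ) :
    ∃ μ : AdjoinRoot f →ₗ[F] F, ∀ p, μ (AdjoinRoot.mk f p) = (p %ₘ f).coeff N := by
  obtain ⟨μ, hμ⟩ := SpConj.descend f
    ((Polynomial.lcoeff F N).comp (Polynomial.modByMonicHom f)) (by
      intro p
      show ((f * p) %ₘ f).coeff N = 0
      rw [(Polynomial.modByMonic_eq_zero_iff_dvd hm).mpr (dvd_mul_right f p),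
        Polynomial.coeff_zero])
  exact ⟨μ, fun p => by rw [hμ]; rfl⟩

theorem charpoly_root (f : F[X]) (hm : f.Monic) [Module.Finite F (AdjoinRoot f)] :
    (LinearMap.mulLeft F (AdjoinRoot.root f)).charpoly = f := by
  classical
  have h1 := charpoly_leftMulMatrix (AdjoinRoot.powerBasis hm.ne_zero)
  rw [AdjoinRoot.minpoly_powerBasis_gen_of_monic hm, Algebra.leftMulMatrix_apply,
    LinearMap.charpoly_toMatrix] at h1
  exact h1

/-- multiplication by the root on `F[X]/(f)`, `f` palindromic monic of degree `2n`, preserves a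
nondegenerate alternating form -/
theorem exists_good (n : ℕ) (hn : 1 ≤ n) (f : F[X]) (hm : f.Monic) (hd : f.natDegree = 2 * n)
    (hr : f.reverse = f) :
    ∃ B : LinearMap.BilinForm F (AdjoinRoot f),
      SpConj.Good B (LinearMap.mulLeft F (AdjoinRoot.root f)) := by
  classical
  have hf1 : f ≠ 1 := by
    intro h; rw [h, Polynomial.natDegree_one] at hd; omega
  have hc0 : f.coeff 0 = 1 := coeff_zero_of_pal hm hr
  obtain ⟨μ, hμ⟩ := exists_mu f hm (2 * n - 1)
  obtain ⟨x, hx⟩ : ∃ x : AdjoinRoot f, x = AdjoinRoot.root f := ⟨_, rfl⟩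
  obtain ⟨y, hy⟩ : ∃ y : AdjoinRoot f, y = -AdjoinRoot.mk f (divX f) := ⟨_, rfl⟩
  have hxy : x * y = 1 := by
    have h2 := congrArg (AdjoinRoot.mk f) (Polynomial.divX_mul_X_add f)
    simp only [map_add, map_mul, AdjoinRoot.mk_X, hc0, map_one, AdjoinRoot.mk_self] at h2
    rw [← hx] at h2
    rw [hy]
    linear_combination (-1 : AdjoinRoot f) * h2
  have hred : ∀ p₀ : F[X], AdjoinRoot.mk f p₀ = AdjoinRoot.mk f (p₀ %ₘ f) := by
    intro p₀
    rw [AdjoinRoot.mk_eq_mk]
    have h := Polynomial.modByMonic_add_div p₀ f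
    exact ⟨p₀ /ₘ f, by linear_combination (-1 : F[X]) * h⟩
  have hα : ∀ k, k ≤ 2 * n - 1 → μ (x ^ k) = if k = 2 * n - 1 then 1 else 0 := by
    intro k hk
    have e : x ^ k = AdjoinRoot.mk f (X ^ k) := by rw [map_pow, AdjoinRoot.mk_X, hx]
    rw [e, hμ]
    have h1 : (X ^ k : F[X]) %ₘ f = X ^ k := by
      rw [Polynomial.modByMonic_eq_self_iff hm]
      apply Polynomial.degree_lt_degree
      rw [Polynomial.natDegree_X_pow, hd]; omega
    rw [h1, Polynomial.coeff_X_pow]
    by_cases h : k = 2 * n - 1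
    · rw [if_pos h.symm, if_pos h]
    · rw [if_neg (fun h' => h h'.symm), if_neg h]
  have hμy : μ y = -1 := by
    rw [hy, map_neg, hμ]
    have h1 : divX f %ₘ f = divX f := by
      rw [Polynomial.modByMonic_eq_self_iff hm]
      exact Polynomial.degree_divX_lt hm.ne_zero
    rw [h1, Polynomial.coeff_divX]
    have h2 : f.coeff (2 * n - 1 + 1) = 1 := by
      have h3 : 2 * n - 1 + 1 = f.natDegree := by omega
      rw [h3]; exact hm.coeff_natDegree
    rw [h2]
  have hβ : ∀ k, k ≤ 2 * n - 1 →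
      μ (x ^ (2 * n - 2) * y ^ k) = if k = 2 * n - 1 then -1 else 0 := by
    intro k hk
    by_cases h : k = 2 * n - 1
    · rw [if_pos h]
      have e : x ^ (2 * n - 2) * y ^ k = y := by
        have h3 : k = (2 * n - 2) + 1 := by omega
        rw [h3, pow_succ, ← mul_assoc, ← mul_pow, hxy, one_pow, one_mul]
      rw [e, hμy]
    · rw [if_neg h]
      obtain ⟨j, hj⟩ : ∃ j, 2 * n - 2 = j + k := ⟨2 * n - 2 - k, by omega⟩
      have e : x ^ (2 * n - 2) * y ^ k = x ^ j := by
        rw [hj, pow_add, mul_assoc, ← mul_pow, hxy, one_pow, mul_one]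
      rw [e, hα j (by omega), if_neg (by omega)]
  have hfy : aeval y f = 0 := by
    letI : Invertible x := ⟨y, by rw [mul_comm]; exact hxy, hxy⟩
    have h := Polynomial.eval₂_reverse_mul_pow (algebraMap F (AdjoinRoot f)) x f
    have h2 : eval₂ (algebraMap F (AdjoinRoot f)) x f = 0 := by
      rw [hx]; exact AdjoinRoot.eval₂_root f
    rw [hr, h2] at h
    have h4 : (⅟x : AdjoinRoot f) = y := rfl
    rw [h4] at h
    have h3 : eval₂ (algebraMap F (AdjoinRoot f)) y f =
        eval₂ (algebraMap F (AdjoinRoot f)) y f * x ^ f.natDegree * y ^ f.natDegree := by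
      rw [mul_assoc, ← mul_pow, hxy, one_pow, mul_one]
    rw [Polynomial.aeval_def, h3, h, zero_mul]
  obtain ⟨ι, hι⟩ : ∃ ι : AdjoinRoot f →ₐ[F] AdjoinRoot f,
      ∀ p : F[X], ι (AdjoinRoot.mk f p) = aeval y p :=
    ⟨AdjoinRoot.liftAlgHom f (Algebra.ofId F (AdjoinRoot f)) y hfy, fun p => rfl⟩
  have hιx : ι x = y := by
    have h := hι X
    rw [AdjoinRoot.mk_X, aeval_X] at h
    rw [hx]; exact h
  have hιy : ι y = x := by
    have h1 : ι x * ι y = 1 := by rw [← map_mul, hxy, map_one]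
    rw [hιx] at h1
    calc ι y = (x * y) * ι y := by rw [hxy, one_mul]
      _ = x * (y * ι y) := by ring
      _ = x := by rw [h1, mul_one]
  have hιι : ∀ a, ι (ι a) = a := by
    intro a
    obtain ⟨p, rfl⟩ := AdjoinRoot.mk_surjective (g := f) a
    rw [hι, ← Polynomial.aeval_algHom_apply, hιy, hx, AdjoinRoot.aeval_eq]
  have hanti : ∀ c, μ (x ^ (2 * n - 2) * ι c) = -μ c := by
    intro c
    obtain ⟨p₀, rfl⟩ := AdjoinRoot.mk_surjective (g := f) c
    rw [hred p₀]
    have hdeg : (p₀ %ₘ f).natDegree ≤ 2 * n - 1 := by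
      have h := Polynomial.natDegree_modByMonic_lt p₀ hm hf1
      omega
    generalize p₀ %ₘ f = p at hdeg ⊢
    have key : ∀ p : F[X], p.natDegree ≤ 2 * n - 1 →
        (μ.comp ((LinearMap.mulLeft F (x ^ (2 * n - 2))).comp
          (ι.toLinearMap.comp (AdjoinRoot.mkₐ f).toLinearMap))) p =
        (-(μ.comp (AdjoinRoot.mkₐ f).toLinearMap)) p := by
      intro p hp
      refine Polynomial.induction_with_natDegree_le (fun p =>
        (μ.comp ((LinearMap.mulLeft F (x ^ (2 * n - 2))).comp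
          (ι.toLinearMap.comp (AdjoinRoot.mkₐ f).toLinearMap))) p =
        (-(μ.comp (AdjoinRoot.mkₐ f).toLinearMap)) p) (2 * n - 1) ?_ ?_ ?_ p hp
      · rw [map_zero, map_zero]
      · intro k r _ hk
        show (μ.comp ((LinearMap.mulLeft F (x ^ (2 * n - 2))).comp
          (ι.toLinearMap.comp (AdjoinRoot.mkₐ f).toLinearMap))) (C r * X ^ k) =
          (-(μ.comp (AdjoinRoot.mkₐ f).toLinearMap)) (C r * X ^ k)
        rw [← Polynomial.smul_eq_C_mul, map_smul, map_smul]
        congr 1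
        show μ (x ^ (2 * n - 2) * ι (AdjoinRoot.mk f (X ^ k))) = -μ (AdjoinRoot.mk f (X ^ k))
        have e0 : AdjoinRoot.mk f (X ^ k) = x ^ k := by rw [map_pow, AdjoinRoot.mk_X, hx]
        have e1 : ι (x ^ k) = y ^ k := by rw [map_pow, hιx]
        rw [e0, e1, hβ k hk, hα k hk]
        by_cases h : k = 2 * n - 1
        · rw [if_pos h, if_pos h]
        · rw [if_neg h, if_neg h, neg_zero]
      · intro p q _ _ hp hq
        show (μ.comp ((LinearMap.mulLeft F (x ^ (2 * n - 2))).comp
          (ι.toLinearMap.comp (AdjoinRoot.mkₐ f).toLinearMap))) (p + q) =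
          (-(μ.comp (AdjoinRoot.mkₐ f).toLinearMap)) (p + q)
        rw [map_add, map_add, hp, hq]
    exact key p hdeg
  obtain ⟨B, hB⟩ : ∃ B : LinearMap.BilinForm F (AdjoinRoot f),
      ∀ a b, B a b = μ (x ^ (n - 1) * a * ι b) := by
    refine ⟨LinearMap.mk₂ F (fun a b => μ (x ^ (n - 1) * a * ι b)) ?_ ?_ ?_ ?_, fun a b => rfl⟩
    · intro a a' b
      rw [← map_add μ]; congr 1; ring
    · intro c a b
      rw [← map_smul μ]; congr 1
      rw [mul_smul_comm, smul_mul_assoc]
    · intro a b b'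
      have e : ι (b + b') = ι b + ι b' := map_add ι b b'
      rw [e, ← map_add μ]; congr 1; ring
    · intro c a b
      have e : ι (c • b) = c • ι b := map_smul ι c b
      rw [e, ← map_smul μ]; congr 1
      rw [mul_smul_comm]
  have hskew : ∀ a b, B b a = -B a b := by
    intro a b
    rw [hB, hB, ← hanti]
    congr 1
    have e1 : ι (x ^ (n - 1) * a * ι b) = y ^ (n - 1) * ι a * b := by
      rw [map_mul, map_mul, map_pow, hιx, hιι]
    have e2 : 2 * n - 2 = (n - 1) + (n - 1) := by omega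
    have e3 : x ^ (n - 1) * y ^ (n - 1) = 1 := by rw [← mul_pow, hxy, one_pow]
    rw [e1, e2, pow_add]
    linear_combination (-(x ^ (n - 1) * ι a * b)) * e3
  have hdiag : ∀ k : ℕ, B (x ^ k) (x ^ k) = 0 := by
    intro k
    have e1 : ι (x ^ k) = y ^ k := by rw [map_pow, hιx]
    rw [hB, e1, mul_assoc, ← mul_pow, hxy, one_pow, mul_one, hα (n - 1) (by omega),
      if_neg (by omega)]
  have halt : ∀ a, B a a = 0 := by
    intro a
    obtain ⟨p, rfl⟩ := AdjoinRoot.mk_surjective (g := f) a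
    induction p using Polynomial.induction_on' with
    | add p q hp hq =>
      have h1 := hskew (AdjoinRoot.mk f p) (AdjoinRoot.mk f q)
      simp only [map_add, LinearMap.add_apply]
      rw [hp, hq, h1]
      ring
    | monomial k c =>
      have e : AdjoinRoot.mk f (monomial k c) = c • x ^ k := by
        rw [← Polynomial.smul_X_eq_monomial, ← AdjoinRoot.smul_mk, map_pow, AdjoinRoot.mk_X, hx]
      rw [e, map_smul, map_smul, LinearMap.smul_apply, hdiag, smul_zero, smul_zero]
  have hiso : ∀ a b, B (x * a) (x * b) = B a b := by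
    intro a b
    rw [hB, hB]
    congr 1
    have e1 : ι (x * b) = y * ι b := by rw [map_mul, hιx]
    rw [e1]
    linear_combination (x ^ (n - 1) * a * ι b) * hxy
  have hfrob : ∀ a : AdjoinRoot f, a ≠ 0 → ∃ b, μ (a * b) ≠ 0 := by
    intro a ha
    obtain ⟨p₀, rfl⟩ := AdjoinRoot.mk_surjective (g := f) a
    have hdeg : (p₀ %ₘ f).natDegree < 2 * n := by
      have h := Polynomial.natDegree_modByMonic_lt p₀ hm hf1; omega
    have hp : p₀ %ₘ f ≠ 0 := by
      intro h; apply ha; rw [hred p₀, h, map_zero]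
    rw [hred p₀]
    generalize p₀ %ₘ f = p at hdeg hp ⊢
    obtain ⟨e, he⟩ : ∃ e, 2 * n - 1 = p.natDegree + e := ⟨2 * n - 1 - p.natDegree, by omega⟩
    refine ⟨AdjoinRoot.mk f (X ^ e), ?_⟩
    rw [← map_mul, hμ]
    have h1 : (p * X ^ e) %ₘ f = p * X ^ e := by
      rw [Polynomial.modByMonic_eq_self_iff hm]
      apply Polynomial.degree_lt_degree
      rw [Polynomial.natDegree_mul_X_pow e hp, hd]; omega
    rw [h1, he, Polynomial.coeff_mul_X_pow, Polynomial.coeff_natDegree]
    exact Polynomial.leadingCoeff_ne_zero.mpr hp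
  have hnd : ∀ a, (∀ b, B a b = 0) → a = 0 := by
    intro a h
    by_contra ha
    have ha' : x ^ (n - 1) * a ≠ 0 := by
      intro h0
      apply ha
      have e : a = y ^ (n - 1) * (x ^ (n - 1) * a) := by
        rw [← mul_assoc, ← mul_pow, mul_comm y x, hxy, one_pow, one_mul]
      rw [e, h0, mul_zero]
    obtain ⟨b', hb'⟩ := hfrob _ ha'
    apply hb'
    have h2 := h (ι b')
    rw [hB, hιι] at h2
    exact h2
  refine ⟨B, halt, hnd, fun a b => ?_⟩
  rw [LinearMap.mulLeft_apply, LinearMap.mulLeft_apply, ← hx]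
  exact hiso a b

/-- every palindromic monic polynomial of degree `2n` is the characteristic polynomial of a
symplectic matrix -/
theorem exists_sp_charpoly [Finite F] (n : ℕ) (f : F[X]) (hm : f.Monic)
    (hd : f.natDegree = 2 * n) (hr : f.reverse = f) :
    ∃ G : Matrix (Fin n ⊕ Fin n) (Fin n ⊕ Fin n) F,
      G ∈ Matrix.symplecticGroup (Fin n) F ∧ G.charpoly = f := by
  classical
  rcases Nat.eq_zero_or_pos n with rfl | hn
  · refine ⟨1, Submonoid.one_mem _, ?_⟩
    have h1 : f = 1 := Polynomial.eq_one_of_monic_natDegree_zero hm (by rw [hd])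
    rw [Matrix.charpoly_one, h1]; simp
  haveI : Module.Finite F (AdjoinRoot f) := hm.finite_adjoinRoot
  obtain ⟨B, hB⟩ := exists_good n hn f hm hd hr
  have hfr : Module.finrank F (AdjoinRoot f) = n + n := by
    rw [(AdjoinRoot.powerBasis hm.ne_zero).finrank, AdjoinRoot.powerBasis_dim, hd]; ring
  have hfr' : Module.finrank F (Fin n ⊕ Fin n → F) = n + n := by simp
  have hG1 : SpConj.Good B (LinearMap.id) := ⟨hB.1, hB.2.1, fun a b => rfl⟩
  have hG2 : SpConj.Good (Cfsg.Agent.S0766.sB n F) (LinearMap.id) :=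
    ⟨fun x => (Cfsg.Agent.S0766.sB_alt n F).self_eq_zero x, (Cfsg.Agent.S0766.sB_nondeg n F).1,
      fun a b => rfl⟩
  obtain ⟨ψ, hψ, -⟩ := SpConj.sp_conj (F := F) (n + n) (AdjoinRoot f) (Fin n ⊕ Fin n → F) B
    (Cfsg.Agent.S0766.sB n F) LinearMap.id LinearMap.id hfr hG1 hG2
    Module.End.isSemisimple_id Module.End.isSemisimple_id (by
      have e1 : (LinearMap.id : Module.End F (AdjoinRoot f)) = 1 := rfl
      have e2 : (LinearMap.id : Module.End F (Fin n ⊕ Fin n → F)) = 1 := rfl
      rw [e1, e2, LinearMap.charpoly_one, LinearMap.charpoly_one, hfr, hfr'])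
  have hinj : Function.Injective ψ := by
    rw [injective_iff_map_eq_zero]
    intro a ha
    apply hB.2.1
    intro b
    rw [← hψ, ha, map_zero, LinearMap.zero_apply]
  obtain ⟨e, he⟩ : ∃ e : AdjoinRoot f ≃ₗ[F] (Fin n ⊕ Fin n → F), ∀ a, e a = ψ a :=
    ⟨LinearMap.linearEquivOfInjective ψ hinj (by rw [hfr, hfr']),
      fun a => LinearMap.linearEquivOfInjective_apply hinj _ a⟩
  obtain ⟨T, hT⟩ : ∃ T : Module.End F (Fin n ⊕ Fin n → F),
      T = e.conj (LinearMap.mulLeft F (AdjoinRoot.root f)) := ⟨_, rfl⟩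
  have hTu : ∀ u, T u = e (AdjoinRoot.root f * e.symm u) := by
    intro u; rw [hT]; rfl
  have hTiso : ∀ u v, Cfsg.Agent.S0766.sB n F (T u) (T v) = Cfsg.Agent.S0766.sB n F u v := by
    intro u v
    have h1 := hB.2.2 (e.symm u) (e.symm v)
    rw [LinearMap.mulLeft_apply, LinearMap.mulLeft_apply] at h1
    rw [hTu, hTu, he, he, hψ, h1, ← hψ, ← he, ← he, e.apply_symm_apply, e.apply_symm_apply]
  refine ⟨LinearMap.toMatrix' T, ?_, ?_⟩
  · rw [SymplecticGroup.mem_iff']
    apply Matrix.toBilin'.injective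
    rw [← Matrix.toBilin'_comp, Matrix.toLin'_toMatrix']
    apply LinearMap.ext₂
    intro u v
    exact hTiso u v
  · rw [← Matrix.charpoly_toLin', Matrix.toLin'_toMatrix', hT, LinearEquiv.charpoly_conj]
    exact charpoly_root f hm

end Exist

end Cfsg.Agent.Helper14.SpPal
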