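import Mathlib
import Cfsg.Agent.Helper14.PrimeOrd
import Cfsg.Agent.Helper14.SpPal
import Cfsg.Agent.S2389

/-!
Conjugacy classes of elements of odd prime order `r` (prime to the characteristic) in `Sp_2m(q)`.
-/

set_option autoImplicit false
open Polynomial

namespace Cfsg.Agent.Helper14.PrimeOrdSp

open Cfsg.Agent.Helper14.PrimeOrd

section GenIdx

variable {F : Type*} [Field F] {ι : Type*} [Fintype ι] [DecidableEq ι]

theorem dvd_of_pow_eq_one' (A : Matrix ι ι F) (r : ℕ) (hA : A ^ r = 1)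
    (ψ : F[X]) (hψ : Irreducible ψ) (hd : ψ ∣ A.charpoly) : ψ ∣ X ^ r - 1 := by
  by_contra hnd
  have hcop : IsCoprime ψ (X ^ r - 1) := (Irreducible.coprime_iff_not_dvd hψ).mpr hnd
  obtain ⟨a, b, hab⟩ := hcop
  obtain ⟨w, hw0, hw⟩ := SemiConj.exists_ker_of_dvd_charpoly (Matrix.toLin' A) ψ hψ
    (by rw [Matrix.charpoly_toLin']; exact hd)
  apply hw0
  have h1 : aeval (Matrix.toLin' A) (X ^ r - 1 : F[X]) = 0 := by
    have h1 : Matrix.toLin' A = Matrix.toLinAlgEquiv' A := rfl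
    rw [map_sub, map_pow, aeval_X, map_one, h1, ← map_pow, hA, map_one, sub_self]
  have h2 := congrArg (fun P : F[X] => aeval (Matrix.toLin' A) P w) hab
  simp only [map_add, map_mul, map_one, h1, mul_zero, add_zero, Module.End.mul_apply,
    Module.End.one_apply] at h2
  rw [hw, map_zero] at h2
  exact h2.symm

theorem eq_one_of_charpoly' (A : Matrix ι ι F) (r : ℕ) (hr : (r : F) ≠ 0)
    (hA : A ^ r = 1) (hc : A.charpoly = (X - 1) ^ (Fintype.card ι)) : A = 1 := by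
  rcases Nat.eq_zero_or_pos (Fintype.card ι) with h0 | hn
  · haveI : IsEmpty ι := Fintype.card_eq_zero_iff.mp h0
    exact Subsingleton.elim _ _
  have h1 : minpoly F A ∣ X ^ r - 1 := minpoly.dvd F A (by simp [hA])
  have hsq : Squarefree (minpoly F A) :=
    Squarefree.squarefree_of_dvd h1 ((Polynomial.X_pow_sub_one_separable_iff.mpr hr).squarefree)
  have h2 : minpoly F A ∣ (X - 1) ^ (Fintype.card ι) := by
    rw [← hc]; exact Matrix.minpoly_dvd_charpoly A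
  have h3 : minpoly F A ∣ X - 1 := (Squarefree.dvd_pow_iff_dvd hsq hn.ne').mp h2
  have h4 := Polynomial.aeval_eq_zero_of_dvd_aeval_eq_zero h3 (minpoly.aeval F A)
  rw [map_sub, aeval_X, map_one, sub_eq_zero] at h4
  exact h4

theorem pow_eq_one_of_charpoly' (M : Matrix ι ι F) (k r : ℕ)
    (hk : (k : F) ≠ 0) (hM : M ^ k = 1) (K : ℕ) (hK : K ≠ 0)
    (hc : M.charpoly ∣ (X ^ r - 1) ^ K) : M ^ r = 1 := by
  have h1 : minpoly F M ∣ X ^ k - 1 := minpoly.dvd F M (by simp [hM])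
  have hsq : Squarefree (minpoly F M) :=
    Squarefree.squarefree_of_dvd h1 ((Polynomial.X_pow_sub_one_separable_iff.mpr hk).squarefree)
  have h2 : minpoly F M ∣ (X ^ r - 1) ^ K := (Matrix.minpoly_dvd_charpoly M).trans hc
  have h3 := (Squarefree.dvd_pow_iff_dvd hsq hK).mp h2
  have h4 := Polynomial.aeval_eq_zero_of_dvd_aeval_eq_zero h3 (minpoly.aeval F M)
  rw [map_sub, map_pow, aeval_X, map_one, sub_eq_zero] at h4
  exact h4

end GenIdx

section Blocks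

variable {F : Type*} [Field F]

theorem exp_unique' (s : Finset F[X]) (h0 : ∀ ψ ∈ s, ψ ≠ 0) (hu : ∀ ψ ∈ s, ¬ IsUnit ψ)
    (hcop : ∀ ψ ∈ s, ∀ χ ∈ s, ψ ≠ χ → IsCoprime ψ χ)
    (e e' : F[X] → ℕ) (h : ∏ ψ ∈ s, ψ ^ e ψ = ∏ ψ ∈ s, ψ ^ e' ψ) : ∀ χ ∈ s, e χ = e' χ := by
  classical
  have key : ∀ (e e' : F[X] → ℕ), ∏ ψ ∈ s, ψ ^ e ψ = ∏ ψ ∈ s, ψ ^ e' ψ →
      ∀ χ ∈ s, e χ ≤ e' χ := by
    intro e e' h χ hχ
    rw [← Finset.mul_prod_erase s (fun ψ => ψ ^ e ψ) hχ,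
      ← Finset.mul_prod_erase s (fun ψ => ψ ^ e' ψ) hχ] at h
    have h1 : χ ^ e χ ∣ χ ^ e' χ * ∏ ψ ∈ s.erase χ, ψ ^ e' ψ := Dvd.intro _ h
    have h2 : IsCoprime (χ ^ e χ) (∏ ψ ∈ s.erase χ, ψ ^ e' ψ) := by
      apply IsCoprime.pow_left
      apply IsCoprime.prod_right
      intro ψ hψ
      apply IsCoprime.pow_right
      exact hcop χ hχ ψ (Finset.mem_of_mem_erase hψ) (Finset.ne_of_mem_erase hψ).symm
    have h3 : χ ^ e χ ∣ χ ^ e' χ := h2.dvd_of_dvd_mul_right h1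
    exact (pow_dvd_pow_iff (h0 χ hχ) (hu χ hχ)).mp h3
  intro χ hχ
  exact le_antisymm (key e e' h χ hχ) (key e' e h.symm χ hχ)

variable [DecidableEq F]

theorem PP_inj' {n i : ℕ} (S : Finset F[X]) (h0 : ∀ ψ ∈ S, ψ ≠ 0) (hu : ∀ ψ ∈ S, ¬ IsUnit ψ)
    (hcop : ∀ ψ ∈ S, ∀ χ ∈ S, ψ ≠ χ → IsCoprime ψ χ) (hi : 0 < i)
    (m m' : F[X] →₀ ℕ) (hm : m.support ⊆ S) (hm' : m'.support ⊆ S)
    (h : PP S n i m = PP S n i m') : m = m' := by
  have key := exp_unique' S h0 hu hcop (expo n i m) (expo n i m') h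
  ext ψ
  by_cases hψ : ψ ∈ S
  · have h1 := key ψ hψ
    unfold expo at h1
    by_cases h2 : ψ = X - 1
    · rw [if_pos h2, if_pos h2] at h1
      exact Nat.eq_of_mul_eq_mul_left hi (Nat.add_left_cancel h1)
    · rw [if_neg h2, if_neg h2] at h1
      exact h1
  · rw [Finsupp.notMem_support_iff.mp (fun h => hψ (hm h)),
      Finsupp.notMem_support_iff.mp (fun h => hψ (hm' h))]

theorem PP_dvd {n i r : ℕ} (S : Finset F[X])
    (hcop : ∀ ψ ∈ S, ∀ χ ∈ S, ψ ≠ χ → IsCoprime ψ χ)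
    (hdvd : ∀ ψ ∈ S, ψ ∣ X ^ r - 1) (m : F[X] → ℕ) :
    PP S n i m ∣ (X ^ r - 1) ^ ((∑ ψ ∈ S, expo n i m ψ) + 1) := by
  have h1 : PP S n i m ∣ ∏ ψ ∈ S, ψ ^ ((∑ ψ ∈ S, expo n i m ψ) + 1) := by
    apply Finset.prod_dvd_prod_of_dvd
    intro ψ hψ
    apply pow_dvd_pow
    exact Nat.le_succ_of_le (Finset.single_le_sum (f := fun ψ => expo n i m ψ)
      (fun _ _ => Nat.zero_le _) hψ)
  rw [Finset.prod_pow] at h1
  refine h1.trans (pow_dvd_pow_of_dvd ?_ _)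
  apply Finset.prod_dvd_of_coprime (s := fun ψ : F[X] => ψ)
  · intro ψ hψ χ hχ hne
    exact hcop ψ hψ χ hχ hne
  · exact hdvd

theorem exists_m_of_exp {n i : ℕ} (Ψ : Finset F[X]) (hΨ1 : X - 1 ∉ Ψ)
    (hmon : ∀ ψ ∈ insert (X - 1) Ψ, ψ.Monic) (hdeg : ∀ φ ∈ Ψ, φ.natDegree = i) (hi : 0 < i)
    (f : F[X]) (hfd : f.natDegree = n) (e : F[X] → ℕ)
    (he : f = ∏ ψ ∈ insert (X - 1) Ψ, ψ ^ e ψ) :
    ∃ m : F[X] →₀ ℕ, m ∈ (insert (X - 1) Ψ).finsuppAntidiag (n / i) ∧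
      f = PP (insert (X - 1) Ψ) n i m := by
  have hdegA : n = e (X - 1) + (∑ φ ∈ Ψ, e φ) * i := by
    have h1 := natDegree_prod Ψ hΨ1 hmon hdeg e
    rw [← he, hfd] at h1
    exact h1
  obtain ⟨E, hE⟩ : ∃ E, E = ∑ φ ∈ Ψ, e φ := ⟨_, rfl⟩
  rw [← hE] at hdegA
  have hEN : E ≤ n / i := (Nat.le_div_iff_mul_le hi).mpr (by omega)
  obtain ⟨mf, hmf_def⟩ : ∃ mf : F[X] → ℕ, mf = fun ψ =>
      if ψ = X - 1 then n / i - E else if ψ ∈ Ψ then e ψ else 0 := ⟨_, rfl⟩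
  have hmf1 : mf (X - 1) = n / i - E := by rw [hmf_def]; exact if_pos rfl
  have hmf2 : ∀ φ ∈ Ψ, mf φ = e φ := by
    intro φ hφ
    have hne : φ ≠ X - 1 := fun h => hΨ1 (h ▸ hφ)
    rw [hmf_def]
    show (if φ = X - 1 then n / i - E else if φ ∈ Ψ then e φ else 0) = e φ
    rw [if_neg hne, if_pos hφ]
  have hmf : ∀ ψ, mf ψ ≠ 0 → ψ ∈ insert (X - 1) Ψ := by
    intro ψ h
    by_contra hψ
    rw [Finset.mem_insert, not_or] at hψ
    apply h
    rw [hmf_def]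
    show (if ψ = X - 1 then n / i - E else if ψ ∈ Ψ then e ψ else 0) = 0
    rw [if_neg hψ.1, if_neg hψ.2]
  refine ⟨Finsupp.onFinset (insert (X - 1) Ψ) mf hmf, ?_, ?_⟩
  · rw [Finset.mem_finsuppAntidiag]
    refine ⟨?_, Finsupp.support_onFinset_subset⟩
    rw [Finset.sum_insert hΨ1]
    have h2 : ∑ φ ∈ Ψ, (Finsupp.onFinset (insert (X - 1) Ψ) mf hmf) φ = E := by
      rw [hE]
      apply Finset.sum_congr rfl
      intro φ hφ
      rw [Finsupp.onFinset_apply, hmf2 φ hφ]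
    rw [h2, Finsupp.onFinset_apply, hmf1]; omega
  · rw [he]
    unfold PP
    apply Finset.prod_congr rfl
    intro ψ hψ
    congr 1
    unfold expo
    rw [Finsupp.onFinset_apply]
    rcases Finset.mem_insert.mp hψ with h | h
    · rw [if_pos h, h, hmf1]
      have h3 := Nat.mod_add_div n i
      have h4 : i * E ≤ i * (n / i) := Nat.mul_le_mul_left i hEN
      have h5 : E * i = i * E := mul_comm _ _
      rw [Nat.mul_sub]
      omega
    · have hne : ψ ≠ X - 1 := fun h' => hΨ1 (h' ▸ h)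
      rw [if_neg hne, hmf2 ψ h]

end Blocks

section Rev

variable {F : Type*} [Field F]

/-- `reverse` as a monoid homomorphism -/
noncomputable def revHom : F[X] →* F[X] where
  toFun := reverse
  map_one' := by
    have h := Polynomial.reverse_C (1 : F)
    rwa [map_one] at h
  map_mul' := Polynomial.reverse_mul_of_domain

theorem revHom_apply (f : F[X]) : revHom f = f.reverse := rfl

theorem reverse_X_sub_one : (X - 1 : F[X]).reverse = -(X - 1) := by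
  have h1 : (X - 1 : F[X]) = X + C (-1) := by rw [map_neg, map_one]; ring
  have h2 : (X : F[X]).reverse = 1 := by
    have h := Polynomial.reverse_mul_X (1 : F[X])
    rw [one_mul] at h
    rw [h]
    have h' := Polynomial.reverse_C (1 : F)
    rwa [map_one] at h'
  rw [h1, Polynomial.reverse_add_C, h2, Polynomial.natDegree_X, map_neg, map_one]
  ring

theorem reverse_X_pow_sub_one (r : ℕ) : (X ^ r - 1 : F[X]).reverse = -(X ^ r - 1) := by
  have h1 : (X ^ r - 1 : F[X]) = X ^ r + C (-1) := by rw [map_neg, map_one]; ring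
  have h2 : (X ^ r : F[X]).reverse = 1 := by
    have h := Polynomial.reverse_mul_X_pow (1 : F[X]) r
    rw [one_mul] at h
    rw [h]
    have h' := Polynomial.reverse_C (1 : F)
    rwa [map_one] at h'
  rw [h1, Polynomial.reverse_add_C, h2, Polynomial.natDegree_X_pow, map_neg, map_one]
  ring

theorem reverse_reverse' (f : F[X]) (h0 : f.coeff 0 ≠ 0) : f.reverse.reverse = f := by
  have h1 : f.natTrailingDegree = 0 :=
    Polynomial.natTrailingDegree_eq_zero_of_constantCoeff_ne_zero h0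
  have h2 : f.reverse.natDegree = f.natDegree := by
    rw [Polynomial.reverse_natDegree, h1, Nat.sub_zero]
  unfold Polynomial.reverse at h2 ⊢
  rw [h2, Polynomial.reflect_reflect]

theorem eval_one_reverse (f : F[X]) : eval 1 f.reverse = eval 1 f := by
  letI : Invertible (1 : F) := invertibleOne
  have h := Polynomial.eval₂_reverse_mul_pow (RingHom.id F) (1 : F) f
  rw [invOf_one, one_pow, mul_one] at h
  exact h

/-- the monic normalisation of the reverse -/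
noncomputable def star (ψ : F[X]) : F[X] := C (ψ.coeff 0)⁻¹ * ψ.reverse

theorem reverse_eq_star (ψ : F[X]) (h0 : ψ.coeff 0 ≠ 0) : ψ.reverse = C (ψ.coeff 0) * star ψ := by
  unfold star
  rw [← mul_assoc, ← C_mul, mul_inv_cancel₀ h0, map_one, one_mul]

theorem star_coeff_zero (ψ : F[X]) (hm : ψ.Monic) : (star ψ).coeff 0 = (ψ.coeff 0)⁻¹ := by
  unfold star
  rw [Polynomial.coeff_C_mul, Polynomial.coeff_zero_reverse, hm.leadingCoeff, mul_one]

theorem star_star (ψ : F[X]) (hm : ψ.Monic) (h0 : ψ.coeff 0 ≠ 0) : star (star ψ) = ψ := by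
  have h1 := star_coeff_zero ψ hm
  have h2 : (star ψ).reverse = C (ψ.coeff 0)⁻¹ * ψ := by
    unfold star
    rw [Polynomial.reverse_mul_of_domain, Polynomial.reverse_C, reverse_reverse' ψ h0]
  have h3 : star (star ψ) = C ((star ψ).coeff 0)⁻¹ * (star ψ).reverse := rfl
  rw [h3, h1, h2, inv_inv, ← mul_assoc, ← C_mul, mul_inv_cancel₀ h0, map_one, one_mul]

theorem star_natDegree (ψ : F[X]) (h0 : ψ.coeff 0 ≠ 0) : (star ψ).natDegree = ψ.natDegree := by
  unfold star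
  rw [Polynomial.natDegree_C_mul (inv_ne_zero h0), Polynomial.reverse_natDegree,
    Polynomial.natTrailingDegree_eq_zero_of_constantCoeff_ne_zero h0, Nat.sub_zero]

theorem star_monic (ψ : F[X]) (h0 : ψ.coeff 0 ≠ 0) : (star ψ).Monic := by
  unfold star Polynomial.Monic
  rw [Polynomial.leadingCoeff_mul, Polynomial.leadingCoeff_C, Polynomial.reverse_leadingCoeff]
  have h1 : ψ.trailingCoeff = ψ.coeff 0 := by
    unfold Polynomial.trailingCoeff
    rw [Polynomial.natTrailingDegree_eq_zero_of_constantCoeff_ne_zero h0]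
  rw [h1, inv_mul_cancel₀ h0]

theorem star_dvd {r : ℕ} (ψ : F[X]) (h0 : ψ.coeff 0 ≠ 0) (hd : ψ ∣ X ^ r - 1) :
    star ψ ∣ X ^ r - 1 := by
  obtain ⟨g, hg⟩ := hd
  have h1 := congrArg Polynomial.reverse hg
  rw [reverse_X_pow_sub_one, Polynomial.reverse_mul_of_domain] at h1
  have h2 : ψ.reverse ∣ X ^ r - 1 := by
    rw [← dvd_neg]; exact Dvd.intro _ h1.symm
  unfold star
  exact (IsUnit.mul_left_dvd (Polynomial.isUnit_C.mpr (inv_ne_zero h0).isUnit)).mpr h2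

theorem star_eval_one (φ : F[X]) : eval 1 (star φ) = (φ.coeff 0)⁻¹ * eval 1 φ := by
  unfold star
  rw [eval_mul, eval_C, eval_one_reverse]

theorem X_sub_one_irr : Irreducible (X - 1 : F[X]) := by
  have h := Polynomial.irreducible_X_sub_C (1 : F)
  rwa [map_one] at h

theorem X_sub_one_monic : (X - 1 : F[X]).Monic := by
  have h := Polynomial.monic_X_sub_C (1 : F)
  rwa [map_one] at h

theorem X_sub_one_dvd (r : ℕ) : (X - 1 : F[X]) ∣ X ^ r - 1 := by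
  have h := sub_dvd_pow_sub_pow (X : F[X]) 1 r
  rwa [one_pow] at h

theorem coeff_zero_ne {r : ℕ} (hr0 : r ≠ 0) (φ : F[X]) (hd : φ ∣ X ^ r - 1) : φ.coeff 0 ≠ 0 := by
  intro h
  have h1 := Polynomial.eval_dvd (x := (0 : F)) hd
  rw [← Polynomial.coeff_zero_eq_eval_zero, h, zero_dvd_iff] at h1
  simp [hr0] at h1

theorem reverse_of_star_eq (φ : F[X]) (h0 : φ.coeff 0 ≠ 0) (he1 : eval 1 φ ≠ 0)
    (hs : star φ = φ) : φ.reverse = φ := by
  have h1 := reverse_eq_star φ h0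
  rw [hs] at h1
  have h2 := congrArg (eval 1) h1
  rw [eval_one_reverse, eval_mul, eval_C] at h2
  have h3 : φ.coeff 0 = 1 := by
    have h4 : (φ.coeff 0 - 1) * eval 1 φ = 0 := by rw [sub_mul, one_mul, ← h2, sub_self]
    rcases mul_eq_zero.mp h4 with h | h
    · exact sub_eq_zero.mp h
    · exact absurd h he1
  rw [h1, h3, map_one, one_mul]

theorem star_ne_of_odd {r i : ℕ} (hr : r.Prime) (hr2 : r ≠ 2) (hio : Odd i) (φ : F[X])
    (hdeg : φ.natDegree = i) (hd : φ ∣ X ^ r - 1) (he1 : eval 1 φ ≠ 0) : star φ ≠ φ := by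
  intro hs
  have h0 := coeff_zero_ne hr.ne_zero φ hd
  have hrev : φ.reverse = φ := reverse_of_star_eq φ h0 he1 hs
  have hc : ∀ k ∈ Finset.range (i + 1), φ.coeff (i - k) = φ.coeff k := by
    intro k hk
    have hk' : k ≤ i := Nat.lt_succ_iff.mp (Finset.mem_range.mp hk)
    conv_rhs => rw [← hrev]
    rw [Polynomial.coeff_reverse, hdeg, Polynomial.revAt_le hk']
  have hev : eval (-1) φ = 0 := by
    rw [Polynomial.eval_eq_sum_range, hdeg]
    obtain ⟨w, hw⟩ := hio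
    apply Finset.sum_involution (fun k _ => i - k)
    · intro k hk
      have hk' : k ≤ i := Nat.lt_succ_iff.mp (Finset.mem_range.mp hk)
      rw [hc k hk]
      have h1 : (-1 : F) ^ (i - k) = -(-1) ^ k := by
        have h2 : (-1 : F) ^ (i - k) * (-1) ^ k = -1 := by
          rw [← pow_add, Nat.sub_add_cancel hk', hw, pow_succ, pow_mul]; simp
        have h3 : (-1 : F) ^ k * (-1) ^ k = 1 := by
          rw [← mul_pow]; simp
        calc (-1 : F) ^ (i - k) = (-1 : F) ^ (i - k) * ((-1) ^ k * (-1) ^ k) := by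
              rw [h3, mul_one]
          _ = -(-1) ^ k := by rw [← mul_assoc, h2]; ring
      rw [h1]; ring
    · intro k hk _
      have hk' : k ≤ i := Nat.lt_succ_iff.mp (Finset.mem_range.mp hk)
      omega
    · intro k hk
      rw [Finset.mem_range]; omega
    · intro k hk
      have hk' : k ≤ i := Nat.lt_succ_iff.mp (Finset.mem_range.mp hk)
      omega
  have h1 := Polynomial.eval_dvd (x := (-1 : F)) hd
  rw [hev, zero_dvd_iff, eval_sub, eval_pow, eval_X, eval_one] at h1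
  have hrodd : Odd r := hr.odd_of_ne_two hr2
  rw [hrodd.neg_one_pow] at h1
  have h2 : (-1 : F) = 1 := sub_eq_zero.mp h1
  rw [h2] at hev
  exact he1 hev

theorem reverse_eq_of_dvd [Fintype F] {r k : ℕ} (hr0 : r ≠ 0)
    (hrk : r ∣ Fintype.card F ^ k + 1) (φ : F[X])
    (hirr : Irreducible φ) (hmon : φ.Monic) (hd : φ ∣ X ^ r - 1) (he1 : eval 1 φ ≠ 0) :
    φ.reverse = φ := by
  have h0 := coeff_zero_ne hr0 φ hd
  apply reverse_of_star_eq φ h0 he1
  haveI : Fact (Irreducible φ) := ⟨hirr⟩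
  obtain ⟨ζ, hζ⟩ : ∃ ζ : AdjoinRoot φ, ζ = AdjoinRoot.root φ := ⟨_, rfl⟩
  have hζ0 : aeval ζ φ = 0 := by rw [hζ, AdjoinRoot.aeval_eq, AdjoinRoot.mk_self]
  have hζr : ζ ^ r = 1 := by
    obtain ⟨g, hg⟩ := hd
    have h1 := congrArg (aeval ζ) hg
    rw [map_mul, hζ0, zero_mul, map_sub, map_pow, aeval_X, map_one, sub_eq_zero] at h1
    exact h1
  have hfrob : ∀ a : ℕ, aeval (ζ ^ (Fintype.card F ^ a)) φ = 0 := by
    intro a
    induction a with
    | zero => rw [pow_zero, pow_one]; exact hζ0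
    | succ a ih =>
      rw [pow_succ, pow_mul, ← Polynomial.expand_aeval, FiniteField.expand_card, map_pow, ih,
        zero_pow Fintype.card_ne_zero]
  obtain ⟨s, hs⟩ := hrk
  have hinv : ζ ^ (Fintype.card F ^ k) * ζ = 1 := by
    rw [← pow_succ, hs, pow_mul, hζr, one_pow]
  have hinv' : ζ * ζ ^ (Fintype.card F ^ k) = 1 := by rw [mul_comm]; exact hinv
  letI : Invertible (ζ ^ (Fintype.card F ^ k)) := ⟨ζ, hinv', hinv⟩
  have h2 : eval₂ (algebraMap F (AdjoinRoot φ)) (⅟(ζ ^ (Fintype.card F ^ k))) φ.reverse = 0 :=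
    (Polynomial.eval₂_reverse_eq_zero_iff _ _ _).mpr (by
      rw [← Polynomial.aeval_def]; exact hfrob k)
  have h3 : aeval ζ φ.reverse = 0 := by
    rw [Polynomial.aeval_def]; exact h2
  rw [hζ, AdjoinRoot.aeval_eq, AdjoinRoot.mk_eq_zero] at h3
  have h4 : φ ∣ star φ := by
    unfold star; exact dvd_mul_of_dvd_right h3 _
  exact Polynomial.eq_of_monic_of_dvd_of_natDegree_le hmon (star_monic φ h0) h4
    (le_of_eq (star_natDegree φ h0))

theorem dvd_pow_half_add_one {q r i : ℕ} (hr : r.Prime) (hi : i = orderOf (q : ZMod r))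
    (hipos : 0 < i) (hie : Even i) : r ∣ q ^ (i / 2) + 1 := by
  haveI : Fact r.Prime := ⟨hr⟩
  obtain ⟨w, hw⟩ := hie
  have hw0 : 0 < w := by omega
  have hw2 : i / 2 = w := by omega
  rw [hw2]
  have h1 : (q : ZMod r) ^ w * (q : ZMod r) ^ w = 1 := by
    rw [← pow_add, ← hw, hi]; exact pow_orderOf_eq_one _
  have h2 : (q : ZMod r) ^ w ≠ 1 := by
    apply pow_ne_one_of_lt_orderOf hw0.ne'
    rw [← hi]; omega
  have h3 : (q : ZMod r) ^ w = -1 := by
    rcases mul_self_eq_one_iff.mp h1 with h | h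
    · exact absurd h h2
    · exact h
  rw [← ZMod.natCast_eq_zero_iff]
  push_cast
  rw [h3]; ring

theorem pow_of_order {m r : ℕ} (g : ↥(Matrix.symplecticGroup (Fin m) F)) (hg : orderOf g = r) :
    (g : Matrix (Fin m ⊕ Fin m) (Fin m ⊕ Fin m) F) ^ r = 1 := by
  rw [← SubmonoidClass.coe_pow, ← hg, pow_orderOf_eq_one]
  rfl

end Rev

section AbsSp

variable {F : Type*} [Field F] [DecidableEq F]

theorem exp_le (s : Finset F[X]) (h0 : ∀ ψ ∈ s, ψ ≠ 0) (hu : ∀ ψ ∈ s, ¬ IsUnit ψ)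
    (hcop : ∀ ψ ∈ s, ∀ χ ∈ s, ψ ≠ χ → IsCoprime ψ χ)
    (e : F[X] → ℕ) (χ : F[X]) (hχ : χ ∈ s) (k : ℕ) (h : χ ^ k ∣ ∏ ψ ∈ s, ψ ^ e ψ) :
    k ≤ e χ := by
  rw [← Finset.mul_prod_erase s (fun ψ => ψ ^ e ψ) hχ] at h
  have h2 : IsCoprime (χ ^ k) (∏ ψ ∈ s.erase χ, ψ ^ e ψ) := by
    apply IsCoprime.pow_left
    apply IsCoprime.prod_right
    intro ψ hψ
    apply IsCoprime.pow_right
    exact hcop χ hχ ψ (Finset.mem_of_mem_erase hψ) (Finset.ne_of_mem_erase hψ).symm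
  have h3 : χ ^ k ∣ χ ^ e χ := h2.dvd_of_dvd_mul_right h
  exact (pow_dvd_pow_iff (h0 χ hχ) (hu χ hχ)).mp h3

theorem exists_exp_charpoly {ι : Type*} [Fintype ι] [DecidableEq ι] {r : ℕ} (S : Finset F[X])
    (hmem : ∀ ψ : F[X], Irreducible ψ → ψ.Monic → ψ ∣ X ^ r - 1 → ψ ∈ S)
    (A : Matrix ι ι F) (hA : A ^ r = 1) : ∃ e : F[X] → ℕ, A.charpoly = ∏ ψ ∈ S, ψ ^ e ψ := by
  apply exists_exp S A.charpoly (Matrix.charpoly_monic A)
  intro ψ hψ
  have hirrψ := UniqueFactorizationMonoid.irreducible_of_normalized_factor ψ hψ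
  have hmonψ : ψ.Monic := by
    rw [← UniqueFactorizationMonoid.normalize_normalized_factor ψ hψ]
    exact Polynomial.monic_normalize hirrψ.ne_zero
  exact hmem ψ hirrψ hmonψ (dvd_of_pow_eq_one' A r hA ψ hirrψ
    (UniqueFactorizationMonoid.dvd_of_mem_normalizedFactors hψ))

theorem single_mem (Ψ : Finset F[X]) (N : ℕ) :
    Finsupp.single (X - 1 : F[X]) N ∈ (insert (X - 1) Ψ).finsuppAntidiag N := by
  rw [Finset.mem_finsuppAntidiag]
  refine ⟨?_, Finsupp.support_single_subset.trans (by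
    rw [Finset.singleton_subset_iff]; exact Finset.mem_insert_self _ _)⟩
  rw [Finset.sum_eq_single (X - 1 : F[X])]
  · exact Finsupp.single_eq_same
  · intro b _ hb
    rw [Finsupp.single_apply, if_neg (Ne.symm hb)]
  · intro h
    exact absurd (Finset.mem_insert_self _ _) h

theorem reverse_PP {j : ℕ} (m : ℕ) (Ψ : Finset F[X]) (hje : Even j)
    (hrev : ∀ ψ ∈ Ψ, ψ.reverse = ψ) (mv : F[X] → ℕ) :
    (PP (insert (X - 1) Ψ) (2 * m) j mv).reverse = PP (insert (X - 1) Ψ) (2 * m) j mv := by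
  unfold PP
  rw [← revHom_apply, map_prod]
  apply Finset.prod_congr rfl
  intro ψ hψ
  rw [map_pow, revHom_apply]
  rcases Finset.mem_insert.mp hψ with h | h
  · rw [h, reverse_X_sub_one]
    apply Even.neg_pow
    unfold expo
    rw [if_pos rfl]
    exact Even.add ((Even.mod_even_iff hje).mpr (even_two_mul m)) (hje.mul_right _)
  · rw [hrev ψ h]

theorem eval_one_ne (Φ : Finset F[X]) (hΦ1 : X - 1 ∉ Φ) (hirr : ∀ φ ∈ Φ, Irreducible φ)
    (hmon : ∀ φ ∈ Φ, φ.Monic) (φ : F[X]) (hφ : φ ∈ Φ) : eval 1 φ ≠ 0 := by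
  intro h
  have h1 : (X - C (1 : F)) ∣ φ := Polynomial.dvd_iff_isRoot.mpr h
  rw [map_one] at h1
  have h2 := Polynomial.eq_of_monic_of_associated X_sub_one_monic (hmon φ hφ)
    (X_sub_one_irr.associated_of_dvd (hirr φ hφ) h1)
  exact hΦ1 (h2 ▸ hφ)

theorem star_mem {r i : ℕ} (Φ : Finset F[X]) (hΦ1 : X - 1 ∉ Φ) (hirr : ∀ φ ∈ Φ, Irreducible φ)
    (hmon : ∀ φ ∈ Φ, φ.Monic) (hdeg : ∀ φ ∈ Φ, φ.natDegree = i) (hi : 0 < i) (hr0 : r ≠ 0)
    (hdvd : ∀ φ ∈ Φ, φ ∣ X ^ r - 1)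
    (hmem : ∀ ψ : F[X], Irreducible ψ → ψ.Monic → ψ ∣ X ^ r - 1 → ψ ∈ insert (X - 1) Φ)
    (φ : F[X]) (hφ : φ ∈ Φ) : star φ ∈ Φ := by
  have h0 := coeff_zero_ne hr0 φ (hdvd φ hφ)
  have hsm := star_monic φ h0
  have hsd : (star φ).natDegree = i := by rw [star_natDegree φ h0, hdeg φ hφ]
  have hnu : ¬ IsUnit (star φ) := by
    intro hu
    have := Polynomial.natDegree_eq_zero_of_isUnit hu
    omega
  obtain ⟨ψ, hψm, hψi, hψd⟩ := Polynomial.exists_monic_irreducible_factor (star φ) hnu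
  have hψ := hmem ψ hψi hψm (hψd.trans (star_dvd φ h0 (hdvd φ hφ)))
  rcases Finset.mem_insert.mp hψ with h | h
  · exfalso
    rw [h] at hψd
    have h1 := Polynomial.eval_dvd (x := (1 : F)) hψd
    rw [star_eval_one, eval_sub, eval_X, eval_one, sub_self, zero_dvd_iff] at h1
    rcases mul_eq_zero.mp h1 with h1 | h1
    · exact h0 (inv_eq_zero.mp h1)
    · exact eval_one_ne Φ hΦ1 hirr hmon φ hφ h1
  · have h2 := Polynomial.eq_of_monic_of_dvd_of_natDegree_le hψm hsm hψd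
      (by rw [hsd, hdeg ψ h])
    rw [h2]; exact h

theorem card_abs_sp [Fintype F] (p : ℕ) [Fact p.Prime] [CharP F p] {r j : ℕ} (m : ℕ)
    (hr : r.Prime) (hrp : r ≠ p)
    (Ψ : Finset F[X]) (hΨ1 : X - 1 ∉ Ψ)
    (hmon : ∀ ψ ∈ insert (X - 1) Ψ, ψ.Monic)
    (hu : ∀ ψ ∈ insert (X - 1) Ψ, ¬ IsUnit ψ)
    (hcop : ∀ ψ ∈ insert (X - 1) Ψ, ∀ χ ∈ insert (X - 1) Ψ, ψ ≠ χ → IsCoprime ψ χ)
    (hdvd : ∀ ψ ∈ insert (X - 1) Ψ, ψ ∣ X ^ r - 1)
    (hdeg : ∀ ψ ∈ Ψ, ψ.natDegree = j) (hj : 0 < j) (hje : Even j)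
    (hrev : ∀ ψ ∈ Ψ, ψ.reverse = ψ)
    (hB : ∀ g : ↥(Matrix.symplecticGroup (Fin m) F), orderOf g = r →
      ∃ e : F[X] → ℕ, (g : Matrix (Fin m ⊕ Fin m) (Fin m ⊕ Fin m) F).charpoly =
        ∏ ψ ∈ insert (X - 1) Ψ, ψ ^ e ψ) :
    Nat.card {C : ConjClasses ↥(Matrix.symplecticGroup (Fin m) F) //
      ∃ g : ↥(Matrix.symplecticGroup (Fin m) F), ConjClasses.mk g = C ∧ orderOf g = r} =
      (((insert (X - 1) Ψ).finsuppAntidiag (2 * m / j)).erase
        (Finsupp.single (X - 1) (2 * m / j))).card := by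
  haveI : Fact r.Prime := ⟨hr⟩
  have hrF : (r : F) ≠ 0 := by
    intro h0
    rw [CharP.cast_eq_zero_iff F p] at h0
    exact hrp ((Nat.prime_dvd_prime_iff_eq Fact.out hr).mp h0).symm
  have hrcop : r.Coprime p := (Nat.coprime_primes hr Fact.out).mpr hrp
  have h0S : ∀ ψ ∈ insert (X - 1) Ψ, ψ ≠ 0 := fun ψ hψ => (hmon ψ hψ).ne_zero
  have hdim : Fintype.card (Fin m ⊕ Fin m) = 2 * m := by
    rw [Fintype.card_sum, Fintype.card_fin]; ring
  rw [← Fintype.card_coe, ← Nat.card_eq_fintype_card]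
  apply le_antisymm
  · have hB' : ∀ C : {C : ConjClasses ↥(Matrix.symplecticGroup (Fin m) F) //
        ∃ g : ↥(Matrix.symplecticGroup (Fin m) F), ConjClasses.mk g = C ∧ orderOf g = r},
        ∃ mv : F[X] →₀ ℕ, mv ∈ ((insert (X - 1) Ψ).finsuppAntidiag (2 * m / j)).erase
          (Finsupp.single (X - 1) (2 * m / j)) ∧
          ∃ g : ↥(Matrix.symplecticGroup (Fin m) F), ConjClasses.mk g = C.1 ∧ orderOf g = r ∧
            (g : Matrix (Fin m ⊕ Fin m) (Fin m ⊕ Fin m) F).charpoly =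
              PP (insert (X - 1) Ψ) (2 * m) j mv := by
      intro C
      obtain ⟨g, hg1, hg2⟩ := C.2
      obtain ⟨e, he⟩ := hB g hg2
      obtain ⟨mv, hmv, hmc⟩ := exists_m_of_exp Ψ hΨ1 hmon hdeg hj
        (g : Matrix (Fin m ⊕ Fin m) (Fin m ⊕ Fin m) F).charpoly
        (by rw [Matrix.charpoly_natDegree_eq_dim, hdim]) e he
      refine ⟨mv, Finset.mem_erase.mpr ⟨?_, hmv⟩, g, hg1, hg2, hmc⟩
      intro h0
      rw [h0, PP_single Ψ hΨ1, ← hdim] at hmc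
      have h1 := eq_one_of_charpoly' _ r hrF (pow_of_order g hg2) hmc
      have h2 : g = 1 := Subtype.ext h1
      rw [h2, orderOf_one] at hg2
      exact hr.one_lt.ne hg2
    choose mf hm1 gf hg1 hg2 hg3 using hB'
    apply Nat.card_le_card_of_injective (fun C => (⟨mf C, hm1 C⟩ :
      ↥(((insert (X - 1) Ψ).finsuppAntidiag (2 * m / j)).erase
        (Finsupp.single (X - 1) (2 * m / j)))))
    intro C C' h
    have h1 : mf C = mf C' := congrArg Subtype.val h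
    have h2 : ((gf C : ↥(Matrix.symplecticGroup (Fin m) F)) :
        Matrix (Fin m ⊕ Fin m) (Fin m ⊕ Fin m) F).charpoly =
        ((gf C' : ↥(Matrix.symplecticGroup (Fin m) F)) :
        Matrix (Fin m ⊕ Fin m) (Fin m ⊕ Fin m) F).charpoly := by
      rw [hg3, hg3, h1]
    have h3 := Cfsg.Agent.S2389.result p m (gf C) (gf C')
      (by rw [hg2]; exact hrcop) (by rw [hg2]; exact hrcop) h2
    apply Subtype.ext
    rw [← hg1 C, ← hg1 C']
    exact ConjClasses.mk_eq_mk_iff_isConj.mpr h3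
  · have hC : ∀ mv : ↥(((insert (X - 1) Ψ).finsuppAntidiag (2 * m / j)).erase
        (Finsupp.single (X - 1) (2 * m / j))),
        ∃ g : ↥(Matrix.symplecticGroup (Fin m) F), orderOf g = r ∧
          (g : Matrix (Fin m ⊕ Fin m) (Fin m ⊕ Fin m) F).charpoly =
            PP (insert (X - 1) Ψ) (2 * m) j mv.1 := by
      intro mv
      have hm := Finset.mem_erase.mp mv.2
      have hm2 := Finset.mem_finsuppAntidiag.mp hm.2
      have hmonic : (PP (insert (X - 1) Ψ) (2 * m) j mv.1).Monic :=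
        Polynomial.monic_prod_of_monic _ _ (fun ψ hψ => (hmon ψ hψ).pow _)
      have hdegP : (PP (insert (X - 1) Ψ) (2 * m) j mv.1).natDegree = 2 * m :=
        natDegree_PP Ψ hΨ1 hmon hdeg mv.1 hm2.1
      have hrevP := reverse_PP m Ψ hje hrev mv.1
      obtain ⟨G, hG, hGc⟩ := SpPal.exists_sp_charpoly m _ hmonic hdegP hrevP
      obtain ⟨h, hh1, hh2⟩ := SpPal.exists_pprime p m ⟨G, hG⟩
      have hhc : (h : Matrix (Fin m ⊕ Fin m) (Fin m ⊕ Fin m) F).charpoly =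
          PP (insert (X - 1) Ψ) (2 * m) j mv.1 := hh2.trans hGc
      have hkF : ((orderOf h : ℕ) : F) ≠ 0 := by
        intro h0
        rw [CharP.cast_eq_zero_iff F p] at h0
        have h2 := Nat.Coprime.eq_one_of_dvd hh1.symm h0
        exact (Fact.out : p.Prime).one_lt.ne' h2
      have hhr : (h : Matrix (Fin m ⊕ Fin m) (Fin m ⊕ Fin m) F) ^ r = 1 :=
        pow_eq_one_of_charpoly' _ (orderOf h) r hkF (pow_of_order h rfl) _ (Nat.succ_ne_zero _)
          (by rw [hhc]; exact PP_dvd _ hcop hdvd _)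
      refine ⟨h, ?_, hhc⟩
      apply orderOf_eq_prime
      · apply Subtype.ext
        rw [SubmonoidClass.coe_pow]
        exact hhr
      · intro h1
        apply hm.1
        apply PP_inj' _ h0S hu hcop hj _ _ hm2.2
          (Finsupp.support_single_subset.trans (by
            rw [Finset.singleton_subset_iff]; exact Finset.mem_insert_self _ _))
        rw [PP_single Ψ hΨ1, ← hhc, h1]
        show (1 : Matrix (Fin m ⊕ Fin m) (Fin m ⊕ Fin m) F).charpoly = _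
        rw [Matrix.charpoly_one, hdim]
    choose G hG1 hG2 using hC
    apply Nat.card_le_card_of_injective (fun mv =>
      (⟨ConjClasses.mk (G mv), G mv, rfl, hG1 mv⟩ :
      {C : ConjClasses ↥(Matrix.symplecticGroup (Fin m) F) //
        ∃ g : ↥(Matrix.symplecticGroup (Fin m) F), ConjClasses.mk g = C ∧ orderOf g = r}))
    intro mv mv' h
    have h1 : ConjClasses.mk (G mv) = ConjClasses.mk (G mv') := congrArg Subtype.val h
    rw [ConjClasses.mk_eq_mk_iff_isConj] at h1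
    have h2 := SpPal.charpoly_isConj m _ _ h1
    rw [hG2, hG2] at h2
    apply Subtype.ext
    exact PP_inj' _ h0S hu hcop hj _ _
      (Finset.mem_finsuppAntidiag.mp (Finset.mem_erase.mp mv.2).2).2
      (Finset.mem_finsuppAntidiag.mp (Finset.mem_erase.mp mv'.2).2).2 h2

theorem card_even [Fintype F] (p : ℕ) [Fact p.Prime] [CharP F p] {r i : ℕ} (m : ℕ)
    (hr : r.Prime) (hrp : r ≠ p)
    (Φ : Finset F[X]) (hΦ1 : X - 1 ∉ Φ) (hirr : ∀ φ ∈ Φ, Irreducible φ)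
    (hmon : ∀ φ ∈ Φ, φ.Monic) (hdeg : ∀ φ ∈ Φ, φ.natDegree = i) (hi : 0 < i)
    (hdvd : ∀ φ ∈ Φ, φ ∣ X ^ r - 1)
    (hmem : ∀ ψ : F[X], Irreducible ψ → ψ.Monic → ψ ∣ X ^ r - 1 → ψ ∈ insert (X - 1) Φ)
    (hie : Even i) (hrev : ∀ φ ∈ Φ, φ.reverse = φ) :
    Nat.card {C : ConjClasses ↥(Matrix.symplecticGroup (Fin m) F) //
      ∃ g : ↥(Matrix.symplecticGroup (Fin m) F), ConjClasses.mk g = C ∧ orderOf g = r} =
      Nat.choose (2 * m / i + Φ.card) Φ.card - 1 := by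
  have hirrS : ∀ ψ ∈ insert (X - 1) Φ, Irreducible ψ := by
    intro ψ hψ
    rcases Finset.mem_insert.mp hψ with h | h
    · rw [h]; exact X_sub_one_irr
    · exact hirr ψ h
  have hmonS : ∀ ψ ∈ insert (X - 1) Φ, ψ.Monic := by
    intro ψ hψ
    rcases Finset.mem_insert.mp hψ with h | h
    · rw [h]; exact X_sub_one_monic
    · exact hmon ψ h
  have hdvdS : ∀ ψ ∈ insert (X - 1) Φ, ψ ∣ X ^ r - 1 := by
    intro ψ hψ
    rcases Finset.mem_insert.mp hψ with h | h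
    · rw [h]; exact X_sub_one_dvd r
    · exact hdvd ψ h
  have hm0 := single_mem Φ (2 * m / i)
  rw [card_abs_sp p m hr hrp Φ hΦ1 hmonS (fun ψ hψ => (hirrS ψ hψ).not_isUnit)
    (fun ψ hψ χ hχ hne => coprime_of_ne (hirrS ψ hψ) (hirrS χ hχ) (hmonS ψ hψ) (hmonS χ hχ) hne)
    hdvdS hdeg hi hie hrev (fun g hg => exists_exp_charpoly _ hmem _ (pow_of_order g hg)),
    Finset.card_erase_of_mem hm0, Finset.card_finsuppAntidiag_nat_eq_choose,
    Finset.card_insert_of_notMem hΦ1]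
  have e : ∀ N t : ℕ, t + 1 + N - 1 = N + t := fun N t => by omega
  rw [e, Nat.choose_symm_add]

theorem card_odd [Fintype F] (p : ℕ) [Fact p.Prime] [CharP F p] {r i : ℕ} (m : ℕ)
    (hr : r.Prime) (hrp : r ≠ p)
    (Φ : Finset F[X]) (hΦ1 : X - 1 ∉ Φ) (hirr : ∀ φ ∈ Φ, Irreducible φ)
    (hmon : ∀ φ ∈ Φ, φ.Monic) (hdeg : ∀ φ ∈ Φ, φ.natDegree = i) (hi : 0 < i)
    (hdvd : ∀ φ ∈ Φ, φ ∣ X ^ r - 1)
    (hmem : ∀ ψ : F[X], Irreducible ψ → ψ.Monic → ψ ∣ X ^ r - 1 → ψ ∈ insert (X - 1) Φ)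
    (hne : ∀ φ ∈ Φ, star φ ≠ φ) :
    Nat.card {C : ConjClasses ↥(Matrix.symplecticGroup (Fin m) F) //
      ∃ g : ↥(Matrix.symplecticGroup (Fin m) F), ConjClasses.mk g = C ∧ orderOf g = r} =
      Nat.choose (m / i + Φ.card / 2) (Φ.card / 2) - 1 := by
  have hstar : ∀ φ ∈ Φ, star φ ∈ Φ := star_mem Φ hΦ1 hirr hmon hdeg hi hr.ne_zero hdvd hmem
  have h0 : ∀ φ ∈ Φ, φ.coeff 0 ≠ 0 := fun φ hφ => coeff_zero_ne hr.ne_zero φ (hdvd φ hφ)
  have he1 : ∀ φ ∈ Φ, eval 1 φ ≠ 0 := eval_one_ne Φ hΦ1 hirr hmon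
  have hss : ∀ φ ∈ Φ, star (star φ) = φ := fun φ hφ => star_star φ (hmon φ hφ) (h0 φ hφ)
  have hcopΦ : ∀ φ ∈ Φ, ∀ χ ∈ Φ, φ ≠ χ → IsCoprime φ χ := fun φ hφ χ hχ hne' =>
    coprime_of_ne (hirr φ hφ) (hirr χ hχ) (hmon φ hφ) (hmon χ hχ) hne'
  have hcop1 : ∀ φ ∈ Φ, IsCoprime (X - 1 : F[X]) φ := fun φ hφ =>
    coprime_of_ne X_sub_one_irr (hirr φ hφ) X_sub_one_monic (hmon φ hφ) (fun h => hΦ1 (h ▸ hφ))
  have hirrS' : ∀ ψ ∈ insert (X - 1) Φ, Irreducible ψ := by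
    intro ψ hψ
    rcases Finset.mem_insert.mp hψ with h | h
    · rw [h]; exact X_sub_one_irr
    · exact hirr ψ h
  have hmonS' : ∀ ψ ∈ insert (X - 1) Φ, ψ.Monic := by
    intro ψ hψ
    rcases Finset.mem_insert.mp hψ with h | h
    · rw [h]; exact X_sub_one_monic
    · exact hmon ψ h
  obtain ⟨Ψ, hΨ⟩ : ∃ Ψ : Finset F[X], Ψ = Φ.image (fun φ => φ * star φ) := ⟨_, rfl⟩
  have hΨmem : ∀ ψ ∈ Ψ, ∃ φ ∈ Φ, φ * star φ = ψ := by
    intro ψ hψ
    rw [hΨ] at hψ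
    exact Finset.mem_image.mp hψ
  have hΨ1 : X - 1 ∉ Ψ := by
    intro h
    obtain ⟨φ, hφ, he⟩ := hΨmem _ h
    have h1 := congrArg (eval 1) he
    rw [eval_mul, star_eval_one, eval_sub, eval_X, eval_one, sub_self] at h1
    rcases mul_eq_zero.mp h1 with h2 | h2
    · exact he1 φ hφ h2
    · rcases mul_eq_zero.mp h2 with h3 | h3
      · exact h0 φ hφ (inv_eq_zero.mp h3)
      · exact he1 φ hφ h3
  have hfib : ∀ φ ∈ Φ, Φ.filter (fun φ' => φ' * star φ' = φ * star φ) = {φ, star φ} := by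
    intro φ hφ
    ext φ'
    simp only [Finset.mem_filter, Finset.mem_insert, Finset.mem_singleton]
    constructor
    · rintro ⟨hφ', heq⟩
      have h1 : φ' ∣ φ * star φ := Dvd.intro _ heq
      rcases (hirr φ' hφ').prime.dvd_or_dvd h1 with h | h
      · left
        exact Polynomial.eq_of_monic_of_associated (hmon φ' hφ') (hmon φ hφ)
          ((hirr φ' hφ').associated_of_dvd (hirr φ hφ) h)
      · right
        exact Polynomial.eq_of_monic_of_associated (hmon φ' hφ') (hmon _ (hstar φ hφ))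
          ((hirr φ' hφ').associated_of_dvd (hirr _ (hstar φ hφ)) h)
    · rintro (h | h)
      · rw [h]; exact ⟨hφ, rfl⟩
      · rw [h, hss φ hφ]; exact ⟨hstar φ hφ, mul_comm _ _⟩
  have hcard : Φ.card = 2 * Ψ.card := by
    rw [Finset.card_eq_sum_card_image (fun φ => φ * star φ) Φ, ← hΨ]
    rw [Finset.sum_const_nat (m := 2)]
    · ring
    · intro ψ hψ
      obtain ⟨φ, hφ, he⟩ := hΨmem ψ hψ
      rw [← he, hfib φ hφ]
      exact Finset.card_pair (hne φ hφ).symm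
  have hmonS : ∀ ψ ∈ insert (X - 1) Ψ, ψ.Monic := by
    intro ψ hψ
    rcases Finset.mem_insert.mp hψ with h | h
    · rw [h]; exact X_sub_one_monic
    · obtain ⟨φ, hφ, he⟩ := hΨmem ψ h
      rw [← he]; exact (hmon φ hφ).mul (hmon _ (hstar φ hφ))
  have huS : ∀ ψ ∈ insert (X - 1) Ψ, ¬ IsUnit ψ := by
    intro ψ hψ
    rcases Finset.mem_insert.mp hψ with h | h
    · rw [h]; exact X_sub_one_irr.not_isUnit
    · obtain ⟨φ, hφ, he⟩ := hΨmem ψ h
      rw [← he]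
      intro hu
      exact (hirr φ hφ).not_isUnit (isUnit_of_mul_isUnit_left hu)
  have hcopΨ1 : ∀ ψ ∈ Ψ, IsCoprime (X - 1 : F[X]) ψ := by
    intro ψ hψ
    obtain ⟨φ, hφ, he⟩ := hΨmem ψ hψ
    rw [← he]
    exact IsCoprime.mul_right (hcop1 φ hφ) (hcop1 _ (hstar φ hφ))
  have hcopΨ : ∀ ψ ∈ Ψ, ∀ χ ∈ Ψ, ψ ≠ χ → IsCoprime ψ χ := by
    intro ψ hψ χ hχ hneq
    obtain ⟨φ, hφ, he⟩ := hΨmem ψ hψ
    obtain ⟨φ', hφ', he'⟩ := hΨmem χ hχ
    rw [← he, ← he'] at hneq ⊢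
    have n1 : φ ≠ φ' := fun h => hneq (by rw [h])
    have n2 : φ ≠ star φ' := fun h => hneq (by rw [h, hss φ' hφ', mul_comm])
    have n3 : star φ ≠ φ' := fun h => n2 (by rw [← h, hss φ hφ])
    have n4 : star φ ≠ star φ' := fun h => n1 (by rw [← hss φ hφ, h, hss φ' hφ'])
    exact IsCoprime.mul_left
      (IsCoprime.mul_right (hcopΦ φ hφ φ' hφ' n1) (hcopΦ φ hφ _ (hstar φ' hφ') n2))
      (IsCoprime.mul_right (hcopΦ _ (hstar φ hφ) φ' hφ' n3)
        (hcopΦ _ (hstar φ hφ) _ (hstar φ' hφ') n4))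
  have hcopS : ∀ ψ ∈ insert (X - 1) Ψ, ∀ χ ∈ insert (X - 1) Ψ, ψ ≠ χ → IsCoprime ψ χ := by
    intro ψ hψ χ hχ hneq
    rcases Finset.mem_insert.mp hψ with h | h
    · rcases Finset.mem_insert.mp hχ with h' | h'
      · exact absurd (h.trans h'.symm) hneq
      · rw [h]; exact hcopΨ1 χ h'
    · rcases Finset.mem_insert.mp hχ with h' | h'
      · rw [h']; exact (hcopΨ1 ψ h).symm
      · exact hcopΨ ψ h χ h' hneq
  have hdvdS : ∀ ψ ∈ insert (X - 1) Ψ, ψ ∣ X ^ r - 1 := by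
    intro ψ hψ
    rcases Finset.mem_insert.mp hψ with h | h
    · rw [h]; exact X_sub_one_dvd r
    · obtain ⟨φ, hφ, he⟩ := hΨmem ψ h
      rw [← he]
      exact IsCoprime.mul_dvd (hcopΦ φ hφ _ (hstar φ hφ) (hne φ hφ).symm) (hdvd φ hφ)
        (hdvd _ (hstar φ hφ))
  have hdegΨ : ∀ ψ ∈ Ψ, ψ.natDegree = 2 * i := by
    intro ψ hψ
    obtain ⟨φ, hφ, he⟩ := hΨmem ψ hψ
    rw [← he, (hmon φ hφ).natDegree_mul (hmon _ (hstar φ hφ)), hdeg φ hφ, hdeg _ (hstar φ hφ)]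
    ring
  have hrevΨ : ∀ ψ ∈ Ψ, ψ.reverse = ψ := by
    intro ψ hψ
    obtain ⟨φ, hφ, he⟩ := hΨmem ψ hψ
    rw [← he, Polynomial.reverse_mul_of_domain, reverse_eq_star φ (h0 φ hφ),
      reverse_eq_star (star φ) (h0 _ (hstar φ hφ)), hss φ hφ, star_coeff_zero φ (hmon φ hφ)]
    have h1 : C (φ.coeff 0) * star φ * (C (φ.coeff 0)⁻¹ * φ) =
        C (φ.coeff 0 * (φ.coeff 0)⁻¹) * (φ * star φ) := by rw [C_mul]; ring
    rw [h1, mul_inv_cancel₀ (h0 φ hφ), map_one, one_mul]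
  have hB : ∀ g : ↥(Matrix.symplecticGroup (Fin m) F), orderOf g = r →
      ∃ e : F[X] → ℕ, (g : Matrix (Fin m ⊕ Fin m) (Fin m ⊕ Fin m) F).charpoly =
        ∏ ψ ∈ insert (X - 1) Ψ, ψ ^ e ψ := by
    intro g hg
    obtain ⟨e, he⟩ := exists_exp_charpoly (insert (X - 1) Φ) hmem
      (g : Matrix (Fin m ⊕ Fin m) (Fin m ⊕ Fin m) F) (pow_of_order g hg)
    have hpal := SpPal.rev_charpoly m _ g.2
    have hle : ∀ φ ∈ Φ, e φ ≤ e (star φ) := by
      intro φ hφ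
      have h1 : φ ^ e φ ∣ (g : Matrix (Fin m ⊕ Fin m) (Fin m ⊕ Fin m) F).charpoly := by
        rw [he]
        exact Finset.dvd_prod_of_mem (fun ψ => ψ ^ e ψ) (Finset.mem_insert_of_mem hφ)
      have h2 := _root_.map_dvd (revHom (F := F)) h1
      rw [map_pow, revHom_apply, revHom_apply, hpal, reverse_eq_star φ (h0 φ hφ)] at h2
      have h3 : star φ ^ e φ ∣ (g : Matrix (Fin m ⊕ Fin m) (Fin m ⊕ Fin m) F).charpoly :=
        (pow_dvd_pow_of_dvd (dvd_mul_left _ _) _).trans h2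
      rw [he] at h3
      exact exp_le (insert (X - 1) Φ) (fun ψ hψ => (hirrS' ψ hψ).ne_zero)
        (fun ψ hψ => (hirrS' ψ hψ).not_isUnit)
        (fun ψ hψ χ hχ hne' =>
          coprime_of_ne (hirrS' ψ hψ) (hirrS' χ hχ) (hmonS' ψ hψ) (hmonS' χ hχ) hne')
        e (star φ) (Finset.mem_insert_of_mem (hstar φ hφ)) _ h3
    have hsym : ∀ φ ∈ Φ, e (star φ) = e φ := by
      intro φ hφ
      apply le_antisymm
      · have h := hle (star φ) (hstar φ hφ)
        rwa [hss φ hφ] at h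
      · exact hle φ hφ
    refine ⟨fun ψ => if ψ = X - 1 then e (X - 1) else
      (∑ φ' ∈ Φ.filter (fun φ' => φ' * star φ' = ψ), e φ') / 2, ?_⟩
    beta_reduce
    rw [he, Finset.prod_insert hΦ1, Finset.prod_insert hΨ1, if_pos rfl]
    congr 1
    rw [hΨ]
    symm
    refine Finset.prod_image' (fun φ => φ ^ e φ) ?_
    intro φ hφ
    beta_reduce
    have hne1 : φ * star φ ≠ X - 1 := fun h =>
      hΨ1 (by rw [hΨ, ← h]; exact Finset.mem_image_of_mem _ hφ)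
    rw [if_neg hne1, hfib φ hφ, Finset.sum_pair (hne φ hφ).symm,
      Finset.prod_pair (hne φ hφ).symm, hsym φ hφ, mul_pow]
    have h2 : (e φ + e φ) / 2 = e φ := by omega
    rw [h2]
  have hm0 := single_mem Ψ (2 * m / (2 * i))
  have hΨc : Ψ.card = Φ.card / 2 := by omega
  rw [card_abs_sp p m hr hrp Ψ hΨ1 hmonS huS hcopS hdvdS hdegΨ (by omega) (even_two_mul i)
    hrevΨ hB,
    Finset.card_erase_of_mem hm0, Finset.card_finsuppAntidiag_nat_eq_choose,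
    Finset.card_insert_of_notMem hΨ1, Nat.mul_div_mul_left m i (by norm_num : 0 < 2), hΨc]
  have e : ∀ N t : ℕ, t + 1 + N - 1 = N + t := fun N t => by omega
  rw [e, Nat.choose_symm_add]

end AbsSp

end Cfsg.Agent.Helper14.PrimeOrdSp
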