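import Mathlib

/-!
# Sylow `r`-subgroups of classical groups for large `r` via tori

Number theory of `q ^ i - 1`, a transfer lemma for Sylow subgroups, and embeddings of
tori into general linear groups.
-/

set_option autoImplicit false

namespace Cfsg.Agent.Helper14.SylTorus

open Finset

theorem ord_pos (r q : ℕ) [hr : Fact r.Prime] (hrq : ¬ r ∣ q) : 0 < orderOf (q : ZMod r) := by
  have hq0 : (q : ZMod r) ≠ 0 := by
    intro h; exact hrq ((ZMod.natCast_eq_zero_iff q r).mp h)
  exact orderOf_pos_iff.mpr (isOfFinOrder_iff_pow_eq_one.mpr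
    ⟨r - 1, Nat.sub_pos_of_lt hr.out.one_lt, ZMod.pow_card_sub_one_eq_one hq0⟩)

theorem dvd_iff (r q : ℕ) [hr : Fact r.Prime] (hq : 1 ≤ q) (i : ℕ) :
    r ∣ q ^ i - 1 ↔ orderOf (q : ZMod r) ∣ i := by
  rw [orderOf_dvd_iff_pow_eq_one, ← ZMod.natCast_eq_zero_iff,
    Nat.cast_sub (Nat.one_le_pow _ _ hq), Nat.cast_pow, Nat.cast_one, sub_eq_zero]

theorem val_cyc (r q : ℕ) [hr : Fact r.Prime] (hq : 2 ≤ q) (hrq : ¬ r ∣ q) :
    padicValNat r (q ^ orderOf (q : ZMod r) - 1) =
      padicValNat r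
        ((Polynomial.cyclotomic (orderOf (q : ZMod r)) ℤ).eval (q : ℤ)).natAbs := by
  obtain ⟨d, hd⟩ : ∃ d, d = orderOf (q : ZMod r) := ⟨_, rfl⟩
  rw [← hd]
  have hd0 : 0 < d := hd ▸ ord_pos r q hrq
  have h1 := congrArg (Polynomial.eval (q : ℤ))
    (Polynomial.prod_cyclotomic_eq_X_pow_sub_one hd0 ℤ)
  rw [Polynomial.eval_prod, Polynomial.eval_sub, Polynomial.eval_pow, Polynomial.eval_X,
    Polynomial.eval_one, ← Nat.insert_self_properDivisors hd0.ne',
    Finset.prod_insert (by simp)] at h1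
  obtain ⟨A, hA⟩ : ∃ A, A = (Polynomial.cyclotomic d ℤ).eval (q : ℤ) := ⟨_, rfl⟩
  obtain ⟨B, hB⟩ : ∃ B, B = ∏ i ∈ d.properDivisors,
      (Polynomial.cyclotomic i ℤ).eval (q : ℤ) := ⟨_, rfl⟩
  rw [← hA, ← hB] at h1
  have hq1 : 1 ≤ q ^ d := Nat.one_le_pow _ _ (by omega)
  have h2 : A.natAbs * B.natAbs = q ^ d - 1 := by
    rw [← Int.natAbs_mul, h1]
    have : ((q : ℤ) ^ d - 1) = ((q ^ d - 1 : ℕ) : ℤ) := by
      rw [Nat.cast_sub hq1]; simp
    rw [this, Int.natAbs_natCast]
  have hne : q ^ d - 1 ≠ 0 := by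
    have : 2 ≤ q ^ d := le_trans hq (Nat.le_self_pow hd0.ne' q)
    omega
  have hA0 : A.natAbs ≠ 0 := by
    intro h; rw [h, zero_mul] at h2; exact hne h2.symm
  have hB0 : B.natAbs ≠ 0 := by
    intro h; rw [h, mul_zero] at h2; exact hne h2.symm
  have hBr : ¬ r ∣ B.natAbs := by
    intro h
    have h3 : (r : ℤ) ∣ B := Int.natCast_dvd.mpr h
    rw [hB] at h3
    obtain ⟨i, hi, h4⟩ := (Nat.prime_iff_prime_int.mp hr.out).exists_mem_finset_dvd h3
    have hi' := Nat.mem_properDivisors.mp hi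
    have hipos : 0 < i := Nat.pos_of_dvd_of_pos hi'.1 hd0
    have h5 : (Polynomial.cyclotomic i ℤ).eval (q : ℤ) ∣ (q : ℤ) ^ i - 1 := by
      have := Polynomial.eval_dvd (x := (q : ℤ)) (Polynomial.cyclotomic.dvd_X_pow_sub_one i ℤ)
      simpa using this
    have h6 : (r : ℤ) ∣ ((q ^ i - 1 : ℕ) : ℤ) := by
      rw [Nat.cast_sub (Nat.one_le_pow _ _ (by omega))]
      push_cast
      exact h4.trans h5
    have h7 : r ∣ q ^ i - 1 := Int.natCast_dvd_natCast.mp h6
    rw [dvd_iff r q (by omega), ← hd] at h7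
    exact absurd (Nat.le_of_dvd hipos h7) (not_le.mpr hi'.2)
  rw [← hA, ← h2, padicValNat.mul hA0 hB0, padicValNat.eq_zero_of_not_dvd hBr, add_zero]

theorem val_mul (r q : ℕ) [hr : Fact r.Prime] (hq : 2 ≤ q) (hrq : ¬ r ∣ q) (j : ℕ)
    (hj : ¬ r ∣ j) :
    padicValNat r (q ^ (orderOf (q : ZMod r) * j) - 1) =
      padicValNat r (q ^ orderOf (q : ZMod r) - 1) := by
  obtain ⟨d, hd⟩ : ∃ d, d = orderOf (q : ZMod r) := ⟨_, rfl⟩
  rw [← hd]
  have hd0 : 0 < d := hd ▸ ord_pos r q hrq
  obtain ⟨x, hx⟩ : ∃ x, x = q ^ d := ⟨_, rfl⟩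
  have hx2 : 2 ≤ x := by rw [hx]; exact le_trans hq (Nat.le_self_pow hd0.ne' q)
  rw [pow_mul, ← hx]
  obtain ⟨S, hS⟩ : ∃ S, S = ∑ i ∈ Finset.range j, x ^ i := ⟨_, rfl⟩
  have hxj : 1 ≤ x ^ j := Nat.one_le_pow _ _ (by omega)
  have h1 : S * (x - 1) = x ^ j - 1 := by
    have h := geom_sum_mul (x : ℤ) j
    have h' : ((S * (x - 1) : ℕ) : ℤ) = ((x ^ j - 1 : ℕ) : ℤ) := by
      rw [Nat.cast_mul, Nat.cast_sub (by omega : 1 ≤ x), Nat.cast_sub hxj, hS]
      push_cast
      exact h
    exact_mod_cast h'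
  have hxz : (x : ZMod r) = 1 := by
    rw [hx, Nat.cast_pow, hd]; exact pow_orderOf_eq_one _
  have hSr : ¬ r ∣ S := by
    intro h
    have h2 := (ZMod.natCast_eq_zero_iff S r).mpr h
    rw [hS, Nat.cast_sum] at h2
    simp only [Nat.cast_pow, hxz, one_pow, Finset.sum_const, Finset.card_range, nsmul_eq_mul,
      mul_one] at h2
    exact hj ((ZMod.natCast_eq_zero_iff j r).mp h2)
  have hS0 : S ≠ 0 := by rintro rfl; exact hSr (dvd_zero _)
  rw [← h1, padicValNat.mul hS0 (by omega), padicValNat.eq_zero_of_not_dvd hSr, zero_add]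

/-- the `r`-adic valuation of `q ^ i - 1` for `r ∤ i`. -/
theorem val_pow (r q : ℕ) [hr : Fact r.Prime] (hq : 2 ≤ q) (hrq : ¬ r ∣ q) (i : ℕ)
    (hi : ¬ r ∣ i) :
    padicValNat r (q ^ i - 1) = if orderOf (q : ZMod r) ∣ i then
      padicValNat r
        ((Polynomial.cyclotomic (orderOf (q : ZMod r)) ℤ).eval (q : ℤ)).natAbs else 0 := by
  split_ifs with h
  · obtain ⟨j, rfl⟩ := h
    rw [val_mul r q hq hrq j (fun h' => hi (h'.trans (dvd_mul_left _ _))), val_cyc r q hq hrq]
  · exact padicValNat.eq_zero_of_not_dvd (fun h' => h ((dvd_iff r q (by omega) i).mp h'))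

theorem sum_ite_count (S : Finset ℕ) (P : ℕ → Prop) [DecidablePred P] (k : ℕ) :
    ∑ j ∈ S, (if P j then k else 0) = k * (S.filter P).card := by
  rw [Finset.sum_ite, Finset.sum_const_zero, add_zero, Finset.sum_const, smul_eq_mul, mul_comm]

/-- A subgroup of the right order isomorphic to a power of a cyclic group gives the
isomorphism type of all Sylow subgroups. -/
theorem sylow_of_torus {G : Type*} [Group G] [Finite G] (r : ℕ) [Fact r.Prime] (c k : ℕ)
    (Φ : (Fin c → Multiplicative (ZMod (r ^ k))) →* G) (hΦ : Function.Injective Φ)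
    (hval : (Nat.card G).factorization r = k * c) (P : Sylow r G) :
    Nonempty (↥(P : Subgroup G) ≃* (Fin c → Multiplicative (ZMod (r ^ k)))) := by
  have hcard : Nat.card Φ.range = r ^ (Nat.card G).factorization r := by
    rw [hval, ← Nat.card_congr (MonoidHom.ofInjective hΦ).toEquiv, Nat.card_fun, Nat.card_fin,
      pow_mul]
    congr 1
    show Nat.card (ZMod (r ^ k)) = r ^ k
    exact Nat.card_zmod _
  exact ⟨(Sylow.equiv P (Sylow.ofCard Φ.range hcard)).trans (MonoidHom.ofInjective hΦ).symm⟩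

/-- a cyclic group contains a copy of `ZMod m` for every divisor `m` of its order -/
theorem exists_hom_zmod {C : Type*} [Group C] [Finite C] [IsCyclic C] (m : ℕ)
    (hm : m ∣ Nat.card C) : ∃ f : Multiplicative (ZMod m) →* C, Function.Injective f := by
  obtain ⟨g, hg⟩ := IsCyclic.exists_ofOrder_eq_natCard (α := C)
  obtain ⟨t, ht⟩ := hm
  have hc : 0 < Nat.card C := Nat.card_pos
  have ht0 : t ≠ 0 := by rintro rfl; simp at ht; omega
  have hm0 : 0 < m := by
    rcases Nat.eq_zero_or_pos m with rfl | h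
    · simp at ht; omega
    · exact h
  have hord : orderOf (g ^ t) = m := by
    rw [orderOf_pow_of_dvd ht0 (by rw [hg, ht]; exact dvd_mul_left _ _), hg, ht]
    exact Nat.mul_div_cancel _ (Nat.pos_of_ne_zero ht0)
  have key : ∀ k, Nat.card (Subgroup.zpowers (g ^ t)) = k →
      Nonempty (Multiplicative (ZMod k) ≃* Subgroup.zpowers (g ^ t)) := by
    rintro k rfl
    exact ⟨zmodCyclicMulEquiv inferInstance⟩
  obtain ⟨e⟩ := key m (by rw [Nat.card_zpowers, hord])
  exact ⟨(Subgroup.zpowers (g ^ t)).subtype.comp e.toMonoidHom,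
    fun x y h => e.injective (Subtype.ext h)⟩

/-- a faithful linear action on an `n`-dimensional space gives an embedding in `GL n`. -/
theorem embedGL {F : Type*} [Field F] {V : Type*} [AddCommGroup V] [Module F V]
    [FiniteDimensional F V] (n : ℕ) (hdim : Module.finrank F V = n)
    {G : Type*} [Group G] (ρ : G →* Module.End F V) (hρ : Function.Injective ρ) :
    ∃ φ : G →* GL (Fin n) F, Function.Injective φ := by
  classical
  let b : Module.Basis (Fin n) F V := Module.finBasisOfFinrankEq F V hdim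
  let ψ : G →* Matrix (Fin n) (Fin n) F :=
    { toFun := fun g => LinearMap.toMatrix b b (ρ g)
      map_one' := by rw [map_one]; exact LinearMap.toMatrix_one b
      map_mul' := fun g h => by rw [map_mul]; exact LinearMap.toMatrix_mul b (ρ g) (ρ h) }
  refine ⟨ψ.toHomUnits, fun g h hgh => ?_⟩
  have h1 : LinearMap.toMatrix b b (ρ g) = LinearMap.toMatrix b b (ρ h) :=
    congrArg Units.val hgh
  exact hρ ((LinearMap.toMatrix b b).injective h1)

/-- the torus `(Lˣ) ^ a` in `GL n F` for an extension `L` of degree `d` with `a * d ≤ n`. -/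
theorem torusGL {F L : Type*} [Field F] [Field L] [Algebra F L] [FiniteDimensional F L]
    (a d n : ℕ) (hdim : Module.finrank F L = d) (had : a * d ≤ n) :
    ∃ φ : (Fin a → Lˣ) →* GL (Fin n) F, Function.Injective φ := by
  classical
  obtain ⟨n', hn'⟩ : ∃ n', a * d + n' = n := ⟨n - a * d, by omega⟩
  let ρ : (Fin a → Lˣ) →* Module.End F ((Fin a → L) × (Fin n' → F)) :=
    { toFun := fun u => LinearMap.prodMap
        (LinearMap.pi fun i => (LinearMap.mulLeft F ((u i : Lˣ) : L)).comp (LinearMap.proj i))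
        LinearMap.id
      map_one' := by
        apply LinearMap.ext
        rintro ⟨v, w⟩
        refine Prod.ext (funext fun i => ?_) rfl
        simp
      map_mul' := fun u u' => by
        apply LinearMap.ext
        rintro ⟨v, w⟩
        refine Prod.ext (funext fun i => ?_) rfl
        simp }
  have hρ : Function.Injective ρ := by
    intro u u' h
    funext i
    have h1 := congrArg (fun e : Module.End F ((Fin a → L) × (Fin n' → F)) =>
      (e ((fun _ => (1 : L)), 0)).1 i) h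
    simp only [ρ] at h1
    apply Units.ext
    simpa using h1
  have hfin : Module.finrank F ((Fin a → L) × (Fin n' → F)) = n := by
    rw [Module.finrank_prod, Module.finrank_pi_fintype, Module.finrank_fin_fun, ← hn']
    simp [hdim]
  exact embedGL n hfin ρ hρ

/-- the `r`-part of the order of `GL n F`. -/
theorem val_GL {F : Type*} [Field F] [Fintype F] (n : ℕ) (r : ℕ) [hr : Fact r.Prime]
    (hrq : ¬ r ∣ Fintype.card F) :
    (Nat.card (GL (Fin n) F)).factorization r =
      ∑ j ∈ Finset.Ico 1 (n + 1), padicValNat r (Fintype.card F ^ j - 1) := by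
  obtain ⟨q, hq⟩ : ∃ q, q = Fintype.card F := ⟨_, rfl⟩
  have hq2 : 2 ≤ q := by rw [hq]; exact Fintype.one_lt_card
  rw [Matrix.card_GL_field, ← hq]
  rw [← hq] at hrq
  have hsplit : ∀ i, i < n → q ^ n - q ^ i = q ^ i * (q ^ (n - i) - 1) := by
    intro i hi
    rw [Nat.mul_sub, mul_one, ← pow_add, Nat.add_sub_cancel' hi.le]
  have hpos : ∀ i, i < n → q ^ (n - i) - 1 ≠ 0 := by
    intro i hi
    have : 2 ≤ q ^ (n - i) := le_trans hq2 (Nat.le_self_pow (by omega) q)
    omega
  rw [Nat.factorization_prod (fun i _ => by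
    rw [hsplit i i.2]
    exact mul_ne_zero (pow_ne_zero _ (by omega)) (hpos i i.2))]
  rw [Finsupp.finsetSum_apply]
  have hterm : ∀ i : Fin n, (q ^ n - q ^ (i : ℕ)).factorization r =
      padicValNat r (q ^ (n - (i : ℕ)) - 1) := by
    intro i
    rw [hsplit i i.2, Nat.factorization_mul (pow_ne_zero _ (by omega)) (hpos i i.2),
      Finsupp.add_apply, Nat.factorization_pow, Finsupp.smul_apply,
      Nat.factorization_eq_zero_of_not_dvd hrq, smul_zero, zero_add, Nat.factorization_def _ hr.out]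
  rw [Finset.sum_congr rfl (fun i _ => hterm i),
    Fin.sum_univ_eq_sum_range (fun i => padicValNat r (q ^ (n - i) - 1)) n]
  refine Finset.sum_nbij' (fun i => n - i) (fun j => n - j) ?_ ?_ ?_ ?_ ?_
  · intro i hi
    rw [Finset.mem_range] at hi
    rw [Finset.mem_Ico]; omega
  · intro j hj
    rw [Finset.mem_Ico] at hj
    rw [Finset.mem_range]; omega
  · intro i hi
    rw [Finset.mem_range] at hi
    show n - (n - i) = i
    omega
  · intro j hj
    rw [Finset.mem_Ico] at hj
    show n - (n - j) = j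
    omega
  · intro i _
    rfl

end Cfsg.Agent.Helper14.SylTorus
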