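import Mathlib
import Cfsg.Agent.Helper14.Coprime
import Cfsg.Agent.Helper23.OddPGroup

/-!
Coprime automorphisms of `p`-groups, `p` odd, fixing the elements of order dividing `p`
(helper14).
-/

set_option autoImplicit false

namespace Cfsg.Agent.Helper14

open scoped commutatorElement

variable {G : Type*} [Group G]

/-- If `a ^ k = 1` with `k` prime to `p`, and `h⁻¹ * a h` is an `a`-fixed `p`-element,
then `a h = h`. -/
theorem aut_fix_elem {p : ℕ} (a : MulAut G) (k : ℕ) (hk : a ^ k = 1) (hkp : Nat.Coprime k p)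
    (h : G) (hac : a (h⁻¹ * a h) = h⁻¹ * a h) (e : ℕ) (he : (h⁻¹ * a h) ^ p ^ e = 1) :
    a h = h := by
  have key : ∀ j : ℕ, (a ^ j) h = h * (h⁻¹ * a h) ^ j := by
    intro j
    induction j with
    | zero => simp
    | succ j ih =>
      rw [pow_succ' a j, MulAut.mul_apply, ih, map_mul, map_pow, hac, pow_succ' (h⁻¹ * a h) j,
        ← mul_assoc h, mul_inv_cancel_left]
  have h1 := key k
  rw [hk, MulAut.one_apply] at h1
  have h2 : (h⁻¹ * a h) ^ k = 1 := by
    have h2' : h * 1 = h * (h⁻¹ * a h) ^ k := by rw [mul_one]; exact h1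
    exact (mul_left_cancel h2').symm
  have h3 := eq_one_of_pow_coprime (p := p) _ k e hkp h2 he
  have h4 : a h = h * (h⁻¹ * a h) := by rw [mul_inv_cancel_left]
  rw [h4, h3, mul_one]

theorem map_subtype_commutator (H : Subgroup G) :
    (commutator ↥H).map H.subtype = ⁅H, H⁆ := by
  rw [commutator_def, Subgroup.map_commutator, ← MonoidHom.range_eq_map, Subgroup.range_subtype]

/-- For a nontrivial finite `p`-subgroup `H`, the subgroup `E = H^p [H,H]` is proper. -/
theorem exists_powSub [Finite G] {p : ℕ} [hp : Fact p.Prime] (H : Subgroup G)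
    (hH : IsPGroup p H) (hbot : H ≠ ⊥) :
    ∃ E : Subgroup G, E ≤ H ∧ E ≠ H ∧
      ∀ x, x ∈ E ↔ x ∈ H ∧ ∃ y ∈ H, x⁻¹ * y ^ p ∈ ⁅H, H⁆ := by
  have hD := map_subtype_commutator H
  have hsurj : Function.Surjective (Abelianization.of : ↥H → Abelianization ↥H) :=
    fun w => QuotientGroup.mk_surjective w
  have hmem : ∀ x, x ∈ ((powMonoidHom p : Abelianization ↥H →* Abelianization ↥H).range.comap
      Abelianization.of).map H.subtype ↔ x ∈ H ∧ ∃ y ∈ H, x⁻¹ * y ^ p ∈ ⁅H, H⁆ := by
    intro x
    constructor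
    · rintro ⟨z, hz, rfl⟩
      refine ⟨z.2, ?_⟩
      obtain ⟨w, hw⟩ := hz
      obtain ⟨y, rfl⟩ := hsurj w
      refine ⟨y, y.2, ?_⟩
      rw [← hD]
      refine Subgroup.mem_map.mpr ⟨z⁻¹ * y ^ p, ?_, by simp⟩
      rw [← Abelianization.ker_of ↥H, MonoidHom.mem_ker, map_mul, map_inv, map_pow]
      rw [powMonoidHom_apply] at hw
      rw [hw, inv_mul_cancel]
    · rintro ⟨hx, y, hy, hxy⟩
      refine Subgroup.mem_map.mpr ⟨(⟨x, hx⟩ : ↥H), ?_, rfl⟩
      show Abelianization.of (⟨x, hx⟩ : ↥H) ∈ (powMonoidHom p).range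
      refine ⟨Abelianization.of (⟨y, hy⟩ : ↥H), ?_⟩
      rw [← hD] at hxy
      obtain ⟨c, hc, hcx⟩ := Subgroup.mem_map.mp hxy
      have hceq : c = (⟨x, hx⟩ : ↥H)⁻¹ * ⟨y, hy⟩ ^ p := Subtype.ext (by simpa using hcx)
      rw [← Abelianization.ker_of ↥H, MonoidHom.mem_ker, hceq, map_mul, map_inv, map_pow] at hc
      rw [powMonoidHom_apply]
      exact (inv_mul_eq_one.mp hc).symm
  refine ⟨_, fun x hx => ((hmem x).mp hx).1, ?_, hmem⟩
  intro hEH
  have : Nontrivial ↥H := (Subgroup.nontrivial_iff_ne_bot H).mpr hbot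
  have : Group.IsNilpotent ↥H := hH.isNilpotent
  have hlt := Group.IsSolvable.commutator_lt_top_of_nontrivial ↥H
  have hsurjp : Function.Surjective (powMonoidHom p : Abelianization ↥H →* Abelianization ↥H) := by
    intro w
    obtain ⟨z, rfl⟩ := hsurj w
    have hz : (z : G) ∈ ((powMonoidHom p : Abelianization ↥H →* Abelianization ↥H).range.comap
      Abelianization.of).map H.subtype := by rw [hEH]; exact z.2
    obtain ⟨z', hz', hzz⟩ := hz
    have hzeq : z' = z := Subtype.ext (by simpa using hzz)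
    rw [hzeq] at hz'
    exact hz'
  have : Finite (Abelianization ↥H) := Finite.of_surjective _ hsurj
  have hinj : Function.Injective (powMonoidHom p : Abelianization ↥H →* Abelianization ↥H) :=
    Finite.injective_iff_surjective.mpr hsurjp
  have hinj1 : ∀ w : Abelianization ↥H, w ^ p = 1 → w = 1 := by
    intro w hw
    apply hinj
    rw [powMonoidHom_apply, powMonoidHom_apply, hw, one_pow]
  have hinj2 : ∀ k : ℕ, ∀ w : Abelianization ↥H, w ^ p ^ k = 1 → w = 1 := by
    intro k
    induction k with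
    | zero => intro w hw; simpa using hw
    | succ k ih =>
      intro w hw
      apply ih
      apply hinj1
      rw [← pow_mul, ← pow_succ]; exact hw
  obtain ⟨z, -, hz⟩ := SetLike.exists_of_lt hlt
  obtain ⟨k, hk⟩ := hH z
  apply hz
  rw [← Abelianization.ker_of ↥H, MonoidHom.mem_ker]
  apply hinj2 k
  rw [← map_pow, hk, map_one]

/-- **Coprime action on `Ω₁`, odd `p`** (subgroup form): if `a ^ k = 1` with `k` prime to the
odd prime `p`, and `a` stabilizes the `p`-subgroup `H` and fixes its elements of order dividing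
`p`, then `a` fixes `H` pointwise. -/
theorem aut_fix_of_fix_order_p [Finite G] {p : ℕ} [hp : Fact p.Prime] (hp2 : p ≠ 2)
    (a : MulAut G) (k : ℕ) (hk : a ^ k = 1) (hkp : Nat.Coprime k p) :
    ∀ n : ℕ, ∀ H : Subgroup G, Nat.card H = n → IsPGroup p H → (∀ h ∈ H, a h ∈ H) →
      (∀ x ∈ H, x ^ p = 1 → a x = x) → ∀ h ∈ H, a h = h := by
  intro n
  induction n using Nat.strong_induction_on with
  | _ n ih =>
    intro H hn hH hinv hfix
    have IH : ∀ N : Subgroup G, N ≤ H → N ≠ H → (∀ h ∈ N, a h ∈ N) → ∀ h ∈ N, a h = h := by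
      intro N hNH hne hNinv
      have hlt : Nat.card N < n := by
        rw [← hn]
        by_contra hcon
        exact hne (Subgroup.eq_of_le_of_card_ge hNH (not_lt.mp hcon))
      exact ih _ hlt N rfl (hH.to_le hNH) hNinv (fun x hx => hfix x (hNH hx))
    have hpow : ∀ x ∈ H, ∃ e : ℕ, x ^ p ^ e = 1 := by
      intro x hx
      obtain ⟨e, he⟩ := hH ⟨x, hx⟩
      exact ⟨e, by simpa using congrArg Subtype.val he⟩
    obtain ⟨N₀, hN₀⟩ : ∃ N₀ : Subgroup G,
        N₀ = Subgroup.closure {c | ∃ h ∈ H, c = h⁻¹ * a h} := ⟨_, rfl⟩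
    have hgen : ∀ h ∈ H, h⁻¹ * a h ∈ N₀ := by
      intro h hh
      rw [hN₀]
      exact Subgroup.subset_closure ⟨h, hh, rfl⟩
    have hN₀H : N₀ ≤ H := by
      rw [hN₀, Subgroup.closure_le]
      rintro c ⟨h, hh, rfl⟩
      exact H.mul_mem (H.inv_mem hh) (hinv h hh)
    have hN₀inv : ∀ x ∈ N₀, a x ∈ N₀ := by
      have hle : N₀ ≤ N₀.comap a.toMonoidHom := by
        conv_lhs => rw [hN₀]
        rw [Subgroup.closure_le]
        rintro c ⟨h, hh, rfl⟩
        show a (h⁻¹ * a h) ∈ N₀
        rw [map_mul, map_inv]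
        exact hgen (a h) (hinv h hh)
      exact fun x hx => hle hx
    by_cases hcase : N₀ = H
    swap
    · have hfixN := IH N₀ hN₀H hcase hN₀inv
      intro h hh
      obtain ⟨e, he⟩ := hpow _ (hN₀H (hgen h hh))
      exact aut_fix_elem (p := p) a k hk hkp h (hfixN _ (hgen h hh)) e he
    · have hcent : ∀ N : Subgroup G, N ≤ H → N ≠ H → (∀ h ∈ N, a h ∈ N) →
          (∀ x ∈ H, ∀ y ∈ N, x * y * x⁻¹ ∈ N) → ∀ y ∈ N, ∀ x ∈ H, x * y = y * x := by
        intro N hNH hne hNinv hNnorm y hy
        have hfixN := IH N hNH hne hNinv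
        have hle : H ≤ Subgroup.centralizer {y} := by
          rw [← hcase, hN₀, Subgroup.closure_le]
          rintro c ⟨h, hh, rfl⟩
          rw [SetLike.mem_coe, Subgroup.mem_centralizer_iff]
          intro y' hy'
          rw [Set.mem_singleton_iff] at hy'
          rw [hy']
          have h1 : a (h * y * h⁻¹) = h * y * h⁻¹ := hfixN _ (hNnorm h hh y hy)
          rw [map_mul, map_mul, map_inv, hfixN y hy] at h1
          calc y * (h⁻¹ * a h) = h⁻¹ * (h * y * h⁻¹) * a h := by group
            _ = h⁻¹ * (a h * y * (a h)⁻¹) * a h := by rw [h1]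
            _ = h⁻¹ * a h * y := by group
        intro x hx
        have hxc := hle hx
        rw [Subgroup.mem_centralizer_iff] at hxc
        exact (hxc y rfl).symm
      intro h hh
      by_cases hbot : H = ⊥
      · rw [hbot, Subgroup.mem_bot] at hh
        rw [hh, map_one]
      have hDH : ⁅H, H⁆ ≤ H := by
        rw [Subgroup.commutator_le]
        intro x hx y hy
        rw [commutatorElement_def]
        exact H.mul_mem (H.mul_mem (H.mul_mem hx hy) (H.inv_mem hx)) (H.inv_mem hy)
      have hDne : ⁅H, H⁆ ≠ H := by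
        intro heq
        have : Nontrivial ↥H := (Subgroup.nontrivial_iff_ne_bot H).mpr hbot
        have : Group.IsNilpotent ↥H := hH.isNilpotent
        have h1 := Group.IsSolvable.commutator_lt_top_of_nontrivial ↥H
        have h2 := map_subtype_commutator H
        rw [heq] at h2
        have h3 : commutator ↥H = ⊤ := by
          rw [eq_top_iff]
          intro z _
          have hz : (z : G) ∈ (commutator ↥H).map H.subtype := by rw [h2]; exact z.2
          obtain ⟨z', hz', hzz⟩ := hz
          have hzeq : z' = z := Subtype.ext (by simpa using hzz)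
          rw [← hzeq]; exact hz'
        exact h1.ne h3
      have hDinv : ∀ b : MulAut G, (∀ x ∈ H, b x ∈ H) → ∀ x ∈ ⁅H, H⁆, b x ∈ ⁅H, H⁆ := by
        intro b hb
        have hle : ⁅H, H⁆ ≤ (⁅H, H⁆ : Subgroup G).comap b.toMonoidHom := by
          rw [Subgroup.commutator_le]
          intro x hx y hy
          show b ⁅x, y⁆ ∈ ⁅H, H⁆
          rw [map_commutatorElement]
          exact Subgroup.commutator_mem_commutator (hb x hx) (hb y hy)
        exact fun x hx => hle hx
      have hconj : ∀ x ∈ H, ∀ y ∈ H, (MulAut.conj x) y ∈ H := by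
        intro x hx y hy
        rw [MulAut.conj_apply]
        exact H.mul_mem (H.mul_mem hx hy) (H.inv_mem hx)
      have hDc : ∀ y ∈ ⁅H, H⁆, ∀ x ∈ H, x * y = y * x := by
        refine hcent ⁅H, H⁆ hDH hDne (hDinv a hinv) ?_
        intro x hx y hy
        have h1 := hDinv (MulAut.conj x) (hconj x hx) y hy
        rwa [MulAut.conj_apply] at h1
      obtain ⟨E, hEH, hEne, hEmem⟩ := exists_powSub H hH hbot
      have hEinv : ∀ b : MulAut G, (∀ x ∈ H, b x ∈ H) → ∀ x ∈ E, b x ∈ E := by
        intro b hb x hx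
        obtain ⟨hxH, y, hy, hxy⟩ := (hEmem x).mp hx
        refine (hEmem _).mpr ⟨hb x hxH, b y, hb y hy, ?_⟩
        have h1 := hDinv b hb _ hxy
        rwa [map_mul, map_inv, map_pow] at h1
      have hEc : ∀ y ∈ E, ∀ x ∈ H, x * y = y * x := by
        refine hcent E hEH hEne (hEinv a hinv) ?_
        intro x hx y hy
        have h1 := hEinv (MulAut.conj x) (hconj x hx) y hy
        rwa [MulAut.conj_apply] at h1
      have hEfix := IH E hEH hEne (hEinv a hinv)
      have hypE : ∀ y ∈ H, y ^ p ∈ E := by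
        intro y hy
        exact (hEmem _).mpr ⟨H.pow_mem hy p, y, hy, by rw [inv_mul_cancel]; exact one_mem _⟩
      have hpowmul : ∀ x ∈ H, ∀ y ∈ H, (x * y) ^ p = x ^ p * y ^ p := by
        intro x hx y hy
        have he : y⁻¹ * x⁻¹ * y * x ∈ ⁅H, H⁆ := by
          have h1 := Subgroup.commutator_mem_commutator (H.inv_mem hy) (H.inv_mem hx)
          rwa [commutatorElement_def, inv_inv, inv_inv] at h1
        obtain ⟨e, hedef⟩ : ∃ e, e = y⁻¹ * x⁻¹ * y * x := ⟨_, rfl⟩
        rw [← hedef] at he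
        have hea : Commute e x := (hDc e he x hx).symm
        have heb : Commute e y := (hDc e he y hy).symm
        have h1 : x⁻¹ * y * x = y * e := by rw [hedef]; group
        have h2 : (x⁻¹ * y * x) ^ p = y ^ p := by
          have h2' : x⁻¹ * y * x = x⁻¹ * y * x⁻¹⁻¹ := by rw [inv_inv]
          rw [h2', conj_pow, inv_inv]
          have hc := hEc (y ^ p) (hypE y hy) x hx
          rw [mul_assoc, ← hc, inv_mul_cancel_left]
        have h3 : (y * e) ^ p = y ^ p * e ^ p := (heb.symm).mul_pow p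
        have hep : e ^ p = 1 := by
          have h4 : y ^ p * e ^ p = y ^ p * 1 := by rw [mul_one, ← h3, ← h1, h2]
          exact mul_left_cancel h4
        exact Cfsg.Agent.Helper23.mul_pow_prime_of_central hp.out hp2
          (by rw [hedef]; group) hea heb hep
      have hc1 : (h⁻¹ * a h) ^ p = 1 := by
        rw [hpowmul _ (H.inv_mem hh) _ (hinv h hh),
          show (a h) ^ p = a (h ^ p) from (map_pow a h p).symm, hEfix _ (hypE h hh), inv_pow,
          inv_mul_cancel]
      have hc2 : a (h⁻¹ * a h) = h⁻¹ * a h :=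
        hfix _ (H.mul_mem (H.inv_mem hh) (hinv h hh)) hc1
      exact aut_fix_elem (p := p) a k hk hkp h hc2 1 (by rw [pow_one]; exact hc1)

end Cfsg.Agent.Helper14
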