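import Mathlib
import Cfsg.Agent.Helper14.CoprimeAut

/-!
Coprime automorphisms of `2`-groups fixing the elements of order dividing `4`, the combined
`Ω`-statement for all primes, and `p'`-elements versus the hypercentre (helper14).
-/

set_option autoImplicit false

namespace Cfsg.Agent.Helper14

open scoped commutatorElement

variable {G : Type*} [Group G]

/-- **Coprime action on `Ω₂`, `p = 2`** (subgroup form): if `a ^ k = 1` with `k` odd, and `a`
stabilizes the `2`-subgroup `H` and fixes its elements of order dividing `4`, then `a` fixes `H`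
pointwise. -/
theorem aut_fix_of_fix_order_four [Finite G] (a : MulAut G) (k : ℕ) (hk : a ^ k = 1)
    (hkp : Nat.Coprime k 2) :
    ∀ n : ℕ, ∀ H : Subgroup G, Nat.card H = n → IsPGroup 2 H → (∀ h ∈ H, a h ∈ H) →
      (∀ x ∈ H, x ^ 4 = 1 → a x = x) → ∀ h ∈ H, a h = h := by
  intro n
  induction n using Nat.strong_induction_on with
  | _ n ih =>
    intro H hn hH hinv hfix
    have IH : ∀ N : Subgroup G, N ≤ H → N ≠ H → (∀ h ∈ N, a h ∈ N) → ∀ h ∈ N, a h = h := by
      intro N hNH hne hNinv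
      have hlt : Nat.card N < n := by
        rw [← hn]
        by_contra hcon
        exact hne (Subgroup.eq_of_le_of_card_ge hNH (not_lt.mp hcon))
      exact ih _ hlt N rfl (hH.to_le hNH) hNinv (fun x hx => hfix x (hNH hx))
    have hpow : ∀ x ∈ H, ∃ e : ℕ, x ^ 2 ^ e = 1 := by
      intro x hx
      obtain ⟨e, he⟩ := hH ⟨x, hx⟩
      exact ⟨e, by simpa using congrArg Subtype.val he⟩
    obtain ⟨N₀, hN₀⟩ : ∃ N₀ : Subgroup G,
        N₀ = Subgroup.closure {c | ∃ h ∈ H, c = h⁻¹ * a h} := ⟨_, rfl⟩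
    have hgen : ∀ h ∈ H, h⁻¹ * a h ∈ N₀ := by
      intro h hh
      rw [hN₀]
      exact Subgroup.subset_closure ⟨h, hh, rfl⟩
    have hN₀H : N₀ ≤ H := by
      rw [hN₀, Subgroup.closure_le]
      rintro c ⟨h, hh, rfl⟩
      exact H.mul_mem (H.inv_mem hh) (hinv h hh)
    have hN₀inv : ∀ x ∈ N₀, a x ∈ N₀ := by
      have hle : N₀ ≤ N₀.comap a.toMonoidHom := by
        conv_lhs => rw [hN₀]
        rw [Subgroup.closure_le]
        rintro c ⟨h, hh, rfl⟩
        show a (h⁻¹ * a h) ∈ N₀
        rw [map_mul, map_inv]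
        exact hgen (a h) (hinv h hh)
      exact fun x hx => hle hx
    by_cases hcase : N₀ = H
    swap
    · have hfixN := IH N₀ hN₀H hcase hN₀inv
      intro h hh
      obtain ⟨e, he⟩ := hpow _ (hN₀H (hgen h hh))
      exact aut_fix_elem (p := 2) a k hk hkp h (hfixN _ (hgen h hh)) e he
    · have hcent : ∀ N : Subgroup G, N ≤ H → N ≠ H → (∀ h ∈ N, a h ∈ N) →
          (∀ x ∈ H, ∀ y ∈ N, x * y * x⁻¹ ∈ N) → ∀ y ∈ N, ∀ x ∈ H, x * y = y * x := by
        intro N hNH hne hNinv hNnorm y hy
        have hfixN := IH N hNH hne hNinv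
        have hle : H ≤ Subgroup.centralizer {y} := by
          rw [← hcase, hN₀, Subgroup.closure_le]
          rintro c ⟨h, hh, rfl⟩
          rw [SetLike.mem_coe, Subgroup.mem_centralizer_iff]
          intro y' hy'
          rw [Set.mem_singleton_iff] at hy'
          rw [hy']
          have h1 : a (h * y * h⁻¹) = h * y * h⁻¹ := hfixN _ (hNnorm h hh y hy)
          rw [map_mul, map_mul, map_inv, hfixN y hy] at h1
          calc y * (h⁻¹ * a h) = h⁻¹ * (h * y * h⁻¹) * a h := by group
            _ = h⁻¹ * (a h * y * (a h)⁻¹) * a h := by rw [h1]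
            _ = h⁻¹ * a h * y := by group
        intro x hx
        have hxc := hle hx
        rw [Subgroup.mem_centralizer_iff] at hxc
        exact (hxc y rfl).symm
      intro h hh
      by_cases hbot : H = ⊥
      · rw [hbot, Subgroup.mem_bot] at hh
        rw [hh, map_one]
      have hDH : ⁅H, H⁆ ≤ H := by
        rw [Subgroup.commutator_le]
        intro x hx y hy
        rw [commutatorElement_def]
        exact H.mul_mem (H.mul_mem (H.mul_mem hx hy) (H.inv_mem hx)) (H.inv_mem hy)
      have hDne : ⁅H, H⁆ ≠ H := by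
        intro heq
        have : Nontrivial ↥H := (Subgroup.nontrivial_iff_ne_bot H).mpr hbot
        have : Group.IsNilpotent ↥H := hH.isNilpotent
        have h1 := Group.IsSolvable.commutator_lt_top_of_nontrivial ↥H
        have h2 := map_subtype_commutator H
        rw [heq] at h2
        have h3 : commutator ↥H = ⊤ := by
          rw [eq_top_iff]
          intro z _
          have hz : (z : G) ∈ (commutator ↥H).map H.subtype := by rw [h2]; exact z.2
          obtain ⟨z', hz', hzz⟩ := hz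
          have hzeq : z' = z := Subtype.ext (by simpa using hzz)
          rw [← hzeq]; exact hz'
        exact h1.ne h3
      have hDinv : ∀ b : MulAut G, (∀ x ∈ H, b x ∈ H) → ∀ x ∈ ⁅H, H⁆, b x ∈ ⁅H, H⁆ := by
        intro b hb
        have hle : ⁅H, H⁆ ≤ (⁅H, H⁆ : Subgroup G).comap b.toMonoidHom := by
          rw [Subgroup.commutator_le]
          intro x hx y hy
          show b ⁅x, y⁆ ∈ ⁅H, H⁆
          rw [map_commutatorElement]
          exact Subgroup.commutator_mem_commutator (hb x hx) (hb y hy)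
        exact fun x hx => hle hx
      have hconj : ∀ x ∈ H, ∀ y ∈ H, (MulAut.conj x) y ∈ H := by
        intro x hx y hy
        rw [MulAut.conj_apply]
        exact H.mul_mem (H.mul_mem hx hy) (H.inv_mem hx)
      have hDc : ∀ y ∈ ⁅H, H⁆, ∀ x ∈ H, x * y = y * x := by
        refine hcent ⁅H, H⁆ hDH hDne (hDinv a hinv) ?_
        intro x hx y hy
        have h1 := hDinv (MulAut.conj x) (hconj x hx) y hy
        rwa [MulAut.conj_apply] at h1
      obtain ⟨E, hEH, hEne, hEmem⟩ := exists_powSub (p := 2) H hH hbot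
      have hEinv : ∀ b : MulAut G, (∀ x ∈ H, b x ∈ H) → ∀ x ∈ E, b x ∈ E := by
        intro b hb x hx
        obtain ⟨hxH, y, hy, hxy⟩ := (hEmem x).mp hx
        refine (hEmem _).mpr ⟨hb x hxH, b y, hb y hy, ?_⟩
        have h1 := hDinv b hb _ hxy
        rwa [map_mul, map_inv, map_pow] at h1
      have hEc : ∀ y ∈ E, ∀ x ∈ H, x * y = y * x := by
        refine hcent E hEH hEne (hEinv a hinv) ?_
        intro x hx y hy
        have h1 := hEinv (MulAut.conj x) (hconj x hx) y hy
        rwa [MulAut.conj_apply] at h1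
      have hEfix := IH E hEH hEne (hEinv a hinv)
      have hypE : ∀ y ∈ H, y ^ 2 ∈ E := by
        intro y hy
        exact (hEmem _).mpr ⟨H.pow_mem hy 2, y, hy, by rw [inv_mul_cancel]; exact one_mem _⟩
      have hpowmul : ∀ x ∈ H, ∀ y ∈ H, (x * y) ^ 4 = x ^ 4 * y ^ 4 := by
        intro x hx y hy
        have he : y⁻¹ * x⁻¹ * y * x ∈ ⁅H, H⁆ := by
          have h1 := Subgroup.commutator_mem_commutator (H.inv_mem hy) (H.inv_mem hx)
          rwa [commutatorElement_def, inv_inv, inv_inv] at h1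
        obtain ⟨e, hedef⟩ : ∃ e, e = y⁻¹ * x⁻¹ * y * x := ⟨_, rfl⟩
        rw [← hedef] at he
        have hea : Commute e x := (hDc e he x hx).symm
        have heb : Commute e y := (hDc e he y hy).symm
        have h1 : x⁻¹ * y * x = y * e := by rw [hedef]; group
        have h2 : (x⁻¹ * y * x) ^ 2 = y ^ 2 := by
          have h2' : x⁻¹ * y * x = x⁻¹ * y * x⁻¹⁻¹ := by rw [inv_inv]
          rw [h2', conj_pow, inv_inv]
          have hc := hEc (y ^ 2) (hypE y hy) x hx
          rw [mul_assoc, ← hc, inv_mul_cancel_left]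
        have h3 : (y * e) ^ 2 = y ^ 2 * e ^ 2 := (heb.symm).mul_pow 2
        have hep : e ^ 2 = 1 := by
          have h4 : y ^ 2 * e ^ 2 = y ^ 2 * 1 := by rw [mul_one, ← h3, ← h1, h2]
          exact mul_left_cancel h4
        have h5 := Cfsg.Agent.Helper23.mul_pow_central (a := x) (b := y) (e := e)
          (by rw [hedef]; group) hea heb 4
        have h6 : ∑ i ∈ Finset.range 4, i = 2 * 3 := by decide
        rw [h6, pow_mul, hep, one_pow, mul_one] at h5
        exact h5
      have hh4 : h ^ 4 ∈ E := by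
        have h1 : h ^ 4 = (h ^ 2) ^ 2 := by rw [← pow_mul]
        rw [h1]
        exact hypE _ (H.pow_mem hh 2)
      have hc1 : (h⁻¹ * a h) ^ 4 = 1 := by
        rw [hpowmul _ (H.inv_mem hh) _ (hinv h hh),
          show (a h) ^ 4 = a (h ^ 4) from (map_pow a h 4).symm, hEfix _ hh4, inv_pow,
          inv_mul_cancel]
      have hc2 : a (h⁻¹ * a h) = h⁻¹ * a h :=
        hfix _ (H.mul_mem (H.inv_mem hh) (hinv h hh)) hc1
      exact aut_fix_elem (p := 2) a k hk hkp h hc2 2 hc1

/-- **Coprime action on `Ω`**: a `p'`-automorphism stabilizing a `p`-subgroup `H` and fixing its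
elements of order dividing `p` (dividing `4` when `p = 2`) fixes `H` pointwise. -/
theorem aut_fix_of_fix_omega [Finite G] {p : ℕ} [hp : Fact p.Prime] (a : MulAut G) (k : ℕ)
    (hk : a ^ k = 1) (hkp : Nat.Coprime k p) (H : Subgroup G) (hH : IsPGroup p H)
    (hinv : ∀ h ∈ H, a h ∈ H)
    (hfix : ∀ x ∈ H, (x ^ p = 1 ∨ (p = 2 ∧ x ^ 4 = 1)) → a x = x) : ∀ h ∈ H, a h = h := by
  by_cases hp2 : p = 2
  · subst hp2
    exact aut_fix_of_fix_order_four a k hk hkp _ H rfl hH hinv
      (fun x hx hx4 => hfix x hx (Or.inr ⟨rfl, hx4⟩))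
  · exact aut_fix_of_fix_order_p hp2 a k hk hkp _ H rfl hH hinv
      (fun x hx hxp => hfix x hx (Or.inl hxp))

/-- If `x` and `g` have coprime exponents and `[x, g]` lies in the `(k+1)`-st term of the upper
central series, then it lies in the `k`-th term. -/
theorem comm_mem_ucs_pred (x g : G) (r m : ℕ) (hrm : Nat.Coprime r m) (hx : x ^ r = 1)
    (hg : g ^ m = 1) (k : ℕ)
    (h : x * g * x⁻¹ * g⁻¹ ∈ Subgroup.upperCentralSeries G (k + 1)) :
    x * g * x⁻¹ * g⁻¹ ∈ Subgroup.upperCentralSeries G k := by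
  obtain ⟨π, hπ⟩ : ∃ π : G →* G ⧸ Subgroup.upperCentralSeries G k,
      π = QuotientGroup.mk' (Subgroup.upperCentralSeries G k) := ⟨_, rfl⟩
  have hker : ∀ y : G, π y = 1 ↔ y ∈ Subgroup.upperCentralSeries G k := by
    intro y
    rw [hπ]
    exact QuotientGroup.eq_one_iff y
  have hcent : ∀ y : G, π (x * g * x⁻¹ * g⁻¹) * π y = π y * π (x * g * x⁻¹ * g⁻¹) := by
    intro y
    have h1 := Subgroup.mem_upperCentralSeries_succ_iff.mp h y
    rw [commutatorElement_def] at h1
    have h2 := (hker _).mpr h1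
    rw [map_mul, map_mul, map_mul, map_inv, map_inv] at h2
    calc π (x * g * x⁻¹ * g⁻¹) * π y
        = (π (x * g * x⁻¹ * g⁻¹) * π y * (π (x * g * x⁻¹ * g⁻¹))⁻¹ * (π y)⁻¹) * π y
            * π (x * g * x⁻¹ * g⁻¹) := by group
      _ = π y * π (x * g * x⁻¹ * g⁻¹) := by rw [h2, one_mul]
  obtain ⟨C, hC⟩ : ∃ C, C = π (x * g * x⁻¹ * g⁻¹) := ⟨_, rfl⟩
  rw [← hC] at hcent
  have hCdef : C = π x * π g * (π x)⁻¹ * (π g)⁻¹ := by
    rw [hC, map_mul, map_mul, map_mul, map_inv, map_inv]
  have hXr : (π x) ^ r = 1 := by rw [← map_pow, hx, map_one]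
  have hGm : (π g) ^ m = 1 := by rw [← map_pow, hg, map_one]
  have hCm : C ^ m = 1 := by
    have h1 : C * π g = π x * π g * (π x)⁻¹ := by rw [hCdef]; group
    have h2 : (C * π g) ^ m = C ^ m * (π g) ^ m :=
      (show Commute C (π g) from hcent g).mul_pow m
    rw [hGm, mul_one] at h2
    rw [h1, conj_pow, hGm, mul_one, mul_inv_cancel] at h2
    exact h2.symm
  have hCr : C ^ r = 1 := by
    have h1 : (π x)⁻¹ * C = π g * (π x)⁻¹ * (π g)⁻¹ := by rw [hCdef]; group
    have hcx : Commute ((π x)⁻¹) C := (show Commute (π x) C from (hcent x).symm).inv_left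
    have h2 : ((π x)⁻¹ * C) ^ r = ((π x)⁻¹) ^ r * C ^ r := hcx.mul_pow r
    rw [inv_pow, hXr, inv_one, one_mul] at h2
    rw [h1, conj_pow, inv_pow, hXr, inv_one, mul_one, mul_inv_cancel] at h2
    exact h2.symm
  have hC1 : C = 1 := by
    have h1 := pow_gcd_eq_one.mpr ⟨hCr, hCm⟩
    rwa [hrm.gcd_eq_one, pow_one] at h1
  rw [hC] at hC1
  exact (hker _).mp hC1

/-- Elements of coprime exponents commute when one of them is hypercentral. -/
theorem commute_of_mem_ucs (n : ℕ) (x g : G) (r m : ℕ) (hrm : Nat.Coprime r m)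
    (hx : x ^ r = 1) (hg : g ^ m = 1) (hxn : x ∈ Subgroup.upperCentralSeries G n) :
    g * x = x * g := by
  have h0 : ∀ k, k ≤ n → x * g * x⁻¹ * g⁻¹ ∈ Subgroup.upperCentralSeries G (n - k) := by
    intro k
    induction k with
    | zero =>
      intro _
      have hn : (Subgroup.upperCentralSeries G n).Normal := inferInstance
      have h1 := hn.conj_mem _ ((Subgroup.upperCentralSeries G n).inv_mem hxn) g
      have h2 := (Subgroup.upperCentralSeries G n).mul_mem hxn h1
      rw [Nat.sub_zero]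
      have h3 : x * g * x⁻¹ * g⁻¹ = x * (g * x⁻¹ * g⁻¹) := by group
      rw [h3]; exact h2
    | succ k ih =>
      intro hk
      have h1 := ih (by omega)
      have h2 : n - k = (n - (k + 1)) + 1 := by omega
      rw [h2] at h1
      exact comm_mem_ucs_pred x g r m hrm hx hg _ h1
  have h1 := h0 n le_rfl
  rw [Nat.sub_self, Subgroup.upperCentralSeries_zero, Subgroup.mem_bot] at h1
  calc g * x = (x * g * x⁻¹ * g⁻¹)⁻¹ * (x * g) := by group
    _ = x * g := by rw [h1, inv_one, one_mul]

end Cfsg.Agent.Helper14
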