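import Mathlib
import Cfsg.Agent.Helper19.Nilpotent
import Cfsg.Agent.Helper14.PElem

/-!
Helper library (helper14): the "frame lemma" for an elementary abelian 2-group acting
faithfully on a nilpotent group of odd order.
-/

set_option autoImplicit false

namespace Cfsg.Agent.Helper14.Frame

/-- Common eigen-elements: an elementary abelian 2-group `I` acting on an abelian group `A`
without involutions. Starting from `l₀`, we find `l ≠ 1` which every `s ∈ T` fixes or inverts,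
and which keeps the eigen-relations of `l₀`. -/
theorem eigen {G : Type*} [Group G] (A I : Subgroup G)
    (hAc : ∀ x ∈ A, ∀ y ∈ A, x * y = y * x) (hA2 : ∀ x ∈ A, x * x = 1 → x = 1)
    (hIc : ∀ s ∈ I, ∀ t ∈ I, s * t = t * s) (hI2 : ∀ s ∈ I, s * s = 1)
    (hIA : ∀ s ∈ I, ∀ x ∈ A, s * x * s⁻¹ ∈ A)
    (l₀ : G) (hl₀ : l₀ ∈ A) (hl₀1 : l₀ ≠ 1) (T : Finset G) (hT : ∀ s ∈ T, s ∈ I) :
    ∃ l ∈ A, l ≠ 1 ∧ (∀ s ∈ T, s * l * s⁻¹ = l ∨ s * l * s⁻¹ = l⁻¹) ∧
      (∀ u ∈ I, u * l₀ * u⁻¹ = l₀ → u * l * u⁻¹ = l) ∧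
      (∀ u ∈ I, u * l₀ * u⁻¹ = l₀⁻¹ → u * l * u⁻¹ = l⁻¹) := by
  classical
  induction T using Finset.induction_on with
  | empty =>
    exact ⟨l₀, hl₀, hl₀1, fun s hs => absurd hs (Finset.notMem_empty s), fun u _ h => h,
      fun u _ h => h⟩
  | insert s T hs ih =>
    obtain ⟨l, hl, hl1, hTl, hfix, hinv⟩ :=
      ih (fun s' hs' => hT s' (Finset.mem_insert_of_mem hs'))
    have hsI : s ∈ I := hT s (Finset.mem_insert_self s T)
    have hsl : s * l * s⁻¹ ∈ A := hIA s hsI l hl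
    have hss : ∀ x : G, s * (s * x * s⁻¹) * s⁻¹ = x := by
      intro x
      have h2 := hI2 s hsI
      calc s * (s * x * s⁻¹) * s⁻¹ = (s * s) * x * (s * s)⁻¹ := by group
        _ = x := by rw [h2]; group
    have hus : ∀ u ∈ I, ∀ x : G, u * (s * x * s⁻¹) * u⁻¹ = s * (u * x * u⁻¹) * s⁻¹ := by
      intro u hu x
      have h := hIc u hu s hsI
      calc u * (s * x * s⁻¹) * u⁻¹ = (u * s) * x * (u * s)⁻¹ := by group
        _ = (s * u) * x * (s * u)⁻¹ := by rw [h]
        _ = s * (u * x * u⁻¹) * s⁻¹ := by group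
    have hPfix : ∀ u ∈ I, u * l * u⁻¹ = l →
        u * (l * (s * l * s⁻¹)) * u⁻¹ = l * (s * l * s⁻¹) := by
      intro u hu h
      calc u * (l * (s * l * s⁻¹)) * u⁻¹ = (u * l * u⁻¹) * (u * (s * l * s⁻¹) * u⁻¹) := by group
        _ = l * (s * l * s⁻¹) := by rw [hus u hu, h]
    have hPinv : ∀ u ∈ I, u * l * u⁻¹ = l⁻¹ →
        u * (l * (s * l * s⁻¹)) * u⁻¹ = (l * (s * l * s⁻¹))⁻¹ := by
      intro u hu h
      calc u * (l * (s * l * s⁻¹)) * u⁻¹ = (u * l * u⁻¹) * (u * (s * l * s⁻¹) * u⁻¹) := by group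
        _ = l⁻¹ * (s * l⁻¹ * s⁻¹) := by rw [hus u hu, h]
        _ = l⁻¹ * (s * l * s⁻¹)⁻¹ := by group
        _ = (s * l * s⁻¹)⁻¹ * l⁻¹ := hAc _ (A.inv_mem hl) _ (A.inv_mem hsl)
        _ = (l * (s * l * s⁻¹))⁻¹ := by group
    have hMfix : ∀ u ∈ I, u * l * u⁻¹ = l →
        u * (l⁻¹ * (s * l * s⁻¹)) * u⁻¹ = l⁻¹ * (s * l * s⁻¹) := by
      intro u hu h
      calc u * (l⁻¹ * (s * l * s⁻¹)) * u⁻¹
          = (u * l * u⁻¹)⁻¹ * (u * (s * l * s⁻¹) * u⁻¹) := by group
        _ = l⁻¹ * (s * l * s⁻¹) := by rw [hus u hu, h]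
    have hMinv : ∀ u ∈ I, u * l * u⁻¹ = l⁻¹ →
        u * (l⁻¹ * (s * l * s⁻¹)) * u⁻¹ = (l⁻¹ * (s * l * s⁻¹))⁻¹ := by
      intro u hu h
      calc u * (l⁻¹ * (s * l * s⁻¹)) * u⁻¹
          = (u * l * u⁻¹)⁻¹ * (u * (s * l * s⁻¹) * u⁻¹) := by group
        _ = l⁻¹⁻¹ * (s * l⁻¹ * s⁻¹) := by rw [hus u hu, h]
        _ = l * (s * l * s⁻¹)⁻¹ := by group
        _ = (s * l * s⁻¹)⁻¹ * l := hAc _ hl _ (A.inv_mem hsl)
        _ = (l⁻¹ * (s * l * s⁻¹))⁻¹ := by group
    by_cases hp : l * (s * l * s⁻¹) = 1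
    · refine ⟨l⁻¹ * (s * l * s⁻¹), A.mul_mem (A.inv_mem hl) hsl, ?_, ?_, ?_, ?_⟩
      · intro hm
        apply hl1
        apply hA2 l hl
        have e : l * l = (l * (s * l * s⁻¹)) * (l⁻¹ * (s * l * s⁻¹))⁻¹ := by group
        rw [e, hp, hm]
        group
      · intro s' hs'
        rcases Finset.mem_insert.mp hs' with rfl | hs'T
        · right
          calc s' * (l⁻¹ * (s' * l * s'⁻¹)) * s'⁻¹
              = (s' * l * s'⁻¹)⁻¹ * (s' * (s' * l * s'⁻¹) * s'⁻¹) := by group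
            _ = (s' * l * s'⁻¹)⁻¹ * l := by rw [hss]
            _ = (l⁻¹ * (s' * l * s'⁻¹))⁻¹ := by group
        · have hs'I := hT s' hs'
          rcases hTl s' hs'T with h | h
          · left; exact hMfix s' hs'I h
          · right; exact hMinv s' hs'I h
      · intro u hu h
        exact hMfix u hu (hfix u hu h)
      · intro u hu h
        exact hMinv u hu (hinv u hu h)
    · refine ⟨l * (s * l * s⁻¹), A.mul_mem hl hsl, hp, ?_, ?_, ?_⟩
      · intro s' hs'
        rcases Finset.mem_insert.mp hs' with rfl | hs'T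
        · left
          calc s' * (l * (s' * l * s'⁻¹)) * s'⁻¹
              = (s' * l * s'⁻¹) * (s' * (s' * l * s'⁻¹) * s'⁻¹) := by group
            _ = (s' * l * s'⁻¹) * l := by rw [hss]
            _ = l * (s' * l * s'⁻¹) := hAc _ hsl _ hl
        · have hs'I := hT s' hs'
          rcases hTl s' hs'T with h | h
          · left; exact hPfix s' hs'I h
          · right; exact hPinv s' hs'I h
      · intro u hu h
        exact hPfix u hu (hfix u hu h)
      · intro u hu h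
        exact hPinv u hu (hinv u hu h)

/-- Transfer of centralisation: if the involution `s` normalises `X` (without involutions) and
centralises a subgroup `Y ≤ X` normalised by `X` with `C_X(Y) ≤ Y`, then `s` centralises `X`. -/
theorem central_transfer {G : Type*} [Group G] (X Y : Subgroup G)
    (hX2 : ∀ c ∈ X, c * c = 1 → c = 1)
    (hXY : ∀ x ∈ X, ∀ y ∈ Y, x * y * x⁻¹ ∈ Y)
    (hC : ∀ c ∈ X, (∀ y ∈ Y, c * y = y * c) → c ∈ Y)
    (s : G) (hs2 : s * s = 1) (hsX : ∀ x ∈ X, s * x * s⁻¹ ∈ X)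
    (hsY : ∀ y ∈ Y, s * y = y * s) : ∀ x ∈ X, s * x = x * s := by
  intro x hx
  obtain ⟨c, hc⟩ : ∃ c, c = s * x * s⁻¹ * x⁻¹ := ⟨_, rfl⟩
  have hcX : c ∈ X := by rw [hc]; exact X.mul_mem (hsX x hx) (X.inv_mem hx)
  have hcY : ∀ y ∈ Y, c * y = y * c := by
    intro y hy
    have hy' : x⁻¹ * y * x ∈ Y := by
      have := hXY x⁻¹ (X.inv_mem hx) y hy
      rwa [inv_inv] at this
    have h1 := hsY _ hy'
    have h2 : s⁻¹ * (x⁻¹ * y * x) = (x⁻¹ * y * x) * s⁻¹ := by
      calc s⁻¹ * (x⁻¹ * y * x) = s⁻¹ * ((x⁻¹ * y * x) * s) * s⁻¹ := by group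
        _ = s⁻¹ * (s * (x⁻¹ * y * x)) * s⁻¹ := by rw [h1]
        _ = (x⁻¹ * y * x) * s⁻¹ := by group
    have h3 := hsY y hy
    calc c * y = s * x * (s⁻¹ * (x⁻¹ * y * x)) * x⁻¹ := by rw [hc]; group
      _ = s * x * ((x⁻¹ * y * x) * s⁻¹) * x⁻¹ := by rw [h2]
      _ = (s * y) * x * s⁻¹ * x⁻¹ := by group
      _ = (y * s) * x * s⁻¹ * x⁻¹ := by rw [h3]
      _ = y * c := by rw [hc]; group
  have hcmem : c ∈ Y := hC c hcX hcY
  have hsc : s * c = c * s := hsY c hcmem
  have e1 : s * x * s⁻¹ = c * x := by rw [hc]; group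
  have hcc : c * c = 1 := by
    have e2 : s * (s * x * s⁻¹) * s⁻¹ = x := by
      calc s * (s * x * s⁻¹) * s⁻¹ = (s * s) * x * (s * s)⁻¹ := by group
        _ = x := by rw [hs2]; group
    rw [e1] at e2
    have e3 : s * (c * x) * s⁻¹ = c * (c * x) := by
      calc s * (c * x) * s⁻¹ = (s * c) * x * s⁻¹ := by group
        _ = (c * s) * x * s⁻¹ := by rw [hsc]
        _ = c * (s * x * s⁻¹) := by group
        _ = c * (c * x) := by rw [e1]
    rw [e3] at e2
    have e4 : c * c * x = 1 * x := by rw [one_mul, mul_assoc]; exact e2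
    exact mul_right_cancel e4
  have hc1 := hX2 c hcX hcc
  rw [hc1, one_mul] at e1
  calc s * x = (s * x * s⁻¹) * s := by group
    _ = x * s := by rw [e1]

/-- no involutions in a subgroup of odd order -/
theorem no_invol {G : Type*} [Group G] (A : Subgroup G) (hAodd : Odd (Nat.card A)) :
    ∀ x ∈ A, x * x = 1 → x = 1 := by
  intro x hx hxx
  have h1 : orderOf (⟨x, hx⟩ : ↥A) ∣ Nat.card A := orderOf_dvd_natCard _
  rw [Subgroup.orderOf_mk] at h1
  have h2 : orderOf x ∣ 2 := orderOf_dvd_of_pow_eq_one (by rw [pow_two]; exact hxx)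
  have h3 : orderOf x = 1 := by
    rcases (Nat.dvd_prime Nat.prime_two).mp h2 with h | h
    · exact h
    · exfalso
      rw [h] at h1
      exact (Nat.not_even_iff_odd.mpr hAodd) (even_iff_two_dvd.mpr h1)
  exact orderOf_eq_one_iff.mp h3

/-- The frame lemma, abelian case. -/
theorem frame_abelian {G : Type*} [Group G] [Finite G] (A I : Subgroup G)
    (hAc : ∀ x ∈ A, ∀ y ∈ A, x * y = y * x) (hAodd : Odd (Nat.card A))
    (hIc : ∀ s ∈ I, ∀ t ∈ I, s * t = t * s) (hI2 : ∀ s ∈ I, s * s = 1)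
    (hIA : ∀ s ∈ I, ∀ x ∈ A, s * x * s⁻¹ ∈ A) :
    ∀ (m : ℕ) (J : Subgroup G), J ≤ I → (∀ s ∈ J, (∀ x ∈ A, s * x = x * s) → s = 1) →
      Nat.card J = 2 ^ m →
      ∃ a d : Fin m → G, (∀ i, a i ∈ J ∧ d i ∈ A ∧ (orderOf (d i)).Prime) ∧
        (∀ i, ∀ s ∈ I, s * d i * s⁻¹ = d i ∨ s * d i * s⁻¹ = (d i)⁻¹) ∧
        (∀ i, a i * d i * (a i)⁻¹ = (d i)⁻¹) ∧
        (∀ i j, i ≠ j → a i * d j * (a i)⁻¹ = d j) ∧
        Subgroup.closure (Set.range a) = J ∧
        (∀ x ∈ J, (∀ i, x * d i * x⁻¹ = d i) → x = 1) := by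
  classical
  have hA2 := no_invol A hAodd
  intro m
  induction m with
  | zero =>
    intro J hJI hJf hJc
    have hJbot : J = ⊥ := by
      rw [pow_zero] at hJc
      exact Subgroup.eq_bot_of_card_eq J hJc
    refine ⟨Fin.elim0, Fin.elim0, fun i => i.elim0, fun i => i.elim0, fun i => i.elim0,
      fun i => i.elim0, ?_, ?_⟩
    · rw [hJbot]
      have : Set.range (Fin.elim0 : Fin 0 → G) = ∅ := Set.range_eq_empty _
      rw [this, Subgroup.closure_empty]
    · intro x hx _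
      rw [hJbot] at hx
      exact Subgroup.mem_bot.mp hx
  | succ m ih =>
    intro J hJI hJf hJc
    have hJne : J ≠ ⊥ := by
      intro h
      rw [h, Subgroup.card_bot] at hJc
      have : 2 ≤ 2 ^ (m + 1) := by
        calc 2 = 2 ^ 1 := by norm_num
          _ ≤ 2 ^ (m + 1) := Nat.pow_le_pow_right (by norm_num) (by omega)
      omega
    obtain ⟨⟨t, htJ⟩, ht1'⟩ := (Subgroup.ne_bot_iff_exists_ne_one).mp hJne
    have ht1 : t ≠ 1 := fun h => ht1' (Subtype.ext h)
    have htI : t ∈ I := hJI htJ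
    have hex : ∃ x ∈ A, t * x ≠ x * t := by
      by_contra hcon
      push_neg at hcon
      exact ht1 (hJf t htJ hcon)
    obtain ⟨x, hxA, hxt⟩ := hex
    have htx : t * x * t⁻¹ ∈ A := hIA t htI x hxA
    obtain ⟨l₀, hl₀def⟩ : ∃ l₀, l₀ = x⁻¹ * (t * x * t⁻¹) := ⟨_, rfl⟩
    have hl₀A : l₀ ∈ A := by rw [hl₀def]; exact A.mul_mem (A.inv_mem hxA) htx
    have hl₀1 : l₀ ≠ 1 := by
      intro h
      rw [hl₀def] at h
      have h2 : t * x * t⁻¹ = x := by
        calc t * x * t⁻¹ = x * (x⁻¹ * (t * x * t⁻¹)) := by group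
          _ = x := by rw [h, mul_one]
      apply hxt
      calc t * x = (t * x * t⁻¹) * t := by group
        _ = x * t := by rw [h2]
    have htt : ∀ y : G, t * (t * y * t⁻¹) * t⁻¹ = y := by
      intro y
      have h2 := hI2 t htI
      calc t * (t * y * t⁻¹) * t⁻¹ = (t * t) * y * (t * t)⁻¹ := by group
        _ = y := by rw [h2]; group
    have hl₀inv : t * l₀ * t⁻¹ = l₀⁻¹ := by
      rw [hl₀def]
      calc t * (x⁻¹ * (t * x * t⁻¹)) * t⁻¹
          = (t * x * t⁻¹)⁻¹ * (t * (t * x * t⁻¹) * t⁻¹) := by group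
        _ = (t * x * t⁻¹)⁻¹ * x := by rw [htt]
        _ = (x⁻¹ * (t * x * t⁻¹))⁻¹ := by group
    obtain ⟨l, hlA, hl1, hlT, -, hlinv⟩ := eigen A I hAc hA2 hIc hI2 hIA l₀ hl₀A hl₀1
      (Set.toFinite (I : Set G)).toFinset (fun s hs => by simpa using hs)
    have hleig : ∀ s ∈ I, s * l * s⁻¹ = l ∨ s * l * s⁻¹ = l⁻¹ :=
      fun s hs => hlT s (by simpa using hs)
    have htl : t * l * t⁻¹ = l⁻¹ := hlinv t htI hl₀inv
    have hord1 : orderOf l ≠ 1 := fun h => hl1 (orderOf_eq_one_iff.mp h)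
    obtain ⟨q, hq, hqdvd⟩ := Nat.exists_prime_and_dvd hord1
    have hord0 : orderOf l ≠ 0 := (orderOf_pos l).ne'
    obtain ⟨d, hddef⟩ : ∃ d, d = l ^ (orderOf l / q) := ⟨_, rfl⟩
    have hdord : orderOf d = q := by rw [hddef]; exact orderOf_pow_orderOf_div hord0 hqdvd
    have hdA : d ∈ A := by rw [hddef]; exact A.pow_mem hlA _
    have hd1 : d ≠ 1 := by
      intro h
      rw [h, orderOf_one] at hdord
      exact hq.one_lt.ne hdord
    have hconj : ∀ s : G, s * d * s⁻¹ = (s * l * s⁻¹) ^ (orderOf l / q) := by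
      intro s
      rw [hddef, conj_pow]
    have hdeig : ∀ s ∈ I, s * d * s⁻¹ = d ∨ s * d * s⁻¹ = d⁻¹ := by
      intro s hs
      rcases hleig s hs with h | h
      · left; rw [hconj, h, hddef]
      · right; rw [hconj, h, hddef, inv_pow]
    have htd : t * d * t⁻¹ = d⁻¹ := by
      rw [hconj, htl, hddef, inv_pow]
    have hdd : d⁻¹ ≠ d := by
      intro h
      apply hd1
      apply hA2 d hdA
      have : d * d = d⁻¹ * d := by rw [h]
      rw [this, inv_mul_cancel]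
    obtain ⟨J₀, hJ₀⟩ : ∃ J₀ : Subgroup G, ∀ y, y ∈ J₀ ↔ y ∈ J ∧ y * d * y⁻¹ = d :=
      ⟨J ⊓ Subgroup.centralizer {d}, fun y => by
        rw [Subgroup.mem_inf, Subgroup.mem_centralizer_singleton_iff, mul_inv_eq_iff_eq_mul]⟩
    have hJ₀J : J₀ ≤ J := fun y hy => ((hJ₀ y).mp hy).1
    have htJ₀ : t ∉ J₀ := fun h => hdd ((htd.symm).trans ((hJ₀ t).mp h).2)
    have hsplit : ∀ y ∈ J, y ∈ J₀ ∨ y * t ∈ J₀ := by
      intro y hy
      rcases hdeig y (hJI hy) with h | h
      · left; exact (hJ₀ y).mpr ⟨hy, h⟩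
      · right
        refine (hJ₀ _).mpr ⟨J.mul_mem hy htJ, ?_⟩
        calc y * t * d * (y * t)⁻¹ = y * (t * d * t⁻¹) * y⁻¹ := by group
          _ = y * d⁻¹ * y⁻¹ := by rw [htd]
          _ = (y * d * y⁻¹)⁻¹ := by group
          _ = d := by rw [h, inv_inv]
    have hrel : J₀.relIndex J = 2 := by
      rw [Subgroup.relIndex_eq_two_iff]
      refine ⟨t, htJ, fun b hb => ?_⟩
      rcases hsplit b hb with h | h
      · right
        refine ⟨h, fun h' => ?_⟩
        apply htJ₀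
        have := J₀.mul_mem (J₀.inv_mem h) h'
        simpa using this
      · left
        refine ⟨h, fun h' => ?_⟩
        apply htJ₀
        have := J₀.mul_mem (J₀.inv_mem h') h
        simpa using this
    have hJ₀c : Nat.card J₀ = 2 ^ m := by
      have h := Subgroup.relIndex_mul_relIndex (⊥ : Subgroup G) J₀ J bot_le hJ₀J
      rw [Subgroup.relIndex_bot_left, Subgroup.relIndex_bot_left, hrel, hJc, pow_succ] at h
      exact Nat.eq_of_mul_eq_mul_right (by norm_num) h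
    obtain ⟨a', d', h1, h2, h3, h4, h5, h6⟩ :=
      ih J₀ (hJ₀J.trans hJI) (fun s hs h => hJf s (hJ₀J hs) h) hJ₀c
    have hcex : ∀ S : Finset (Fin m), ∃ c ∈ J₀, ∀ k,
        (k ∈ S → c * d' k * c⁻¹ = (d' k)⁻¹) ∧ (k ∉ S → c * d' k * c⁻¹ = d' k) := by
      intro S
      induction S using Finset.induction_on with
      | empty =>
        exact ⟨1, J₀.one_mem, fun k =>
          ⟨fun h => absurd h (Finset.notMem_empty k), fun _ => by group⟩⟩
      | insert i S hi ihS =>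
        obtain ⟨c, hc, hck⟩ := ihS
        refine ⟨a' i * c, J₀.mul_mem (h1 i).1 hc, fun k => ⟨fun hk => ?_, fun hk => ?_⟩⟩
        · have e : a' i * c * d' k * (a' i * c)⁻¹ = a' i * (c * d' k * c⁻¹) * (a' i)⁻¹ := by
            group
          rw [e]
          rcases Finset.mem_insert.mp hk with rfl | hkS
          · rw [(hck k).2 hi, h3 k]
          · have hki : i ≠ k := fun h => hi (h ▸ hkS)
            rw [(hck k).1 hkS]
            calc a' i * (d' k)⁻¹ * (a' i)⁻¹ = (a' i * d' k * (a' i)⁻¹)⁻¹ := by group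
              _ = (d' k)⁻¹ := by rw [h4 i k hki]
        · have e : a' i * c * d' k * (a' i * c)⁻¹ = a' i * (c * d' k * c⁻¹) * (a' i)⁻¹ := by
            group
          rw [e]
          have hkS : k ∉ S := fun h => hk (Finset.mem_insert_of_mem h)
          have hki : i ≠ k := fun h => hk (h ▸ Finset.mem_insert_self i S)
          rw [(hck k).2 hkS, h4 i k hki]
    obtain ⟨c, hcJ₀, hck⟩ := hcex (Finset.univ.filter (fun k => t * d' k * t⁻¹ = (d' k)⁻¹))
    have hcd : c * d * c⁻¹ = d := ((hJ₀ c).mp hcJ₀).2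
    have ha₀k : ∀ k, (t * c) * d' k * (t * c)⁻¹ = d' k := by
      intro k
      have e : t * c * d' k * (t * c)⁻¹ = t * (c * d' k * c⁻¹) * t⁻¹ := by group
      rw [e]
      by_cases hk : t * d' k * t⁻¹ = (d' k)⁻¹
      · rw [(hck k).1 (by simp [hk])]
        calc t * (d' k)⁻¹ * t⁻¹ = (t * d' k * t⁻¹)⁻¹ := by group
          _ = d' k := by rw [hk, inv_inv]
      · rw [(hck k).2 (by simp [hk])]
        rcases h2 k t htI with h | h
        · exact h
        · exact absurd h hk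
    have ha₀d : (t * c) * d * (t * c)⁻¹ = d⁻¹ := by
      calc t * c * d * (t * c)⁻¹ = t * (c * d * c⁻¹) * t⁻¹ := by group
        _ = d⁻¹ := by rw [hcd, htd]
    refine ⟨Fin.cons (t * c) a', Fin.cons d d', ?_, ?_, ?_, ?_, ?_, ?_⟩
    · intro i
      refine Fin.cases ?_ (fun k => ?_) i
      · simp only [Fin.cons_zero]
        exact ⟨J.mul_mem htJ (hJ₀J hcJ₀), hdA, by rw [hdord]; exact hq⟩
      · simp only [Fin.cons_succ]
        exact ⟨hJ₀J (h1 k).1, (h1 k).2.1, (h1 k).2.2⟩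
    · intro i
      refine Fin.cases ?_ (fun k => ?_) i
      · simp only [Fin.cons_zero]; exact hdeig
      · simp only [Fin.cons_succ]; exact h2 k
    · intro i
      refine Fin.cases ?_ (fun k => ?_) i
      · simp only [Fin.cons_zero]; exact ha₀d
      · simp only [Fin.cons_succ]; exact h3 k
    · intro i j
      refine Fin.cases ?_ (fun k => ?_) i <;> refine Fin.cases ?_ (fun k' => ?_) j
      · intro h; exact absurd rfl h
      · intro _; simp only [Fin.cons_zero, Fin.cons_succ]; exact ha₀k k'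
      · intro _; simp only [Fin.cons_zero, Fin.cons_succ]; exact ((hJ₀ _).mp (h1 k).1).2
      · intro h; simp only [Fin.cons_succ]; exact h4 k k' (fun e => h (by rw [e]))
    · apply le_antisymm
      · rw [Subgroup.closure_le]
        rintro _ ⟨i, rfl⟩
        refine Fin.cases ?_ (fun k => ?_) i
        · simp only [Fin.cons_zero]; exact J.mul_mem htJ (hJ₀J hcJ₀)
        · simp only [Fin.cons_succ]; exact hJ₀J (h1 k).1
      · intro y hy
        have hJ₀le : J₀ ≤ Subgroup.closure (Set.range (Fin.cons (t * c) a' : Fin (m + 1) → G)) := by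
          rw [← h5]
          apply Subgroup.closure_mono
          rintro _ ⟨k, rfl⟩
          exact ⟨k.succ, by simp⟩
        have htc : t * c ∈ Subgroup.closure (Set.range (Fin.cons (t * c) a' : Fin (m + 1) → G)) :=
          Subgroup.subset_closure ⟨0, by simp⟩
        have htmem : t ∈ Subgroup.closure (Set.range (Fin.cons (t * c) a' : Fin (m + 1) → G)) := by
          have := Subgroup.mul_mem _ htc (Subgroup.inv_mem _ (hJ₀le hcJ₀))
          simpa using this
        rcases hsplit y hy with h | h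
        · exact hJ₀le h
        · have := Subgroup.mul_mem _ (hJ₀le h) (Subgroup.inv_mem _ htmem)
          simpa using this
    · intro y hy hyd
      have hy0 : y * d * y⁻¹ = d := by
        have := hyd 0
        simpa using this
      have hyJ₀ : y ∈ J₀ := (hJ₀ y).mpr ⟨hy, hy0⟩
      apply h6 y hyJ₀
      intro k
      have := hyd k.succ
      simpa using this

/-- An invariant self-centralising abelian normal subgroup of a nilpotent normal subgroup `F`
of odd order, when `G = F I` with `I` an elementary abelian 2-group. -/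
theorem exists_abelian_core {G : Type*} [Group G] [Finite G] (F I : Subgroup G) [hFnorm : F.Normal]
    (hFn : Group.IsNilpotent ↥F) (hFodd : Odd (Nat.card F))
    (hIc : ∀ s ∈ I, ∀ t ∈ I, s * t = t * s) (hI2 : ∀ s ∈ I, s * s = 1)
    (hFI : F ⊔ I = ⊤) :
    ∃ A : Subgroup G, A ≤ F ∧ A.Normal ∧ (∀ x ∈ A, ∀ y ∈ A, x * y = y * x) ∧
      (∀ c ∈ F, (∀ y ∈ A, c * y = y * c) → c ∈ A) := by
  classical
  have hne : ({A : Subgroup G | A ≤ F ∧ A.Normal ∧ IsMulCommutative A}).Nonempty :=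
    ⟨⊥, bot_le, inferInstance, ⟨⟨fun a b => Subsingleton.elim _ _⟩⟩⟩
  obtain ⟨A, hA⟩ := (Set.toFinite _).exists_maximal hne
  obtain ⟨⟨hAF, hAn, hAc⟩, hmax⟩ := hA
  have hAcomm : ∀ x ∈ A, ∀ y ∈ A, x * y = y * x := fun x hx y hy => setLike_mul_comm hx hy
  refine ⟨A, hAF, hAn, hAcomm, ?_⟩
  by_contra hnot
  push_neg at hnot
  obtain ⟨c₀, hc₀F, hc₀A, hc₀n⟩ := hnot
  have hc₀C : c₀ ∈ F ⊓ Subgroup.centralizer (A : Set G) :=
    Subgroup.mem_inf.mpr ⟨hc₀F, Subgroup.mem_centralizer_iff.mpr (fun y hy => (hc₀A y hy).symm)⟩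
  have hCn : (F ⊓ Subgroup.centralizer (A : Set G)).Normal := inferInstance
  obtain ⟨Cbar, hCbar⟩ : ∃ Cbar : Subgroup (G ⧸ A),
      Cbar = (F ⊓ Subgroup.centralizer (A : Set G)).map (QuotientGroup.mk' A) := ⟨_, rfl⟩
  obtain ⟨Fbar, hFbar⟩ : ∃ Fbar : Subgroup (G ⧸ A), Fbar = F.map (QuotientGroup.mk' A) := ⟨_, rfl⟩
  obtain ⟨Ibar, hIbar⟩ : ∃ Ibar : Subgroup (G ⧸ A), Ibar = I.map (QuotientGroup.mk' A) := ⟨_, rfl⟩
  haveI hCbarn : Cbar.Normal := by
    rw [hCbar]; exact hCn.map _ (QuotientGroup.mk'_surjective A)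
  haveI hFbarn : Fbar.Normal := by
    rw [hFbar]; exact hFnorm.map _ (QuotientGroup.mk'_surjective A)
  have hCF : Cbar ≤ Fbar := by
    rw [hCbar, hFbar]; exact Subgroup.map_mono inf_le_left
  have hCne : Cbar ≠ ⊥ := by
    intro h
    apply hc₀n
    have h1 : QuotientGroup.mk' A c₀ ∈ Cbar := by rw [hCbar]; exact ⟨c₀, hc₀C, rfl⟩
    rw [h, Subgroup.mem_bot] at h1
    exact (QuotientGroup.eq_one_iff c₀).mp h1
  haveI hFbarnil : Group.IsNilpotent ↥Fbar := by
    rw [hFbar]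
    exact Group.nilpotent_of_surjective ((QuotientGroup.mk' A).subgroupMap F)
      ((QuotientGroup.mk' A).subgroupMap_surjective F)
  have hNne : Cbar.subgroupOf Fbar ≠ ⊥ := by
    intro h
    rw [Subgroup.subgroupOf_eq_bot] at h
    exact hCne (h.eq_bot_of_le hCF)
  have hmeet := Cfsg.Agent.Helper19.inf_center_ne_bot_of_normal (Cbar.subgroupOf Fbar) hNne
  obtain ⟨⟨z, hzmem⟩, hz1⟩ := (Subgroup.ne_bot_iff_exists_ne_one).mp hmeet
  have hzC := (Subgroup.mem_inf.mp hzmem).1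
  have hzcen := (Subgroup.mem_inf.mp hzmem).2
  have hzC' : (z : G ⧸ A) ∈ Cbar := Subgroup.mem_subgroupOf.mp hzC
  have hz1' : (z : G ⧸ A) ≠ 1 := by
    intro h
    apply hz1
    apply Subtype.ext
    apply Subtype.ext
    exact h
  have hzcen' : ∀ g ∈ Fbar, g * (z : G ⧸ A) = (z : G ⧸ A) * g := by
    intro g hg
    have := Subgroup.mem_center_iff.mp hzcen ⟨g, hg⟩
    exact congrArg Subtype.val this
  obtain ⟨Zbar, hZbar⟩ : ∃ Zbar : Subgroup (G ⧸ A),
      Zbar = Cbar ⊓ Subgroup.centralizer (Fbar : Set (G ⧸ A)) := ⟨_, rfl⟩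
  haveI hZn : Zbar.Normal := by rw [hZbar]; infer_instance
  have hzZ : (z : G ⧸ A) ∈ Zbar := by
    rw [hZbar]
    exact Subgroup.mem_inf.mpr ⟨hzC', Subgroup.mem_centralizer_iff.mpr hzcen'⟩
  have hZc : ∀ x ∈ Zbar, ∀ y ∈ Zbar, x * y = y * x := by
    intro x hx y hy
    rw [hZbar] at hx hy
    exact Subgroup.mem_centralizer_iff.mp (Subgroup.mem_inf.mp hy).2 x (hCF (Subgroup.mem_inf.mp hx).1)
  have hFbarodd : Odd (Nat.card Fbar) := by
    rw [hFbar]
    exact Odd.of_dvd_nat hFodd (Subgroup.card_map_dvd _ _)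
  have hZ2 : ∀ x ∈ Zbar, x * x = 1 → x = 1 := by
    intro x hx
    rw [hZbar] at hx
    exact no_invol Fbar hFbarodd x (hCF (Subgroup.mem_inf.mp hx).1)
  have hIbc : ∀ s ∈ Ibar, ∀ t ∈ Ibar, s * t = t * s := by
    rw [hIbar]
    rintro _ ⟨s, hs, rfl⟩ _ ⟨t, ht, rfl⟩
    rw [← map_mul, ← map_mul, hIc s hs t ht]
  have hIb2 : ∀ s ∈ Ibar, s * s = 1 := by
    rw [hIbar]
    rintro _ ⟨s, hs, rfl⟩
    rw [← map_mul, hI2 s hs, map_one]
  obtain ⟨lbar, hlZ, hl1, hlT, -, -⟩ := eigen Zbar Ibar hZc hZ2 hIbc hIb2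
    (fun s _ x hx => hZn.conj_mem x hx s) (z : G ⧸ A) hzZ hz1'
    (Set.toFinite (Ibar : Set (G ⧸ A))).toFinset (fun s hs => by simpa using hs)
  have hleig : ∀ s ∈ Ibar, s * lbar * s⁻¹ = lbar ∨ s * lbar * s⁻¹ = lbar⁻¹ :=
    fun s hs => hlT s (by simpa using hs)
  have hlC : lbar ∈ Cbar := by rw [hZbar] at hlZ; exact (Subgroup.mem_inf.mp hlZ).1
  have hlcen : ∀ g ∈ Fbar, g * lbar * g⁻¹ = lbar := by
    intro g hg
    rw [hZbar] at hlZ
    have := Subgroup.mem_centralizer_iff.mp (Subgroup.mem_inf.mp hlZ).2 g hg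
    rw [mul_inv_eq_iff_eq_mul]
    exact this
  rw [hCbar] at hlC
  obtain ⟨b, hbC, hb⟩ := hlC
  have hbA : b ∉ A := by
    intro h
    apply hl1
    rw [← hb]
    exact (QuotientGroup.eq_one_iff b).mpr h
  have hbcen : ∀ a ∈ A, a * b = b * a :=
    fun a ha => Subgroup.mem_centralizer_iff.mp (Subgroup.mem_inf.mp hbC).2 a ha
  obtain ⟨A', hA'⟩ : ∃ A' : Subgroup G, A' = Subgroup.closure ((A : Set G) ∪ {b}) := ⟨_, rfl⟩
  have hAA' : A ≤ A' := by
    rw [hA']
    intro x hx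
    exact Subgroup.subset_closure (Or.inl hx)
  have hbA' : b ∈ A' := by
    rw [hA']
    exact Subgroup.subset_closure (Or.inr rfl)
  have hA'c : IsMulCommutative A' := by
    rw [hA']
    apply Cfsg.Agent.Helper19.isMulCommutative_closure_of_comm
    intro u hu v hv
    rw [Set.mem_union, Set.mem_singleton_iff, SetLike.mem_coe] at hu hv
    rcases hu with hu | rfl
    · rcases hv with hv | rfl
      · exact hAcomm u hu v hv
      · exact hbcen u hu
    · rcases hv with hv | rfl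
      · exact (hbcen v hv).symm
      · rfl
  have hA'F : A' ≤ F := by
    rw [hA', Subgroup.closure_le]
    rintro u (hu | hu)
    · exact hAF hu
    · rw [Set.mem_singleton_iff] at hu; rw [hu]; exact (Subgroup.mem_inf.mp hbC).1
  have key : ∀ g, (g ∈ F ∨ g ∈ I) → ∀ h ∈ A', g * h * g⁻¹ ∈ A' := by
    intro g hg h hh
    have hle : A' ≤ A'.comap (MulAut.conj g).toMonoidHom := by
      conv_lhs => rw [hA']
      rw [Subgroup.closure_le]
      rintro u (hu | hu)
      · show g * u * g⁻¹ ∈ A'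
        exact hAA' (hAn.conj_mem u hu g)
      · rw [Set.mem_singleton_iff] at hu
        rw [hu]
        show g * b * g⁻¹ ∈ A'
        have hπ : QuotientGroup.mk' A (g * b * g⁻¹) =
            QuotientGroup.mk' A g * lbar * (QuotientGroup.mk' A g)⁻¹ := by
          rw [map_mul, map_mul, map_inv, hb]
        have hfix : QuotientGroup.mk' A g * lbar * (QuotientGroup.mk' A g)⁻¹ = lbar →
            g * b * g⁻¹ ∈ A' := by
          intro h1
          have h2 : QuotientGroup.mk' A (g * b * g⁻¹ * b⁻¹) = 1 := by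
            rw [map_mul, hπ, h1, map_inv, hb, mul_inv_cancel]
          have h3 : g * b * g⁻¹ * b⁻¹ ∈ A := (QuotientGroup.eq_one_iff _).mp h2
          have h4 := A'.mul_mem (hAA' h3) hbA'
          have e : g * b * g⁻¹ * b⁻¹ * b = g * b * g⁻¹ := by group
          rwa [e] at h4
        have hinv : QuotientGroup.mk' A g * lbar * (QuotientGroup.mk' A g)⁻¹ = lbar⁻¹ →
            g * b * g⁻¹ ∈ A' := by
          intro h1
          have h2 : QuotientGroup.mk' A (g * b * g⁻¹ * b) = 1 := by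
            rw [map_mul, hπ, h1, hb, inv_mul_cancel]
          have h3 : g * b * g⁻¹ * b ∈ A := (QuotientGroup.eq_one_iff _).mp h2
          have h4 := A'.mul_mem (hAA' h3) (A'.inv_mem hbA')
          have e : g * b * g⁻¹ * b * b⁻¹ = g * b * g⁻¹ := by group
          rwa [e] at h4
        rcases hg with hg | hg
        · apply hfix
          apply hlcen
          rw [hFbar]
          exact ⟨g, hg, rfl⟩
        · have hgI : QuotientGroup.mk' A g ∈ Ibar := by rw [hIbar]; exact ⟨g, hg, rfl⟩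
          rcases hleig _ hgI with h1 | h1
          · exact hfix h1
          · exact hinv h1
    exact hle hh
  have hnF : F ≤ Subgroup.normalizer (A' : Set G) := by
    intro g hg
    apply Cfsg.Agent.Helper14.mem_normalizer_of_forall A' g (key g (Or.inl hg))
    intro h hh
    have := key g⁻¹ (Or.inl (F.inv_mem hg)) h hh
    rwa [inv_inv] at this
  have hnI : I ≤ Subgroup.normalizer (A' : Set G) := by
    intro g hg
    apply Cfsg.Agent.Helper14.mem_normalizer_of_forall A' g (key g (Or.inr hg))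
    intro h hh
    have := key g⁻¹ (Or.inr (I.inv_mem hg)) h hh
    rwa [inv_inv] at this
  have hA'n : A'.Normal := by
    rw [← Subgroup.normalizer_eq_top_iff, eq_top_iff, ← hFI]
    exact sup_le hnF hnI
  have hle := hmax ⟨hA'F, hA'n, hA'c⟩ hAA'
  exact hbA (hle hbA')

/-- The frame lemma: an elementary abelian 2-group `I` normalising a nilpotent group `F` of odd
order, and `J ≤ I` of order `2 ^ m` acting faithfully on `F`. -/
theorem frame {G : Type*} [Group G] [Finite G] (F I J : Subgroup G)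
    (hFn : Group.IsNilpotent ↥F) (hFodd : Odd (Nat.card F))
    (hIc : ∀ s ∈ I, ∀ t ∈ I, s * t = t * s) (hI2 : ∀ s ∈ I, s * s = 1)
    (hIF : I ≤ Subgroup.normalizer (F : Set G))
    (hJI : J ≤ I) (hJF : ∀ s ∈ J, (∀ x ∈ F, s * x = x * s) → s = 1)
    (m : ℕ) (hJc : Nat.card J = 2 ^ m) :
    ∃ a d : Fin m → G, (∀ i, a i ∈ J ∧ d i ∈ F ∧ (orderOf (d i)).Prime) ∧
        (∀ i, ∀ s ∈ I, s * d i * s⁻¹ = d i ∨ s * d i * s⁻¹ = (d i)⁻¹) ∧
        (∀ i, a i * d i * (a i)⁻¹ = (d i)⁻¹) ∧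
        (∀ i j, i ≠ j → a i * d j * (a i)⁻¹ = d j) ∧
        (∀ i j, d i * d j = d j * d i) ∧
        Subgroup.closure (Set.range a) = J ∧
        (∀ x ∈ J, (∀ i, x * d i * x⁻¹ = d i) → x = 1) := by
  classical
  obtain ⟨H, hH⟩ : ∃ H : Subgroup G, H = F ⊔ I := ⟨_, rfl⟩
  have hFH : F ≤ H := hH ▸ le_sup_left
  have hIH : I ≤ H := hH ▸ le_sup_right
  have hJH : J ≤ H := hJI.trans hIH
  have hHN : H ≤ Subgroup.normalizer (F : Set G) := by
    rw [hH]; exact sup_le Subgroup.le_normalizer hIF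
  haveI hF'n : (F.subgroupOf H).Normal := by
    constructor
    intro x hx g
    rw [Subgroup.mem_subgroupOf] at hx ⊢
    have hg := hHN g.2
    rw [Subgroup.mem_normalizer_iff] at hg
    exact (hg _).mp hx
  haveI : Group.IsNilpotent ↥(F.subgroupOf H) :=
    @Group.nilpotent_of_mulEquiv _ _ _ _ hFn (Subgroup.subgroupOfEquivOfLe hFH).symm
  have hF'odd : Odd (Nat.card (F.subgroupOf H)) := by
    rw [Nat.card_congr (Subgroup.subgroupOfEquivOfLe hFH).toEquiv]; exact hFodd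
  have hI'c : ∀ s ∈ I.subgroupOf H, ∀ t ∈ I.subgroupOf H, s * t = t * s := by
    intro s hs t ht
    exact Subtype.ext (hIc _ (Subgroup.mem_subgroupOf.mp hs) _ (Subgroup.mem_subgroupOf.mp ht))
  have hI'2 : ∀ s ∈ I.subgroupOf H, s * s = 1 :=
    fun s hs => Subtype.ext (hI2 _ (Subgroup.mem_subgroupOf.mp hs))
  have hsup : F.subgroupOf H ⊔ I.subgroupOf H = ⊤ := by
    rw [← Subgroup.subgroupOf_sup hFH hIH, ← hH, Subgroup.subgroupOf_self]
  obtain ⟨A, hAF, hAn, hAc, hAself⟩ := exists_abelian_core (F.subgroupOf H) (I.subgroupOf H)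
    inferInstance hF'odd hI'c hI'2 hsup
  have hAodd : Odd (Nat.card A) := Odd.of_dvd_nat hF'odd (Subgroup.card_dvd_of_le hAF)
  have hIA : ∀ s ∈ I.subgroupOf H, ∀ x ∈ A, s * x * s⁻¹ ∈ A :=
    fun s _ x hx => hAn.conj_mem x hx s
  have hJ'f : ∀ s ∈ J.subgroupOf H, (∀ x ∈ A, s * x = x * s) → s = 1 := by
    intro s hs hsA
    have hsI : s ∈ I.subgroupOf H :=
      Subgroup.mem_subgroupOf.mpr (hJI (Subgroup.mem_subgroupOf.mp hs))
    have hcen := central_transfer (F.subgroupOf H) A (no_invol _ hF'odd)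
      (fun x _ y hy => hAn.conj_mem y hy x) hAself s (hI'2 s hsI)
      (fun x hx => hF'n.conj_mem x hx s) hsA
    have h1 : (s : G) = 1 := by
      apply hJF (s : G) (Subgroup.mem_subgroupOf.mp hs)
      intro x hx
      have := hcen ⟨x, hFH hx⟩ (Subgroup.mem_subgroupOf.mpr hx)
      exact congrArg Subtype.val this
    exact Subtype.ext h1
  have hJ'c : Nat.card (J.subgroupOf H) = 2 ^ m := by
    rw [Nat.card_congr (Subgroup.subgroupOfEquivOfLe hJH).toEquiv]; exact hJc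
  obtain ⟨a', d', h1, h2, h3, h4, h5, h6⟩ := frame_abelian A (I.subgroupOf H) hAc hAodd hI'c hI'2
    hIA m (J.subgroupOf H)
    (fun x hx => Subgroup.mem_subgroupOf.mpr (hJI (Subgroup.mem_subgroupOf.mp hx))) hJ'f hJ'c
  refine ⟨fun i => (a' i : G), fun i => (d' i : G), ?_, ?_, ?_, ?_, ?_, ?_, ?_⟩
  · intro i
    refine ⟨Subgroup.mem_subgroupOf.mp (h1 i).1, Subgroup.mem_subgroupOf.mp (hAF (h1 i).2.1), ?_⟩
    rw [Subgroup.orderOf_coe]
    exact (h1 i).2.2
  · intro i s hs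
    rcases h2 i ⟨s, hIH hs⟩ (Subgroup.mem_subgroupOf.mpr hs) with h | h
    · left; exact congrArg Subtype.val h
    · right; exact congrArg Subtype.val h
  · intro i; exact congrArg Subtype.val (h3 i)
  · intro i j hij; exact congrArg Subtype.val (h4 i j hij)
  · intro i j; exact congrArg Subtype.val (hAc _ (h1 i).2.1 _ (h1 j).2.1)
  · have := congrArg (Subgroup.map H.subtype) h5
    rw [MonoidHom.map_closure, Subgroup.map_subgroupOf_eq_of_le hJH, ← Set.range_comp] at this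
    exact this
  · intro x hx hxd
    have := h6 ⟨x, hJH hx⟩ (Subgroup.mem_subgroupOf.mpr hx) (fun i => Subtype.ext (hxd i))
    exact congrArg Subtype.val this

theorem odd_orderOf_of_mem {G : Type*} [Group G] (A : Subgroup G) (hAodd : Odd (Nat.card A))
    (x : G) (hx : x ∈ A) : Odd (orderOf x) := by
  have h1 : orderOf (⟨x, hx⟩ : ↥A) ∣ Nat.card A := orderOf_dvd_natCard _
  rw [Subgroup.orderOf_mk] at h1
  exact Odd.of_dvd_nat hAodd h1

/-- an element fixing or inverting `d` normalises `⟨d⟩`. -/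
theorem mem_normalizer_zpowers {G : Type*} [Group G] {s d : G}
    (h : s * d * s⁻¹ = d ∨ s * d * s⁻¹ = d⁻¹) :
    s ∈ Subgroup.normalizer ((Subgroup.zpowers d : Subgroup G) : Set G) := by
  have h' : s⁻¹ * d * s = d ∨ s⁻¹ * d * s = d⁻¹ := by
    rcases h with h | h
    · left
      calc s⁻¹ * d * s = s⁻¹ * (s * d * s⁻¹) * s := by rw [h]
        _ = d := by group
    · right
      have e : s * d⁻¹ * s⁻¹ = d := by
        calc s * d⁻¹ * s⁻¹ = (s * d * s⁻¹)⁻¹ := by group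
          _ = d := by rw [h, inv_inv]
      calc s⁻¹ * d * s = s⁻¹ * (s * d⁻¹ * s⁻¹) * s := by rw [e]
        _ = d⁻¹ := by group
  have key : ∀ (u : G), (u * d * u⁻¹ = d ∨ u * d * u⁻¹ = d⁻¹) →
      ∀ x ∈ Subgroup.zpowers d, u * x * u⁻¹ ∈ Subgroup.zpowers d := by
    intro u hu x hx
    obtain ⟨k, rfl⟩ := Subgroup.mem_zpowers_iff.mp hx
    have e : u * d ^ k * u⁻¹ = (u * d * u⁻¹) ^ k := by rw [conj_zpow]
    rw [e]
    rcases hu with hu | hu
    · rw [hu]; exact Subgroup.zpow_mem_zpowers d k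
    · rw [hu]; exact Subgroup.zpow_mem (Subgroup.zpowers d) (Subgroup.inv_mem _ (Subgroup.mem_zpowers d)) k
  apply Cfsg.Agent.Helper14.mem_normalizer_of_forall _ s (key s h)
  intro x hx
  have := key s⁻¹ (by rw [inv_inv]; exact h') x hx
  rwa [inv_inv] at this

/-- The subgroups `⟨d i⟩` of a frame are independent. -/
theorem card_iSup_of_frame {G : Type*} [Group G] [Finite G] {m : ℕ} (a d : Fin m → G)
    (hodd : ∀ i, Odd (orderOf (d i)))
    (h3 : ∀ i, a i * d i * (a i)⁻¹ = (d i)⁻¹)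
    (h4 : ∀ i j, i ≠ j → a i * d j * (a i)⁻¹ = d j)
    (hcomm : ∀ i j, d i * d j = d j * d i) :
    Nat.card ↥(⨆ i, Subgroup.zpowers (d i)) = ∏ i, Nat.card ↥(Subgroup.zpowers (d i)) := by
  classical
  have hc : Pairwise fun i j => ∀ x y : G, x ∈ Subgroup.zpowers (d i) →
      y ∈ Subgroup.zpowers (d j) → Commute x y := by
    intro i j _ x y hx hy
    obtain ⟨k, rfl⟩ := Subgroup.mem_zpowers_iff.mp hx
    obtain ⟨l, rfl⟩ := Subgroup.mem_zpowers_iff.mp hy
    exact Commute.zpow_zpow (hcomm i j) k l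
  have hind : iSupIndep (fun i => Subgroup.zpowers (d i)) := by
    intro i
    rw [Subgroup.disjoint_def]
    intro x hx hx'
    have hinv : a i * x * (a i)⁻¹ = x⁻¹ := by
      obtain ⟨k, rfl⟩ := Subgroup.mem_zpowers_iff.mp hx
      have e : a i * d i ^ k * (a i)⁻¹ = (a i * d i * (a i)⁻¹) ^ k := by rw [conj_zpow]
      rw [e, h3 i, inv_zpow]
    have hle : (⨆ j, ⨆ (_ : j ≠ i), Subgroup.zpowers (d j)) ≤ Subgroup.centralizer {a i} := by
      apply iSup_le
      intro j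
      apply iSup_le
      intro hji
      rw [Subgroup.zpowers_le, Subgroup.mem_centralizer_singleton_iff]
      have := h4 i j (Ne.symm hji)
      rw [mul_inv_eq_iff_eq_mul] at this
      exact this.symm
    have hfix : x * a i = a i * x := Subgroup.mem_centralizer_singleton_iff.mp (hle hx')
    have hxx : x * x = 1 := by
      have e : a i * x * (a i)⁻¹ = x := by rw [← hfix]; group
      rw [e] at hinv
      calc x * x = x * x⁻¹ := by rw [← hinv]
        _ = 1 := mul_inv_cancel x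
    exact no_invol (Subgroup.zpowers (d i)) (by rw [Nat.card_zpowers]; exact hodd i) x hx hxx
  have hinj := Subgroup.injective_noncommPiCoprod_of_iSupIndep (hcomm := hc) hind
  have hrange := Subgroup.noncommPiCoprod_range (hcomm := hc)
  rw [← hrange, ← Nat.card_congr (MonoidHom.ofInjective hinj).toEquiv, Nat.card_pi]

end Cfsg.Agent.Helper14.Frame
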