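import Mathlib
import Cfsg.Agent.Helper14.Subnormal

set_option autoImplicit false

namespace Cfsg.Agent.Helper14

open Cfsg

/-- `O_p(L)` centralizes every `p`-reduced normal subgroup. -/
theorem pCore_le_centralizer_of_isPReducedNormal {L : Type*} [Group L] {p : ℕ} (V : Subgroup L)
    (hV : IsPReducedNormal p V) : pCore p L ≤ Subgroup.centralizer (V : Set L) := by
  obtain ⟨-, -, hCn, hbot⟩ := hV
  haveI := hCn
  intro x hx
  have h1 : (pCore p L).map (QuotientGroup.mk' (Subgroup.centralizer (V : Set L))) ≤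
      pCore p (L ⧸ Subgroup.centralizer (V : Set L)) :=
    le_pCore ((pCore_normal p L).map _ (QuotientGroup.mk'_surjective _))
      ((pCore_isPGroup p L).map _)
  have h2 := h1 (Subgroup.mem_map_of_mem _ hx)
  rw [hbot, Subgroup.mem_bot] at h2
  exact (QuotientGroup.eq_one_iff x).mp h2

theorem pCoreOf_le_centralizer_largestPReducedOf {G : Type*} [Group G] (p : ℕ)
    (M : Subgroup G) :
    pCoreOf p M ≤ Subgroup.centralizer ((largestPReducedOf p M : Subgroup G) : Set G) := by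
  have h1 : largestPReduced p ↥M ≤
      Subgroup.centralizer ((pCore p ↥M : Subgroup ↥M) : Set ↥M) := by
    unfold largestPReduced
    apply sSup_le
    intro V hV
    exact Subgroup.le_centralizer_iff.mp (pCore_le_centralizer_of_isPReducedNormal V hV)
  unfold largestPReducedOf pCoreOf
  rintro _ ⟨x, hx, rfl⟩
  rw [Subgroup.mem_centralizer_iff]
  rintro _ ⟨y, hy, rfl⟩
  have := Subgroup.mem_centralizer_iff.mp (h1 hy) x hx
  exact congrArg Subtype.val this.symm

theorem le_normalizer_largestPReducedOf {G : Type*} [Group G] (p : ℕ) (M : Subgroup G) :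
    M ≤ Subgroup.normalizer ((largestPReducedOf p M : Subgroup G) : Set G) := by
  have hn : (largestPReduced p ↥M).Normal := Subgroup.sSup_normal _ (fun _ hV => hV.1)
  unfold largestPReducedOf
  have key : ∀ m ∈ M, ∀ y ∈ (largestPReduced p ↥M).map M.subtype,
      m * y * m⁻¹ ∈ (largestPReduced p ↥M).map M.subtype := by
    rintro m hm _ ⟨y, hy, rfl⟩
    exact ⟨⟨m, hm⟩ * y * ⟨m, hm⟩⁻¹, hn.conj_mem y hy ⟨m, hm⟩, rfl⟩
  intro m hm
  apply mem_normalizer_of_forall _ m (key m hm)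
  intro y hy
  have := key m⁻¹ (M.inv_mem hm) y hy
  rwa [inv_inv] at this

theorem largestPReduced_pow {L : Type*} [Group L] (p : ℕ) :
    ∀ y ∈ largestPReduced p L, y ^ p = 1 := by
  obtain ⟨S, hS⟩ : ∃ S : Set L,
      S = {x : L | ∃ V : Subgroup L, IsPReducedNormal p V ∧ x ∈ V} := ⟨_, rfl⟩
  have hle : largestPReduced p L ≤ Subgroup.closure S := by
    unfold largestPReduced
    apply sSup_le
    intro V hV x hx
    apply Subgroup.subset_closure
    rw [hS]
    exact ⟨V, hV, hx⟩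
  have hcomm : ∀ x ∈ S, ∀ y ∈ S, x * y = y * x := by
    rw [hS]
    rintro x ⟨V₁, hV₁, hx⟩ y ⟨V₂, hV₂, hy⟩
    obtain ⟨hn₁, ⟨-, hexp₁⟩, -⟩ := hV₁
    have hpg : IsPGroup p V₁ :=
      fun g => ⟨1, by rw [pow_one]; exact Subtype.ext (hexp₁ g g.2)⟩
    have h1 : x ∈ Subgroup.centralizer (V₂ : Set L) :=
      pCore_le_centralizer_of_isPReducedNormal V₂ hV₂ (le_pCore hn₁ hpg hx)
    exact (Subgroup.mem_centralizer_iff.mp h1 y hy).symm
  have hpow : ∀ x ∈ S, x ^ p = 1 := by
    rw [hS]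
    rintro x ⟨V, hV, hx⟩
    obtain ⟨-, ⟨-, hexp⟩, -⟩ := hV
    exact hexp x hx
  intro y hy
  exact closure_pow_eq_one_of_comm S p hcomm hpow y (hle hy)

theorem largestPReducedOf_pow {G : Type*} [Group G] (p : ℕ) (M : Subgroup G) :
    ∀ y ∈ largestPReducedOf p M, y ^ p = 1 := by
  unfold largestPReducedOf
  rintro _ ⟨y, hy, rfl⟩
  have := largestPReduced_pow p y hy
  exact congrArg Subtype.val this

/-- In a `p`-closed `M ∩ C` with `C` normalized by `M`, the `p`-elements lie in `O_p(M)`. -/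
theorem pelement_mem_pCoreOf_of_isPClosed {G : Type*} [Group G] [Finite G] {p : ℕ}
    [Fact p.Prime] (M C : Subgroup G) (hMC : M ≤ Subgroup.normalizer (C : Set G))
    (hcl : IsPClosed p ↥(M ⊓ C)) (x : G) (hxM : x ∈ M) (hxC : x ∈ C) (a : ℕ)
    (hx : x ^ p ^ a = 1) : x ∈ pCoreOf p M := by
  have h1 := (isPClosed_iff (H := ↥(M ⊓ C)) (p := p)).mp hcl
    ⟨x, Subgroup.mem_inf.mpr ⟨hxM, hxC⟩⟩ ⟨a, Subtype.ext hx⟩
  have h2 : x ∈ pCoreOf p (M ⊓ C) := ⟨_, h1, rfl⟩
  have hnorm : M ≤ Subgroup.normalizer ((M ⊓ C : Subgroup G) : Set G) :=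
    fun m hm => mem_normalizer_inf M C m (Subgroup.le_normalizer hm) (hMC hm)
  exact pCoreOf_le_pCoreOf_of_le_normalizer p (M ⊓ C) M inf_le_left hnorm h2

end Cfsg.Agent.Helper14
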