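import Mathlib
import Cfsg.Agent.Helper14.Psl3c

set_option autoImplicit false

namespace Cfsg.Agent.Helper14.Psl3d

open Matrix Polynomial

theorem case_irred {F : Type*} [Field F] [Fintype F] (M : Matrix (Fin 3) (Fin 3) F)
    (hdet : M.det = 1) (hirr : Irreducible M.charpoly) :
    ∃ c : F, M ^ ((Fintype.card F ^ 2 + Fintype.card F + 1) / Nat.gcd 3 (Fintype.card F - 1)) =
      c • (1 : Matrix (Fin 3) (Fin 3) F) := by
  classical
  obtain ⟨χ, hχ⟩ : ∃ χ : Polynomial F, χ = M.charpoly := ⟨_, rfl⟩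
  rw [← hχ] at hirr
  haveI : Fact (Irreducible χ) := ⟨hirr⟩
  have hmon : χ.Monic := by rw [hχ]; exact Matrix.charpoly_monic M
  have hdeg : χ.natDegree = 3 := by
    rw [hχ, Matrix.charpoly_natDegree_eq_dim, Fintype.card_fin]
  have hχ0 : χ ≠ 0 := hmon.ne_zero
  obtain ⟨pb, hpb⟩ : ∃ pb : PowerBasis F (AdjoinRoot χ), pb = AdjoinRoot.powerBasis hχ0 :=
    ⟨_, rfl⟩
  have hgen : pb.gen = AdjoinRoot.root χ := by rw [hpb, AdjoinRoot.powerBasis_gen]
  have hdim : pb.dim = 3 := by rw [hpb, AdjoinRoot.powerBasis_dim, hdeg]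
  haveI : Module.Finite F (AdjoinRoot χ) := PowerBasis.finite pb
  haveI : Finite (AdjoinRoot χ) := Module.finite_of_finite F
  have hfr : Module.finrank F (AdjoinRoot χ) = 3 := by rw [PowerBasis.finrank pb, hdim]
  have hmin : minpoly F pb.gen = χ := by
    rw [hpb]; exact AdjoinRoot.minpoly_powerBasis_gen_of_monic hmon hχ0
  have hnorm : Algebra.norm F (AdjoinRoot.root χ) = 1 := by
    have h1 := Algebra.PowerBasis.norm_gen_eq_coeff_zero_minpoly pb
    rw [hmin, hgen, hdim] at h1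
    rw [h1]
    have h2 := Matrix.det_eq_sign_charpoly_coeff M
    rw [hdet, Fintype.card_fin, ← hχ] at h2
    exact h2.symm
  have hsum : ∑ i ∈ Finset.range 3, Fintype.card F ^ i =
      Fintype.card F ^ 2 + Fintype.card F + 1 := by
    simp [Finset.sum_range_succ]
    ring
  have hpow : (AdjoinRoot.root χ) ^ (Fintype.card F ^ 2 + Fintype.card F + 1) = 1 := by
    have h1 := FiniteField.algebraMap_norm_eq_pow_sum F (AdjoinRoot χ) (AdjoinRoot.root χ)
    rw [hnorm, map_one, hfr, Nat.card_eq_fintype_card, hsum] at h1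
    exact h1.symm
  have hd0 : 0 < Nat.gcd 3 (Fintype.card F - 1) := Nat.gcd_pos_of_pos_left _ (by norm_num)
  have hdS : Nat.gcd 3 (Fintype.card F - 1) ∣ Fintype.card F ^ 2 + Fintype.card F + 1 := by
    obtain ⟨t, ht⟩ : ∃ t, Fintype.card F = t + 1 :=
      ⟨Fintype.card F - 1, by have := Fintype.card_pos (α := F); omega⟩
    have hq1 : Fintype.card F - 1 = t := by omega
    have hS : Fintype.card F ^ 2 + Fintype.card F + 1 = 3 + t * (t + 3) := by rw [ht]; ring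
    rw [hq1, hS]
    exact dvd_add (Nat.gcd_dvd_left 3 t) (Dvd.dvd.mul_right (Nat.gcd_dvd_right 3 t) _)
  obtain ⟨N1, hN1⟩ : ∃ N1, N1 = (Fintype.card F ^ 2 + Fintype.card F + 1) /
      Nat.gcd 3 (Fintype.card F - 1) := ⟨_, rfl⟩
  rw [← hN1]
  have hN1d : N1 * Nat.gcd 3 (Fintype.card F - 1) = Fintype.card F ^ 2 + Fintype.card F + 1 := by
    rw [hN1]; exact Nat.div_mul_cancel hdS
  have hz : ((AdjoinRoot.root χ) ^ N1) ^ Nat.gcd 3 (Fintype.card F - 1) = 1 := by
    rw [← pow_mul, hN1d, hpow]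
  obtain ⟨c, hc⟩ := Cfsg.Agent.Helper14.Psl3c.root_mem (F := F) (K := AdjoinRoot χ)
    (Nat.gcd 3 (Fintype.card F - 1)) hd0 (Nat.gcd_dvd_right 3 _) _ hz
  have hmk : AdjoinRoot.mk χ (X ^ N1 - C c) = 0 := by
    rw [map_sub, map_pow, AdjoinRoot.mk_X, AdjoinRoot.mk_C, ← AdjoinRoot.algebraMap_eq, hc,
      sub_self]
  obtain ⟨g, hg⟩ := AdjoinRoot.mk_eq_zero.mp hmk
  have h := Matrix.aeval_self_charpoly M
  rw [← hχ] at h
  have h2 : Polynomial.aeval M (X ^ N1 - C c) = 0 := by rw [hg, map_mul, h, zero_mul]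
  rw [map_sub, map_pow, Polynomial.aeval_X, Polynomial.aeval_C,
    Algebra.algebraMap_eq_smul_one] at h2
  exact ⟨c, sub_eq_zero.mp h2⟩

end Cfsg.Agent.Helper14.Psl3d
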