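import Mathlib
import Cfsg.Agent.Helper14.Psl3c

set_option autoImplicit false

namespace Cfsg.Agent.Helper14.Psl3e

open Matrix Polynomial

theorem case_quad {F : Type*} [Field F] [Fintype F] (M : Matrix (Fin 3) (Fin 3) F)
    (hdet : M.det = 1) (lam : F) (ψ : Polynomial F) (hψm : ψ.Monic) (hψd : ψ.natDegree = 2)
    (hψ : Irreducible ψ) (hchar : M.charpoly = (X - C lam) * ψ) :
    ∃ c : F, M ^ ((Fintype.card F ^ 2 - 1) / Nat.gcd 3 (Fintype.card F - 1)) =
      c • (1 : Matrix (Fin 3) (Fin 3) F) := by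
  classical
  haveI : Fact (Irreducible ψ) := ⟨hψ⟩
  have hψ0 : ψ ≠ 0 := hψm.ne_zero
  obtain ⟨pb, hpb⟩ : ∃ pb : PowerBasis F (AdjoinRoot ψ), pb = AdjoinRoot.powerBasis hψ0 :=
    ⟨_, rfl⟩
  have hgen : pb.gen = AdjoinRoot.root ψ := by rw [hpb, AdjoinRoot.powerBasis_gen]
  have hdim : pb.dim = 2 := by rw [hpb, AdjoinRoot.powerBasis_dim, hψd]
  haveI : Module.Finite F (AdjoinRoot ψ) := PowerBasis.finite pb
  haveI : Finite (AdjoinRoot ψ) := Module.finite_of_finite F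
  have hfr : Module.finrank F (AdjoinRoot ψ) = 2 := by rw [PowerBasis.finrank pb, hdim]
  have hmin : minpoly F pb.gen = ψ := by
    rw [hpb]; exact AdjoinRoot.minpoly_powerBasis_gen_of_monic hψm hψ0
  obtain ⟨δ, hδ⟩ : ∃ δ : F, δ = ψ.coeff 0 := ⟨_, rfl⟩
  have hnorm : Algebra.norm F (AdjoinRoot.root ψ) = δ := by
    have h1 := Algebra.PowerBasis.norm_gen_eq_coeff_zero_minpoly pb
    rw [hmin, hgen, hdim] at h1
    rw [h1, hδ]
    ring
  have hlamδ : lam * δ = 1 := by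
    have h2 := Matrix.det_eq_sign_charpoly_coeff M
    rw [hdet, Fintype.card_fin, hchar, Polynomial.mul_coeff_zero, Polynomial.coeff_sub,
      Polynomial.coeff_X_zero, Polynomial.coeff_C_zero, ← hδ] at h2
    linear_combination (-1 : F) * h2
  have hδ0 : δ ≠ 0 := right_ne_zero_of_mul_eq_one hlamδ
  have hsum : ∑ i ∈ Finset.range 2, Fintype.card F ^ i = Fintype.card F + 1 := by
    rw [Finset.sum_range_succ, Finset.sum_range_one, pow_zero, pow_one, add_comm]
  have hpow : (AdjoinRoot.root ψ) ^ (Fintype.card F + 1) = algebraMap F (AdjoinRoot ψ) δ := by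
    have h1 := FiniteField.algebraMap_norm_eq_pow_sum F (AdjoinRoot ψ) (AdjoinRoot.root ψ)
    rw [hnorm, hfr, Nat.card_eq_fintype_card, hsum] at h1
    exact h1.symm
  obtain ⟨t, ht⟩ : ∃ t, Fintype.card F = t + 1 :=
    ⟨Fintype.card F - 1, by have := Fintype.card_pos (α := F); omega⟩
  have hq1 : Fintype.card F - 1 = t := by omega
  have hS : Fintype.card F ^ 2 - 1 = t * (t + 2) := by
    rw [ht]
    have h : (t + 1) ^ 2 = t * (t + 2) + 1 := by ring
    rw [h, Nat.add_sub_cancel]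
  have hq2' : Fintype.card F + 1 = t + 2 := by omega
  rw [hq2'] at hpow
  rw [hS, hq1]
  have hδt : δ ^ t = 1 := by
    rw [← hq1]; exact FiniteField.pow_card_sub_one_eq_one δ hδ0
  obtain ⟨d, hd⟩ : ∃ d, d = Nat.gcd 3 t := ⟨_, rfl⟩
  have hd3 : d ∣ 3 := by rw [hd]; exact Nat.gcd_dvd_left 3 t
  have hdt : d ∣ t := by rw [hd]; exact Nat.gcd_dvd_right 3 t
  have hd0 : 0 < d := by rw [hd]; exact Nat.gcd_pos_of_pos_left _ (by norm_num)
  obtain ⟨e, he⟩ := hdt
  obtain ⟨f, hf⟩ := hd3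
  have hdiv : t * (t + 2) / d = e * (t + 2) := by
    apply Nat.div_eq_of_eq_mul_right hd0
    rw [← mul_assoc, ← he]
  rw [← hd, hdiv]
  have h3e : e + 2 * e = f * t := by
    rw [he]
    calc e + 2 * e = 3 * e := by ring
      _ = (d * f) * e := by rw [← hf]
      _ = f * (d * e) := by ring
  have hmk : AdjoinRoot.mk ψ (X ^ (e * (t + 2)) - C (δ ^ e)) = 0 := by
    rw [map_sub, map_pow, AdjoinRoot.mk_X, AdjoinRoot.mk_C, mul_comm e, pow_mul, hpow,
      ← AdjoinRoot.algebraMap_eq, map_pow, sub_self]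
  have hdvd1 : ψ ∣ X ^ (e * (t + 2)) - C (δ ^ e) := AdjoinRoot.mk_eq_zero.mp hmk
  have hlam : lam ^ (e * (t + 2)) = δ ^ e := by
    have h1 : δ ^ e * δ ^ (e * (t + 2)) = 1 := by
      rw [← pow_add]
      have h2 : e + e * (t + 2) = t * (e + f) := by
        have h3 : e + e * (t + 2) = e * t + (e + 2 * e) := by ring
        rw [h3, h3e]
        ring
      rw [h2, pow_mul, hδt, one_pow]
    have h2 : lam ^ (e * (t + 2)) * δ ^ (e * (t + 2)) = 1 := by
      rw [← mul_pow, hlamδ, one_pow]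
    have h3 : δ ^ (e * (t + 2)) ≠ 0 := pow_ne_zero _ hδ0
    exact mul_right_cancel₀ h3 (h2.trans h1.symm)
  have hdvd2 : (X - C lam) ∣ X ^ (e * (t + 2)) - C (δ ^ e) := by
    rw [Polynomial.dvd_iff_isRoot, Polynomial.IsRoot.def, Polynomial.eval_sub,
      Polynomial.eval_pow, Polynomial.eval_X, Polynomial.eval_C, hlam, sub_self]
  have hcop : IsCoprime (X - C lam) ψ := by
    rw [(Polynomial.irreducible_X_sub_C lam).coprime_iff_not_dvd, Polynomial.dvd_iff_isRoot]
    intro hroot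
    have h1 := Polynomial.degree_eq_one_of_irreducible_of_root hψ hroot
    have h3 : ψ.natDegree = 1 := Polynomial.natDegree_eq_of_degree_eq_some (by rw [h1]; rfl)
    omega
  obtain ⟨g, hg⟩ := hcop.mul_dvd hdvd2 hdvd1
  have h := Matrix.aeval_self_charpoly M
  rw [hchar] at h
  have h2 : Polynomial.aeval M (X ^ (e * (t + 2)) - C (δ ^ e)) = 0 := by
    rw [hg, map_mul, h, zero_mul]
  rw [map_sub, map_pow, Polynomial.aeval_X, Polynomial.aeval_C,
    Algebra.algebraMap_eq_smul_one] at h2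
  exact ⟨δ ^ e, sub_eq_zero.mp h2⟩

end Cfsg.Agent.Helper14.Psl3e
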