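import Mathlib
import Cfsg.Agent.Helper14.PslAdj

set_option autoImplicit false

namespace Cfsg.Agent.Helper14.Psl3g

open Matrix Cfsg.Agent.Helper14.PslAdj

theorem h11 {F : Type*} [Field F] (x c : F) (j : ℕ) :
    (x • (1 : Matrix (Fin 1) (Fin 1) F)) ^ j = c • (1 : Matrix (Fin 1) (Fin 1) F) ↔
      c = x ^ j := by
  rw [smul_pow, one_pow]
  constructor
  · intro h
    have h1 := congrFun (congrFun h 0) 0
    rw [Matrix.smul_apply, Matrix.smul_apply, Matrix.one_apply_eq, smul_eq_mul, smul_eq_mul,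
      mul_one, mul_one] at h1
    exact h1.symm
  · intro h
    rw [h]

theorem ex_qm1 {F : Type*} [Field F] [Fintype F] :
    ∃ M : Matrix (Fin 3) (Fin 3) F, M.det = 1 ∧
      (∃ c : F, M ^ (Fintype.card F - 1) = c • (1 : Matrix (Fin 3) (Fin 3) F)) ∧
      ∀ j : ℕ, (∃ c : F, M ^ j = c • (1 : Matrix (Fin 3) (Fin 3) F)) →
        Fintype.card F - 1 ∣ j := by
  classical
  obtain ⟨ζ, hζ⟩ := exists_order (F := F) (Fintype.card F - 1) dvd_rfl
  have hq : 2 ≤ Fintype.card F := Fintype.one_lt_card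
  have hζq : ζ ^ (Fintype.card F - 1) = 1 := by rw [← hζ]; exact pow_orderOf_eq_one ζ
  have hζ0 : ζ ≠ 0 := by
    intro h
    rw [h, zero_pow (by omega)] at hζq
    exact zero_ne_one hζq
  obtain ⟨X, hXdet, hX⟩ := exists_block 2 1 1 (by norm_num)
    (ζ • (1 : Matrix (Fin 1) (Fin 1) F)) (ζ⁻¹ • (1 : Matrix (Fin 1) (Fin 1) F))
  obtain ⟨M, hMdet, hM⟩ := exists_block 3 2 1 (by norm_num) X
    ((1 : F) • (1 : Matrix (Fin 1) (Fin 1) F))
  have hMj : ∀ (j : ℕ) (c : F), M ^ j = c • (1 : Matrix (Fin 3) (Fin 3) F) ↔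
      ((c = ζ ^ j ∧ c = ζ⁻¹ ^ j) ∧ c = 1 ^ j) := by
    intro j c
    rw [hM, hX, h11, h11, h11]
  refine ⟨M, ?_, ⟨1, ?_⟩, ?_⟩
  · rw [hMdet, hXdet]
    simp [hζ0]
  · rw [hMj, hζq, inv_pow, hζq, inv_one, one_pow]
    exact ⟨⟨rfl, rfl⟩, rfl⟩
  · rintro j ⟨c, hc⟩
    obtain ⟨⟨h1, -⟩, h2⟩ := (hMj j c).mp hc
    rw [one_pow] at h2
    rw [h2] at h1
    rw [← hζ]
    exact orderOf_dvd_of_pow_eq_one h1.symm

theorem ex_pq {F : Type*} [Field F] [Fintype F] (p : ℕ) [Fact p.Prime] [CharP F p] :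
    ∃ M : Matrix (Fin 3) (Fin 3) F, M.det = 1 ∧
      (∃ c : F, M ^ (p * (Fintype.card F - 1) / Nat.gcd 3 (Fintype.card F - 1)) =
        c • (1 : Matrix (Fin 3) (Fin 3) F)) ∧
      ∀ j : ℕ, (∃ c : F, M ^ j = c • (1 : Matrix (Fin 3) (Fin 3) F)) →
        p * (Fintype.card F - 1) / Nat.gcd 3 (Fintype.card F - 1) ∣ j := by
  classical
  have hpp : p.Prime := Fact.out
  have hpF : (p : F) = 0 := CharP.cast_eq_zero F p
  obtain ⟨ζ, hζ⟩ := exists_order (F := F) (Fintype.card F - 1) dvd_rfl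
  have hq : 2 ≤ Fintype.card F := Fintype.one_lt_card
  have hζq : ζ ^ (Fintype.card F - 1) = 1 := by rw [← hζ]; exact pow_orderOf_eq_one ζ
  have hζ0 : ζ ≠ 0 := by
    intro h
    rw [h, zero_pow (by omega)] at hζq
    exact zero_ne_one hζq
  obtain ⟨t, ht⟩ : ∃ t, Fintype.card F = t + 1 := ⟨Fintype.card F - 1, by omega⟩
  have hq1 : Fintype.card F - 1 = t := by omega
  rw [hq1] at hζ hζq ⊢
  have hpt : ¬ p ∣ t := by
    intro h
    obtain ⟨f', -, hqf⟩ := FiniteField.card F p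
    have h1 : p ∣ t + 1 := by
      rw [← ht, hqf]; exact dvd_pow_self p f'.pos.ne'
    have h2 : p ∣ 1 := (Nat.dvd_add_right h).mp h1
    exact hpp.one_lt.ne' (Nat.dvd_one.mp h2)
  obtain ⟨d, hd⟩ : ∃ d, d = Nat.gcd 3 t := ⟨_, rfl⟩
  have hd3 : d ∣ 3 := by rw [hd]; exact Nat.gcd_dvd_left 3 t
  have hdt : d ∣ t := by rw [hd]; exact Nat.gcd_dvd_right 3 t
  have hd0 : 0 < d := by rw [hd]; exact Nat.gcd_pos_of_pos_left _ (by norm_num)
  obtain ⟨e, he⟩ := hdt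
  obtain ⟨f, hf⟩ := hd3
  have hcop : Nat.Coprime e f := by
    have h1 : Nat.gcd (d * f) (d * e) = d * 1 := by rw [← hf, ← he, mul_one, hd]
    rw [Nat.gcd_mul_left] at h1
    exact Nat.Coprime.symm (Nat.eq_of_mul_eq_mul_left hd0 h1)
  have hdiv : p * t / d = p * e := by
    apply Nat.div_eq_of_eq_mul_right hd0
    rw [he]; ring
  rw [← hd, hdiv]
  have h3e : 3 * e = f * t := by
    rw [he]
    calc 3 * e = (d * f) * e := by rw [← hf]
      _ = f * (d * e) := by ring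
  have hpe : Nat.Coprime p e :=
    (Nat.Prime.coprime_iff_not_dvd hpp).mpr
      (fun h => hpt (dvd_trans h (Dvd.intro_left d he.symm)))
  obtain ⟨T, hT⟩ : ∃ T : Matrix (Fin 2) (Fin 2) F,
      T = Matrix.transvection (0 : Fin 2) 1 (1 : F) := ⟨_, rfl⟩
  have h01 : (0 : Fin 2) ≠ 1 := by decide
  have hTpow : ∀ j : ℕ, T ^ j = Matrix.transvection (0 : Fin 2) 1 (j : F) := fun j => by
    rw [hT, trans_pow (0 : Fin 2) 1 h01]
  obtain ⟨M, hMdet, hM⟩ := exists_block 3 2 1 (by norm_num) (ζ • T)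
    ((ζ⁻¹ ^ 2) • (1 : Matrix (Fin 1) (Fin 1) F))
  have hXj : ∀ (j : ℕ) (c : F), (ζ • T) ^ j = c • (1 : Matrix (Fin 2) (Fin 2) F) ↔
      ((j : F) = 0 ∧ c = ζ ^ j) := by
    intro j c
    rw [smul_pow, hTpow]
    constructor
    · intro h
      have h1 := congrFun (congrFun h 0) 1
      have h2 := congrFun (congrFun h 0) 0
      rw [Matrix.smul_apply, trans_apply (0 : Fin 2) 1 h01, Matrix.smul_apply,
        Matrix.one_apply_ne h01, smul_zero, smul_eq_mul] at h1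
      have hj0 : (j : F) = 0 := by
        rcases mul_eq_zero.mp h1 with h3 | h3
        · exact absurd h3 (pow_ne_zero _ hζ0)
        · exact h3
      rw [hj0, Matrix.transvection_zero, Matrix.smul_apply, Matrix.smul_apply,
        Matrix.one_apply_eq, smul_eq_mul, smul_eq_mul, mul_one, mul_one] at h2
      exact ⟨hj0, h2.symm⟩
    · rintro ⟨h1, h2⟩
      rw [h1, Matrix.transvection_zero, h2]
  have hMj : ∀ (j : ℕ) (c : F), M ^ j = c • (1 : Matrix (Fin 3) (Fin 3) F) ↔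
      (((j : F) = 0 ∧ c = ζ ^ j) ∧ c = (ζ⁻¹ ^ 2) ^ j) := by
    intro j c
    rw [hM, hXj, h11]
  refine ⟨M, ?_, ⟨ζ ^ (p * e), ?_⟩, ?_⟩
  · rw [hMdet, Matrix.det_smul, Matrix.det_smul, hT, Matrix.det_transvection_of_ne _ _ h01,
      Matrix.det_one, Fintype.card_fin, Fintype.card_fin, pow_one, mul_one, mul_one, ← mul_pow,
      mul_inv_cancel₀ hζ0, one_pow]
  · rw [hMj]
    refine ⟨⟨?_, rfl⟩, ?_⟩
    · rw [Nat.cast_mul, hpF, zero_mul]
    · rw [inv_pow, inv_pow]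
      apply eq_inv_of_mul_eq_one_left
      rw [← pow_mul, ← pow_add]
      have h3 : p * e + 2 * (p * e) = t * (f * p) := by
        have h4 : p * e + 2 * (p * e) = (3 * e) * p := by ring
        rw [h4, h3e]
        ring
      rw [h3, pow_mul, hζq, one_pow]
  · rintro j ⟨c, hc⟩
    obtain ⟨⟨h1, h2⟩, h3⟩ := (hMj j c).mp hc
    have hpj : p ∣ j := (CharP.cast_eq_zero_iff F p j).mp h1
    have h4 : ζ ^ (j + 2 * j) = 1 := by
      rw [pow_add]
      have h5 : ζ ^ j = (ζ⁻¹ ^ 2) ^ j := h2.symm.trans h3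
      rw [h5, pow_mul ζ 2 j, ← mul_pow, ← mul_pow, inv_mul_cancel₀ hζ0, one_pow, one_pow]
    have h6 : t ∣ j + 2 * j := by
      rw [← hζ]; exact orderOf_dvd_of_pow_eq_one h4
    have h7 : d * e ∣ d * (f * j) := by
      rw [← he, ← mul_assoc, ← hf]
      have h8 : 3 * j = j + 2 * j := by ring
      rw [h8]
      exact h6
    have h9 : e ∣ f * j := Nat.dvd_of_mul_dvd_mul_left hd0 h7
    have h10 : e ∣ j := hcop.dvd_of_dvd_mul_left h9
    exact Nat.Coprime.mul_dvd_of_dvd_of_dvd hpe hpj h10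

theorem ex_four {F : Type*} [Field F] [Fintype F] (hch : (2 : F) = 0) :
    ∃ M : Matrix (Fin 3) (Fin 3) F, M.det = 1 ∧
      (∃ c : F, M ^ 4 = c • (1 : Matrix (Fin 3) (Fin 3) F)) ∧
      ∀ j : ℕ, (∃ c : F, M ^ j = c • (1 : Matrix (Fin 3) (Fin 3) F)) → 4 ∣ j := by
  classical
  obtain ⟨M, hMdef⟩ : ∃ M : Matrix (Fin 3) (Fin 3) F, M = !![1, 1, 0; 0, 1, 1; 0, 0, 1] :=
    ⟨_, rfl⟩
  obtain ⟨B, hBdef⟩ : ∃ B : Matrix (Fin 3) (Fin 3) F, B = !![1, 0, 1; 0, 1, 0; 0, 0, 1] :=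
    ⟨_, rfl⟩
  have h2 : (1 : F) + 1 = 0 := by rw [one_add_one_eq_two]; exact hch
  have hM2 : M * M = B := by
    rw [hMdef, hBdef]
    ext i j
    fin_cases i <;> fin_cases j <;> simp [Matrix.mul_apply, Fin.sum_univ_three, h2]
  have hB2 : B * B = 1 := by
    rw [hBdef]
    ext i j
    fin_cases i <;> fin_cases j <;>
      simp [Matrix.mul_apply, Fin.sum_univ_three, h2, Matrix.one_apply]
  have hM4 : M ^ 4 = 1 := by
    rw [show (4 : ℕ) = 2 + 2 from rfl, pow_add, pow_two, hM2, hB2]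
  refine ⟨M, ?_, ⟨1, by rw [hM4, one_smul]⟩, ?_⟩
  · rw [hMdef, Matrix.det_fin_three]
    simp
  · rintro j ⟨c, hc⟩
    have hj : M ^ j = M ^ (j % 4) := by
      conv_lhs => rw [← Nat.div_add_mod j 4]
      rw [pow_add, pow_mul, hM4, one_pow, one_mul]
    rw [hj] at hc
    have hr : j % 4 < 4 := Nat.mod_lt _ (by norm_num)
    obtain ⟨r, hr'⟩ : ∃ r, r = j % 4 := ⟨_, rfl⟩
    rw [← hr'] at hc hr
    interval_cases r
    · exact Nat.dvd_of_mod_eq_zero hr'.symm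
    · exfalso
      rw [pow_one] at hc
      have h := congrFun (congrFun hc 0) 1
      rw [hMdef] at h
      simp [Matrix.one_apply] at h
    · exfalso
      rw [pow_two, hM2] at hc
      have h := congrFun (congrFun hc 0) 2
      rw [hBdef] at h
      simp [Matrix.one_apply] at h
    · exfalso
      have h3 : M ^ 3 = B * M := by
        rw [← hM2, ← pow_two]
        exact pow_succ M 2
      rw [h3] at hc
      have h := congrFun (congrFun hc 0) 1
      rw [hBdef, hMdef] at h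
      simp [Matrix.mul_apply, Fin.sum_univ_three, Matrix.one_apply] at h

end Cfsg.Agent.Helper14.Psl3g
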