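import Mathlib
import Cfsg.Agent.Helper14.Psu3a
import Cfsg.Agent.Helper14.Psl3c

set_option autoImplicit false

namespace Cfsg.Agent.Helper14.Psu3b

open Matrix Polynomial

theorem case_irred {F : Type*} [Field F] [Fintype F] (p : ℕ) [Fact p.Prime] [CharP F p] (q : ℕ)
    (hF : Fintype.card F = q ^ 2) (M : Matrix (Fin 3) (Fin 3) F) (hdet : M.det = 1)
    (hU : Mᵀ * M.map (fun x => x ^ q) = 1) (hirr : Irreducible M.charpoly) :
    ∃ c : F, M ^ ((q ^ 2 - q + 1) / Nat.gcd 3 (q + 1)) = c • (1 : Matrix (Fin 3) (Fin 3) F) := by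
  classical
  have hpp : p.Prime := Fact.out
  obtain ⟨m, hm⟩ := Cfsg.Agent.Helper14.Psu3a.q_pow p q hF
  have hq2 : 2 ≤ q := by
    have h1 : 2 ≤ Fintype.card F := Fintype.one_lt_card
    rw [hF] at h1
    by_contra h
    have h2 : q ≤ 1 := by omega
    have h3 : q ^ 2 ≤ 1 := by nlinarith
    omega
  obtain ⟨χ, hχ⟩ : ∃ χ : Polynomial F, χ = M.charpoly := ⟨_, rfl⟩
  rw [← hχ] at hirr
  haveI : Fact (Irreducible χ) := ⟨hirr⟩
  have hmon : χ.Monic := by rw [hχ]; exact Matrix.charpoly_monic M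
  have hdeg : χ.natDegree = 3 := by
    rw [hχ, Matrix.charpoly_natDegree_eq_dim, Fintype.card_fin]
  have hχ0 : χ ≠ 0 := hmon.ne_zero
  obtain ⟨pb, hpb⟩ : ∃ pb : PowerBasis F (AdjoinRoot χ), pb = AdjoinRoot.powerBasis hχ0 :=
    ⟨_, rfl⟩
  have hgen : pb.gen = AdjoinRoot.root χ := by rw [hpb, AdjoinRoot.powerBasis_gen]
  have hdim : pb.dim = 3 := by rw [hpb, AdjoinRoot.powerBasis_dim, hdeg]
  haveI : Module.Finite F (AdjoinRoot χ) := PowerBasis.finite pb
  haveI : Finite (AdjoinRoot χ) := Module.finite_of_finite F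
  have hfr : Module.finrank F (AdjoinRoot χ) = 3 := by rw [PowerBasis.finrank pb, hdim]
  have hmin : minpoly F pb.gen = χ := by
    rw [hpb]; exact AdjoinRoot.minpoly_powerBasis_gen_of_monic hmon hχ0
  have hnorm : Algebra.norm F (AdjoinRoot.root χ) = 1 := by
    have h1 := Algebra.PowerBasis.norm_gen_eq_coeff_zero_minpoly pb
    rw [hmin, hgen, hdim] at h1
    rw [h1]
    have h2 := Matrix.det_eq_sign_charpoly_coeff M
    rw [hdet, Fintype.card_fin, ← hχ] at h2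
    exact h2.symm
  have hsum : ∑ i ∈ Finset.range 3, Fintype.card F ^ i = q ^ 4 + q ^ 2 + 1 := by
    rw [hF, Finset.sum_range_succ, Finset.sum_range_succ, Finset.sum_range_one]
    ring
  obtain ⟨r, hr⟩ : ∃ r : AdjoinRoot χ, r = AdjoinRoot.root χ := ⟨_, rfl⟩
  have hpow : r ^ (q ^ 4 + q ^ 2 + 1) = 1 := by
    have h1 := FiniteField.algebraMap_norm_eq_pow_sum F (AdjoinRoot χ) (AdjoinRoot.root χ)
    rw [hnorm, map_one, hfr, Nat.card_eq_fintype_card, hsum] at h1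
    rw [hr]
    exact h1.symm
  have hr0 : r ≠ 0 := by
    intro h
    rw [h, zero_pow (by positivity)] at hpow
    exact zero_ne_one hpow
  have hroot : Polynomial.aeval r χ = 0 := by
    rw [hr, AdjoinRoot.aeval_eq, AdjoinRoot.mk_self]
  have hfrobQ : ∀ t : AdjoinRoot χ, Polynomial.aeval t χ = 0 →
      Polynomial.aeval (t ^ (q ^ 2)) χ = 0 := by
    intro t ht
    rw [← hF, ← Polynomial.expand_aeval, FiniteField.expand_card, map_pow, ht,
      zero_pow Fintype.card_ne_zero]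
  have hnotF : ∀ t : AdjoinRoot χ, Polynomial.aeval t χ = 0 → t ^ (q ^ 2) ≠ t := by
    intro t ht hcontra
    have hex : ∃ c : F, algebraMap F (AdjoinRoot χ) c = t := by
      by_cases ht0 : t = 0
      · exact ⟨0, by rw [map_zero, ht0]⟩
      · apply Cfsg.Agent.Helper14.Psl3c.root_mem (Fintype.card F - 1)
          (by have := Fintype.one_lt_card (α := F); omega) dvd_rfl
        have h1 : t ^ (Fintype.card F - 1) * t = t := by
          rw [← pow_succ, Nat.sub_add_cancel Fintype.card_pos, hF]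
          exact hcontra
        exact mul_right_cancel₀ ht0 (by rw [h1, one_mul])
    obtain ⟨c, hc⟩ := hex
    rw [← hc, Polynomial.aeval_algebraMap_apply, map_eq_zero] at ht
    have hc0 : χ.IsRoot c := by
      rw [Polynomial.IsRoot.def, ← Polynomial.coe_aeval_eq_eval]
      exact ht
    have h1 := Polynomial.degree_eq_one_of_irreducible_of_root hirr hc0
    have h3 : χ.natDegree = 1 := Polynomial.natDegree_eq_of_degree_eq_some (by rw [h1]; rfl)
    omega
  haveI := Fintype.ofFinite (AdjoinRoot χ)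
  have hcardK : Fintype.card (AdjoinRoot χ) = q ^ 2 * q ^ 2 * q ^ 2 := by
    rw [← Nat.card_eq_fintype_card, Module.natCard_eq_pow_finrank (K := F) (V := AdjoinRoot χ),
      hfr, Nat.card_eq_fintype_card, hF]
    ring
  have hr1 : r ^ (q ^ 2) ≠ r := hnotF r hroot
  have hrootQ : Polynomial.aeval (r ^ (q ^ 2)) χ = 0 := hfrobQ r hroot
  have hr2 : (r ^ (q ^ 2)) ^ (q ^ 2) ≠ r ^ (q ^ 2) := hnotF _ hrootQ
  have hrootQ2 : Polynomial.aeval ((r ^ (q ^ 2)) ^ (q ^ 2)) χ = 0 := hfrobQ _ hrootQ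
  have hr3 : (r ^ (q ^ 2)) ^ (q ^ 2) ≠ r := by
    intro h
    apply hr1
    have h1 := FiniteField.pow_card r
    rw [hcardK, pow_mul, pow_mul, h] at h1
    exact h1
  obtain ⟨χK, hχK⟩ : ∃ χK : Polynomial (AdjoinRoot χ),
      χK = χ.map (algebraMap F (AdjoinRoot χ)) := ⟨_, rfl⟩
  have hevalK : ∀ t : AdjoinRoot χ, χK.eval t = Polynomial.aeval t χ := by
    intro t
    rw [hχK, Polynomial.eval_map_algebraMap]
  have hd1 : (X - C r) ∣ χK := by
    rw [Polynomial.dvd_iff_isRoot, Polynomial.IsRoot.def, hevalK]; exact hroot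
  have hd2 : (X - C (r ^ (q ^ 2))) ∣ χK := by
    rw [Polynomial.dvd_iff_isRoot, Polynomial.IsRoot.def, hevalK]; exact hrootQ
  have hd3 : (X - C ((r ^ (q ^ 2)) ^ (q ^ 2))) ∣ χK := by
    rw [Polynomial.dvd_iff_isRoot, Polynomial.IsRoot.def, hevalK]; exact hrootQ2
  have hc23 : IsCoprime (X - C (r ^ (q ^ 2))) (X - C ((r ^ (q ^ 2)) ^ (q ^ 2))) :=
    Polynomial.isCoprime_X_sub_C_of_isUnit_sub (sub_ne_zero.mpr (Ne.symm hr2)).isUnit
  have hc1 : IsCoprime (X - C r) ((X - C (r ^ (q ^ 2))) * (X - C ((r ^ (q ^ 2)) ^ (q ^ 2)))) :=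
    IsCoprime.mul_right
      (Polynomial.isCoprime_X_sub_C_of_isUnit_sub (sub_ne_zero.mpr (Ne.symm hr1)).isUnit)
      (Polynomial.isCoprime_X_sub_C_of_isUnit_sub (sub_ne_zero.mpr (Ne.symm hr3)).isUnit)
  have hdvd := hc1.mul_dvd hd1 (hc23.mul_dvd hd2 hd3)
  have hχKmon : χK.Monic := by rw [hχK]; exact hmon.map _
  have hχKdeg : χK.natDegree = 3 := by rw [hχK, Polynomial.natDegree_map, hdeg]
  have hprodmon : ((X - C r) * ((X - C (r ^ (q ^ 2))) *
      (X - C ((r ^ (q ^ 2)) ^ (q ^ 2))))).Monic :=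
    (monic_X_sub_C _).mul ((monic_X_sub_C _).mul (monic_X_sub_C _))
  have hproddeg : ((X - C r) * ((X - C (r ^ (q ^ 2))) *
      (X - C ((r ^ (q ^ 2)) ^ (q ^ 2))))).natDegree = 3 := by
    rw [Polynomial.Monic.natDegree_mul (monic_X_sub_C _)
      ((monic_X_sub_C _).mul (monic_X_sub_C _)),
      Polynomial.Monic.natDegree_mul (monic_X_sub_C _) (monic_X_sub_C _), natDegree_X_sub_C,
      natDegree_X_sub_C, natDegree_X_sub_C]
  have hfac : χK = (X - C r) * ((X - C (r ^ (q ^ 2))) * (X - C ((r ^ (q ^ 2)) ^ (q ^ 2)))) :=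
    Polynomial.eq_of_monic_of_dvd_of_natDegree_le hprodmon hχKmon hdvd
      (by rw [hχKdeg, hproddeg])
  have ht := Cfsg.Agent.Helper14.Psu3a.root_closed p q hF M hU r (by rw [← hχ]; exact hroot)
  rw [← hχ, ← hevalK, hfac, Polynomial.eval_mul, Polynomial.eval_mul, Polynomial.eval_sub,
    Polynomial.eval_sub, Polynomial.eval_sub, Polynomial.eval_X, Polynomial.eval_C,
    Polynomial.eval_C, Polynomial.eval_C] at ht
  haveI : CharP (AdjoinRoot χ) p :=
    charP_of_injective_algebraMap (algebraMap F (AdjoinRoot χ)).injective p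
  have hqinj : ∀ x : AdjoinRoot χ, x ^ q = 1 → x = 1 := by
    intro x hx
    have h1 : iterateFrobenius (AdjoinRoot χ) p m x = iterateFrobenius (AdjoinRoot χ) p m 1 := by
      rw [iterateFrobenius_def, iterateFrobenius_def, ← hm, hx, one_pow]
    exact (iterateFrobenius (AdjoinRoot χ) p m).injective h1
  have hq1 : r ^ (q + 1) ≠ 1 := by
    intro h
    apply hr1
    have e : q ^ 2 = (q + 1) * (q - 1) + 1 := by
      obtain ⟨t, rfl⟩ : ∃ t, q = t + 1 := ⟨q - 1, by omega⟩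
      simp only [Nat.add_sub_cancel]
      ring
    rw [e, pow_add, pow_mul, h, one_pow, one_mul, pow_one]
  have hkey : r ^ (q ^ 3 + 1) = 1 := by
    rcases mul_eq_zero.mp ht with h | h
    · exfalso
      apply hq1
      have h2 : (r ^ q)⁻¹ = r := sub_eq_zero.mp h
      calc r ^ (q + 1) = r ^ q * r := pow_succ r q
        _ = r ^ q * (r ^ q)⁻¹ := by rw [h2]
        _ = 1 := mul_inv_cancel₀ (pow_ne_zero q hr0)
    · rcases mul_eq_zero.mp h with h' | h'
      · exfalso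
        apply hq1
        have h2 : (r ^ q)⁻¹ = r ^ (q ^ 2) := sub_eq_zero.mp h'
        have h3 : r ^ (q ^ 2) * r ^ q = 1 := by
          rw [← h2]; exact inv_mul_cancel₀ (pow_ne_zero q hr0)
        apply hqinj
        rw [← pow_mul, ← h3, ← pow_add]
        congr 1
        ring
      · have h2 : (r ^ q)⁻¹ = (r ^ (q ^ 2)) ^ (q ^ 2) := sub_eq_zero.mp h'
        have h3 : (r ^ (q ^ 2)) ^ (q ^ 2) * r ^ q = 1 := by
          rw [← h2]; exact inv_mul_cancel₀ (pow_ne_zero q hr0)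
        apply hqinj
        rw [← pow_mul, ← h3, ← pow_mul, ← pow_add]
        congr 1
        ring
  obtain ⟨B, hB⟩ : ∃ B, B + q = q ^ 2 := ⟨q ^ 2 - q, Nat.sub_add_cancel (by nlinarith)⟩
  have hBdef : q ^ 2 - q = B := by omega
  have hsumA : q ^ 4 + q ^ 2 + 1 = q * (q ^ 3 + 1) + (B + 1) := by
    rw [← hB]; ring
  have hA : r ^ (B + 1) = 1 := by
    have h1 := hpow
    rw [hsumA, pow_add, pow_mul', hkey, one_pow, one_mul] at h1
    exact h1
  have hd0 : 0 < Nat.gcd 3 (q + 1) := Nat.gcd_pos_of_pos_left _ (by norm_num)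
  have hdA : Nat.gcd 3 (q + 1) ∣ B + 1 := by
    have h1 : B + 1 + 2 * (q + 1) = q * (q + 1) + 3 := by
      have h2 : B + 1 + 2 * (q + 1) = (B + q) + q + 3 := by ring
      rw [h2, hB]; ring
    have h3 : Nat.gcd 3 (q + 1) ∣ B + 1 + 2 * (q + 1) := by
      rw [h1]
      exact dvd_add (Dvd.dvd.mul_left (Nat.gcd_dvd_right 3 (q + 1)) q)
        (Nat.gcd_dvd_left 3 (q + 1))
    exact (Nat.dvd_add_left (Dvd.dvd.mul_left (Nat.gcd_dvd_right 3 (q + 1)) 2)).mp h3
  rw [hBdef]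
  obtain ⟨N4, hN4⟩ : ∃ N4, N4 = (B + 1) / Nat.gcd 3 (q + 1) := ⟨_, rfl⟩
  rw [← hN4]
  have hN4d : N4 * Nat.gcd 3 (q + 1) = B + 1 := by
    rw [hN4]; exact Nat.div_mul_cancel hdA
  have hz : (r ^ N4) ^ Nat.gcd 3 (q + 1) = 1 := by rw [← pow_mul, hN4d, hA]
  have hdcard : Nat.gcd 3 (q + 1) ∣ Fintype.card F - 1 := by
    rw [hF]
    have e : q ^ 2 - 1 = (q - 1) * (q + 1) := by
      obtain ⟨t, rfl⟩ : ∃ t, q = t + 1 := ⟨q - 1, by omega⟩
      have h : (t + 1) ^ 2 = t * (t + 1 + 1) + 1 := by ring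
      rw [h, Nat.add_sub_cancel, Nat.add_sub_cancel]
    rw [e]
    exact Dvd.dvd.mul_left (Nat.gcd_dvd_right 3 (q + 1)) _
  obtain ⟨c, hc⟩ := Cfsg.Agent.Helper14.Psl3c.root_mem (F := F) (K := AdjoinRoot χ)
    (Nat.gcd 3 (q + 1)) hd0 hdcard _ hz
  have hmk : AdjoinRoot.mk χ (X ^ N4 - C c) = 0 := by
    rw [map_sub, map_pow, AdjoinRoot.mk_X, AdjoinRoot.mk_C, ← AdjoinRoot.algebraMap_eq, hc, hr,
      sub_self]
  obtain ⟨g, hg⟩ := AdjoinRoot.mk_eq_zero.mp hmk
  have h := Matrix.aeval_self_charpoly M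
  rw [← hχ] at h
  have h2 : Polynomial.aeval M (X ^ N4 - C c) = 0 := by rw [hg, map_mul, h, zero_mul]
  rw [map_sub, map_pow, Polynomial.aeval_X, Polynomial.aeval_C,
    Algebra.algebraMap_eq_smul_one] at h2
  exact ⟨c, sub_eq_zero.mp h2⟩

end Cfsg.Agent.Helper14.Psu3b
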