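import Mathlib
import Cfsg.Agent.Helper14.Psu3a
import Cfsg.Agent.Helper14.Psl3c
import Cfsg.Agent.Helper14.PslAdj2
import Cfsg.Agent.S2365

set_option autoImplicit false

namespace Cfsg.Agent.Helper14.Psu3d

open Matrix Polynomial

theorem key_pow {F : Type*} [Field F] [Fintype F] (p : ℕ) [Fact p.Prime] [CharP F p] (q : ℕ)
    (hF : Fintype.card F = q ^ 2) (M : Matrix (Fin 3) (Fin 3) F) (hdet : M.det = 1)
    (hU : Mᵀ * M.map (fun x => x ^ q) = 1) (hirr : Irreducible M.charpoly) :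
    M ^ (q ^ 3 + 1) = 1 := by
  classical
  have hpp : p.Prime := Fact.out
  obtain ⟨m, hm⟩ := Cfsg.Agent.Helper14.Psu3a.q_pow p q hF
  have hq2 : 2 ≤ q := by
    have h1 : 2 ≤ Fintype.card F := Fintype.one_lt_card
    rw [hF] at h1
    by_contra h
    have h2 : q ≤ 1 := by omega
    have h3 : q ^ 2 ≤ 1 := by nlinarith
    omega
  obtain ⟨χ, hχ⟩ : ∃ χ : Polynomial F, χ = M.charpoly := ⟨_, rfl⟩
  rw [← hχ] at hirr
  haveI : Fact (Irreducible χ) := ⟨hirr⟩
  have hmon : χ.Monic := by rw [hχ]; exact Matrix.charpoly_monic M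
  have hdeg : χ.natDegree = 3 := by
    rw [hχ, Matrix.charpoly_natDegree_eq_dim, Fintype.card_fin]
  have hχ0 : χ ≠ 0 := hmon.ne_zero
  obtain ⟨pb, hpb⟩ : ∃ pb : PowerBasis F (AdjoinRoot χ), pb = AdjoinRoot.powerBasis hχ0 :=
    ⟨_, rfl⟩
  have hgen : pb.gen = AdjoinRoot.root χ := by rw [hpb, AdjoinRoot.powerBasis_gen]
  have hdim : pb.dim = 3 := by rw [hpb, AdjoinRoot.powerBasis_dim, hdeg]
  haveI : Module.Finite F (AdjoinRoot χ) := PowerBasis.finite pb
  haveI : Finite (AdjoinRoot χ) := Module.finite_of_finite F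
  have hfr : Module.finrank F (AdjoinRoot χ) = 3 := by rw [PowerBasis.finrank pb, hdim]
  have hmin : minpoly F pb.gen = χ := by
    rw [hpb]; exact AdjoinRoot.minpoly_powerBasis_gen_of_monic hmon hχ0
  have hnorm : Algebra.norm F (AdjoinRoot.root χ) = 1 := by
    have h1 := Algebra.PowerBasis.norm_gen_eq_coeff_zero_minpoly pb
    rw [hmin, hgen, hdim] at h1
    rw [h1]
    have h2 := Matrix.det_eq_sign_charpoly_coeff M
    rw [hdet, Fintype.card_fin, ← hχ] at h2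
    exact h2.symm
  have hsum : ∑ i ∈ Finset.range 3, Fintype.card F ^ i = q ^ 4 + q ^ 2 + 1 := by
    rw [hF, Finset.sum_range_succ, Finset.sum_range_succ, Finset.sum_range_one]
    ring
  obtain ⟨r, hr⟩ : ∃ r : AdjoinRoot χ, r = AdjoinRoot.root χ := ⟨_, rfl⟩
  have hpow : r ^ (q ^ 4 + q ^ 2 + 1) = 1 := by
    have h1 := FiniteField.algebraMap_norm_eq_pow_sum F (AdjoinRoot χ) (AdjoinRoot.root χ)
    rw [hnorm, map_one, hfr, Nat.card_eq_fintype_card, hsum] at h1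
    rw [hr]
    exact h1.symm
  have hr0 : r ≠ 0 := by
    intro h
    rw [h, zero_pow (by positivity)] at hpow
    exact zero_ne_one hpow
  have hroot : Polynomial.aeval r χ = 0 := by
    rw [hr, AdjoinRoot.aeval_eq, AdjoinRoot.mk_self]
  have hfrobQ : ∀ t : AdjoinRoot χ, Polynomial.aeval t χ = 0 →
      Polynomial.aeval (t ^ (q ^ 2)) χ = 0 := by
    intro t ht
    rw [← hF, ← Polynomial.expand_aeval, FiniteField.expand_card, map_pow, ht,
      zero_pow Fintype.card_ne_zero]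
  have hnotF : ∀ t : AdjoinRoot χ, Polynomial.aeval t χ = 0 → t ^ (q ^ 2) ≠ t := by
    intro t ht hcontra
    have hex : ∃ c : F, algebraMap F (AdjoinRoot χ) c = t := by
      by_cases ht0 : t = 0
      · exact ⟨0, by rw [map_zero, ht0]⟩
      · apply Cfsg.Agent.Helper14.Psl3c.root_mem (Fintype.card F - 1)
          (by have := Fintype.one_lt_card (α := F); omega) dvd_rfl
        have h1 : t ^ (Fintype.card F - 1) * t = t := by
          rw [← pow_succ, Nat.sub_add_cancel Fintype.card_pos, hF]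
          exact hcontra
        exact mul_right_cancel₀ ht0 (by rw [h1, one_mul])
    obtain ⟨c, hc⟩ := hex
    rw [← hc, Polynomial.aeval_algebraMap_apply, map_eq_zero] at ht
    have hc0 : χ.IsRoot c := by
      rw [Polynomial.IsRoot.def, ← Polynomial.coe_aeval_eq_eval]
      exact ht
    have h1 := Polynomial.degree_eq_one_of_irreducible_of_root hirr hc0
    have h3 : χ.natDegree = 1 := Polynomial.natDegree_eq_of_degree_eq_some (by rw [h1]; rfl)
    omega
  haveI := Fintype.ofFinite (AdjoinRoot χ)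
  have hcardK : Fintype.card (AdjoinRoot χ) = q ^ 2 * q ^ 2 * q ^ 2 := by
    rw [← Nat.card_eq_fintype_card, Module.natCard_eq_pow_finrank (K := F) (V := AdjoinRoot χ),
      hfr, Nat.card_eq_fintype_card, hF]
    ring
  have hr1 : r ^ (q ^ 2) ≠ r := hnotF r hroot
  have hrootQ : Polynomial.aeval (r ^ (q ^ 2)) χ = 0 := hfrobQ r hroot
  have hr2 : (r ^ (q ^ 2)) ^ (q ^ 2) ≠ r ^ (q ^ 2) := hnotF _ hrootQ
  have hrootQ2 : Polynomial.aeval ((r ^ (q ^ 2)) ^ (q ^ 2)) χ = 0 := hfrobQ _ hrootQ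
  have hr3 : (r ^ (q ^ 2)) ^ (q ^ 2) ≠ r := by
    intro h
    apply hr1
    have h1 := FiniteField.pow_card r
    rw [hcardK, pow_mul, pow_mul, h] at h1
    exact h1
  obtain ⟨χK, hχK⟩ : ∃ χK : Polynomial (AdjoinRoot χ),
      χK = χ.map (algebraMap F (AdjoinRoot χ)) := ⟨_, rfl⟩
  have hevalK : ∀ t : AdjoinRoot χ, χK.eval t = Polynomial.aeval t χ := by
    intro t
    rw [hχK, Polynomial.eval_map_algebraMap]
  have hd1 : (X - C r) ∣ χK := by
    rw [Polynomial.dvd_iff_isRoot, Polynomial.IsRoot.def, hevalK]; exact hroot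
  have hd2 : (X - C (r ^ (q ^ 2))) ∣ χK := by
    rw [Polynomial.dvd_iff_isRoot, Polynomial.IsRoot.def, hevalK]; exact hrootQ
  have hd3 : (X - C ((r ^ (q ^ 2)) ^ (q ^ 2))) ∣ χK := by
    rw [Polynomial.dvd_iff_isRoot, Polynomial.IsRoot.def, hevalK]; exact hrootQ2
  have hc23 : IsCoprime (X - C (r ^ (q ^ 2))) (X - C ((r ^ (q ^ 2)) ^ (q ^ 2))) :=
    Polynomial.isCoprime_X_sub_C_of_isUnit_sub (sub_ne_zero.mpr (Ne.symm hr2)).isUnit
  have hc1 : IsCoprime (X - C r) ((X - C (r ^ (q ^ 2))) * (X - C ((r ^ (q ^ 2)) ^ (q ^ 2)))) :=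
    IsCoprime.mul_right
      (Polynomial.isCoprime_X_sub_C_of_isUnit_sub (sub_ne_zero.mpr (Ne.symm hr1)).isUnit)
      (Polynomial.isCoprime_X_sub_C_of_isUnit_sub (sub_ne_zero.mpr (Ne.symm hr3)).isUnit)
  have hdvd := hc1.mul_dvd hd1 (hc23.mul_dvd hd2 hd3)
  have hχKmon : χK.Monic := by rw [hχK]; exact hmon.map _
  have hχKdeg : χK.natDegree = 3 := by rw [hχK, Polynomial.natDegree_map, hdeg]
  have hprodmon : ((X - C r) * ((X - C (r ^ (q ^ 2))) *
      (X - C ((r ^ (q ^ 2)) ^ (q ^ 2))))).Monic :=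
    (monic_X_sub_C _).mul ((monic_X_sub_C _).mul (monic_X_sub_C _))
  have hproddeg : ((X - C r) * ((X - C (r ^ (q ^ 2))) *
      (X - C ((r ^ (q ^ 2)) ^ (q ^ 2))))).natDegree = 3 := by
    rw [Polynomial.Monic.natDegree_mul (monic_X_sub_C _)
      ((monic_X_sub_C _).mul (monic_X_sub_C _)),
      Polynomial.Monic.natDegree_mul (monic_X_sub_C _) (monic_X_sub_C _), natDegree_X_sub_C,
      natDegree_X_sub_C, natDegree_X_sub_C]
  have hfac : χK = (X - C r) * ((X - C (r ^ (q ^ 2))) * (X - C ((r ^ (q ^ 2)) ^ (q ^ 2)))) :=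
    Polynomial.eq_of_monic_of_dvd_of_natDegree_le hprodmon hχKmon hdvd
      (by rw [hχKdeg, hproddeg])
  have ht := Cfsg.Agent.Helper14.Psu3a.root_closed p q hF M hU r (by rw [← hχ]; exact hroot)
  rw [← hχ, ← hevalK, hfac, Polynomial.eval_mul, Polynomial.eval_mul, Polynomial.eval_sub,
    Polynomial.eval_sub, Polynomial.eval_sub, Polynomial.eval_X, Polynomial.eval_C,
    Polynomial.eval_C, Polynomial.eval_C] at ht
  haveI : CharP (AdjoinRoot χ) p :=
    charP_of_injective_algebraMap (algebraMap F (AdjoinRoot χ)).injective p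
  have hqinj : ∀ x : AdjoinRoot χ, x ^ q = 1 → x = 1 := by
    intro x hx
    have h1 : iterateFrobenius (AdjoinRoot χ) p m x = iterateFrobenius (AdjoinRoot χ) p m 1 := by
      rw [iterateFrobenius_def, iterateFrobenius_def, ← hm, hx, one_pow]
    exact (iterateFrobenius (AdjoinRoot χ) p m).injective h1
  have hq1 : r ^ (q + 1) ≠ 1 := by
    intro h
    apply hr1
    have e : q ^ 2 = (q + 1) * (q - 1) + 1 := by
      obtain ⟨t, rfl⟩ : ∃ t, q = t + 1 := ⟨q - 1, by omega⟩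
      simp only [Nat.add_sub_cancel]
      ring
    rw [e, pow_add, pow_mul, h, one_pow, one_mul, pow_one]
  have hkey : r ^ (q ^ 3 + 1) = 1 := by
    rcases mul_eq_zero.mp ht with h | h
    · exfalso
      apply hq1
      have h2 : (r ^ q)⁻¹ = r := sub_eq_zero.mp h
      calc r ^ (q + 1) = r ^ q * r := pow_succ r q
        _ = r ^ q * (r ^ q)⁻¹ := by rw [h2]
        _ = 1 := mul_inv_cancel₀ (pow_ne_zero q hr0)
    · rcases mul_eq_zero.mp h with h' | h'
      · exfalso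
        apply hq1
        have h2 : (r ^ q)⁻¹ = r ^ (q ^ 2) := sub_eq_zero.mp h'
        have h3 : r ^ (q ^ 2) * r ^ q = 1 := by
          rw [← h2]; exact inv_mul_cancel₀ (pow_ne_zero q hr0)
        apply hqinj
        rw [← pow_mul, ← h3, ← pow_add]
        congr 1
        ring
      · have h2 : (r ^ q)⁻¹ = (r ^ (q ^ 2)) ^ (q ^ 2) := sub_eq_zero.mp h'
        have h3 : (r ^ (q ^ 2)) ^ (q ^ 2) * r ^ q = 1 := by
          rw [← h2]; exact inv_mul_cancel₀ (pow_ne_zero q hr0)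
        apply hqinj
        rw [← pow_mul, ← h3, ← pow_mul, ← pow_add]
        congr 1
        ring
  have hmk : AdjoinRoot.mk χ (X ^ (q ^ 3 + 1) - 1 : Polynomial F) = 0 := by
    rw [map_sub, map_pow, AdjoinRoot.mk_X, map_one, ← hr, hkey, sub_self]
  obtain ⟨g, hg⟩ := AdjoinRoot.mk_eq_zero.mp hmk
  have h := Matrix.aeval_self_charpoly M
  rw [← hχ] at h
  have h2 : Polynomial.aeval M (X ^ (q ^ 3 + 1) - 1 : Polynomial F) = 0 := by
    rw [hg, map_mul, h, zero_mul]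
  rw [map_sub, map_pow, Polynomial.aeval_X, map_one] at h2
  exact sub_eq_zero.mp h2

theorem exists_s (q B : ℕ) (hq : 3 ≤ q) (hB : B + q = q ^ 2) :
    ∃ s : ℕ, s.Prime ∧ s ∣ B + 1 ∧ s ≠ 3 := by
  have hB7 : 7 ≤ B + 1 := by nlinarith [Nat.mul_le_mul_right q hq]
  have h9 : ¬ 9 ∣ B + 1 := by
    intro h
    have h1 : ((B + 1 : ℕ) : ZMod 9) = 0 := (ZMod.natCast_eq_zero_iff _ 9).mpr h
    have h2 : ((B + q : ℕ) : ZMod 9) = ((q ^ 2 : ℕ) : ZMod 9) := by rw [hB]
    push_cast at h1 h2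
    have h3 : (q : ZMod 9) ^ 2 - (q : ZMod 9) + 1 = 0 := by linear_combination h1 - h2
    exact (by decide : ∀ x : ZMod 9, x ^ 2 - x + 1 ≠ 0) (q : ZMod 9) h3
  by_cases h3 : 3 ∣ B + 1
  · obtain ⟨t, ht⟩ := h3
    have ht2 : t ≠ 1 := by omega
    refine ⟨t.minFac, Nat.minFac_prime ht2, ?_, ?_⟩
    · rw [ht]; exact Dvd.dvd.mul_left (Nat.minFac_dvd t) 3
    · intro h
      apply h9
      have h4 : 3 ∣ t := by rw [← h]; exact Nat.minFac_dvd t
      obtain ⟨u, hu⟩ := h4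
      exact ⟨u, by rw [ht, hu]; ring⟩
  · refine ⟨(B + 1).minFac, Nat.minFac_prime (by omega), Nat.minFac_dvd _, ?_⟩
    intro h
    apply h3
    rw [← h]; exact Nat.minFac_dvd _

theorem exists_irr {F : Type*} [Field F] [Fintype F] (p : ℕ) [Fact p.Prime] [CharP F p] (q : ℕ)
    (hF : Fintype.card F = q ^ 2) (hp : p ≠ 2) :
    ∃ Y : Matrix (Fin 3) (Fin 3) F, Yᵀ * Y.map (fun x => x ^ q) = 1 ∧ Y.det = 1 ∧
      Irreducible Y.charpoly := by
  classical
  have hpp : p.Prime := Fact.out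
  obtain ⟨m, hm⟩ := Cfsg.Agent.Helper14.Psu3a.q_pow p q hF
  have hq := Cfsg.Agent.Helper8.SULag.qf_of_card hF
  have hq2 : 2 ≤ q := by
    have h1 : 2 ≤ Fintype.card F := Fintype.one_lt_card
    rw [hF] at h1
    by_contra h
    have h2 : q ≤ 1 := by omega
    have h3 : q ^ 2 ≤ 1 := by nlinarith
    omega
  have hq3 : 3 ≤ q := by
    have hm0 : m ≠ 0 := by
      rintro rfl
      rw [pow_zero] at hm
      omega
    have hp3 : 3 ≤ p := by
      have := hpp.two_le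
      omega
    calc 3 ≤ p := hp3
      _ = p ^ 1 := (pow_one p).symm
      _ ≤ p ^ m := Nat.pow_le_pow_right hpp.pos (by omega)
      _ = q := hm.symm
  obtain ⟨B, hB⟩ : ∃ B, B + q = q ^ 2 := ⟨q ^ 2 - q, Nat.sub_add_cancel (by nlinarith)⟩
  obtain ⟨s, hs, hsB, hs3⟩ := exists_s q B hq3 hB
  haveI : Fact s.Prime := ⟨hs⟩
  have hz1 : ((B + 1 : ℕ) : ZMod s) = 0 := (ZMod.natCast_eq_zero_iff _ s).mpr hsB
  have hz2 : ((B + q : ℕ) : ZMod s) = ((q ^ 2 : ℕ) : ZMod s) := by rw [hB]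
  push_cast at hz1 hz2
  have hz3 : (q : ZMod s) ^ 2 - (q : ZMod s) + 1 = 0 := by linear_combination hz1 - hz2
  have hz4 : (q : ZMod s) ^ 3 = -1 := by linear_combination ((q : ZMod s) + 1) * hz3
  have hz5 : (-(q : ZMod s)) ^ 3 = 1 := by linear_combination (-1 : ZMod s) * hz4
  have hcardne : (q : ZMod s) ^ 2 ≠ 1 := by
    intro h
    have hq' : (q : ZMod s) = 2 := by linear_combination h - hz3
    have h3 : ((3 : ℕ) : ZMod s) = 0 := by
      rw [hq'] at h
      push_cast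
      linear_combination h
    have h4 : s ∣ 3 := (ZMod.natCast_eq_zero_iff 3 s).mp h3
    exact hs3 ((Nat.prime_dvd_prime_iff_eq hs Nat.prime_three).mp h4)
  have hsq : ¬ s ∣ Fintype.card F := by
    intro h
    rw [hF] at h
    have h1 : ((q ^ 2 : ℕ) : ZMod s) = 0 := (ZMod.natCast_eq_zero_iff _ s).mpr h
    push_cast at h1
    have h2 : (q : ZMod s) = 0 := (pow_eq_zero_iff (two_ne_zero)).mp h1
    rw [h2] at hz3
    simp at hz3
  have hord3 : orderOf ((Fintype.card F : ℕ) : ZMod s) = 3 := by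
    rw [hF]
    push_cast
    apply orderOf_eq_prime
    · have h1 : ((q : ZMod s) ^ 2) ^ 3 = ((q : ZMod s) ^ 3) ^ 2 := by ring
      rw [h1, hz4]
      norm_num
    · exact hcardne
  have hdvd : s ∣ Nat.card (Cfsg.SU 3 F q) :=
    Cfsg.Agent.S2365.dvd_card_SU hF 3 (by norm_num) s (Or.inr ⟨3, by norm_num, le_refl 3, hz5⟩)
  obtain ⟨x, hx⟩ := exists_prime_orderOf_dvd_card' s hdvd
  obtain ⟨Y, hY⟩ : ∃ Y : Matrix (Fin 3) (Fin 3) F,
      Y = ((x : Matrix.SpecialLinearGroup (Fin 3) F) : Matrix (Fin 3) (Fin 3) F) := ⟨_, rfl⟩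
  have hYU : Yᵀ * Y.map (fun x => x ^ q) = 1 := by
    apply (Cfsg.Agent.Helper14.Psu3a.herm_iff hq Y).mp
    rw [hY]
    exact x.2
  have hYdet : Y.det = 1 := by
    rw [hY]; exact (x : Matrix.SpecialLinearGroup (Fin 3) F).det_coe
  have hYs : Y ^ s = 1 := by
    have h1 : x ^ s = 1 := by rw [← hx]; exact pow_orderOf_eq_one x
    have h2 : (((x ^ s : Cfsg.SU 3 F q) : Matrix.SpecialLinearGroup (Fin 3) F) :
        Matrix (Fin 3) (Fin 3) F) = Y ^ s := by
      rw [Subgroup.coe_pow, Matrix.SpecialLinearGroup.coe_pow, hY]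
    have h3 : (((1 : Cfsg.SU 3 F q) : Matrix.SpecialLinearGroup (Fin 3) F) :
        Matrix (Fin 3) (Fin 3) F) = 1 := rfl
    rw [← h2, h1, h3]
  have hY1 : Y ≠ 1 := by
    intro h
    have h1 : x = 1 := by
      apply Subtype.ext
      apply Subtype.ext
      show ((x : Matrix.SpecialLinearGroup (Fin 3) F) : Matrix (Fin 3) (Fin 3) F) = 1
      rw [← hY]
      exact h
    rw [h1, orderOf_one] at hx
    exact hs.one_lt.ne hx
  have hnoroot : ∀ c : F, ¬ (Y.charpoly).IsRoot c := by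
    intro c hc
    rw [Polynomial.IsRoot.def, Matrix.eval_charpoly] at hc
    obtain ⟨v, hv0, hv⟩ := Matrix.exists_mulVec_eq_zero_iff.mpr hc
    have hYv : Y *ᵥ v = c • v := by
      have h1 : (Matrix.scalar (Fin 3) c - Y) *ᵥ v = c • v - Y *ᵥ v := by
        rw [Matrix.sub_mulVec]
        congr 1
        ext i
        simp [Matrix.scalar_apply, Matrix.mulVec_diagonal]
      rw [h1] at hv
      exact (sub_eq_zero.mp hv).symm
    have hW : ∀ w ∈ Submodule.span F ({v} : Set (Fin 3 → F)),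
        Y *ᵥ w ∈ Submodule.span F ({v} : Set (Fin 3 → F)) := by
      intro w hw
      obtain ⟨a, rfl⟩ := Submodule.mem_span_singleton.mp hw
      rw [Matrix.mulVec_smul, hYv]
      exact Submodule.smul_mem _ _ (Submodule.smul_mem _ _ (Submodule.mem_span_singleton_self v))
    rcases Cfsg.Agent.Helper14.PslAdj2.irr_of_ord 3 (by norm_num) s hsq hord3.symm Y hYs hY1
      (Submodule.span F ({v} : Set (Fin 3 → F))) hW with h | h
    · exact hv0 (Submodule.span_singleton_eq_bot.mp h)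
    · have h1 : Module.finrank F (Submodule.span F ({v} : Set (Fin 3 → F))) = 1 :=
        finrank_span_singleton hv0
      rw [h, finrank_top, Module.finrank_fin_fun] at h1
      omega
  have hirr : Irreducible Y.charpoly :=
    Polynomial.irreducible_of_degree_le_three_of_not_isRoot
      (by rw [Matrix.charpoly_natDegree_eq_dim, Fintype.card_fin]; decide) hnoroot
  exact ⟨Y, hYU, hYdet, hirr⟩

theorem ex_d {F : Type*} [Field F] [Fintype F] (p : ℕ) [Fact p.Prime] [CharP F p] (q : ℕ)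
    (hF : Fintype.card F = q ^ 2) (hp : p ≠ 2) :
    ∃ M : Matrix (Fin 3) (Fin 3) F, Mᵀ * M.map (fun x => x ^ q) = 1 ∧ M.det = 1 ∧
      (∃ c : F, M ^ ((q ^ 2 - q + 1) / Nat.gcd 3 (q + 1)) =
        c • (1 : Matrix (Fin 3) (Fin 3) F)) ∧
      ∀ j : ℕ, (∃ c : F, M ^ j = c • (1 : Matrix (Fin 3) (Fin 3) F)) →
        ((q ^ 2 - q + 1) / Nat.gcd 3 (q + 1)) ∣ j := by
  classical
  have hpp : p.Prime := Fact.out
  obtain ⟨m, hm⟩ := Cfsg.Agent.Helper14.Psu3a.q_pow p q hF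
  have hq2 : 2 ≤ q := by
    have h1 : 2 ≤ Fintype.card F := Fintype.one_lt_card
    rw [hF] at h1
    by_contra h
    have h2 : q ≤ 1 := by omega
    have h3 : q ^ 2 ≤ 1 := by nlinarith
    omega
  obtain ⟨Y, hYU, hYdet, hirr⟩ := exists_irr p q hF hp
  have hYpow : Y ^ (q ^ 3 + 1) = 1 := key_pow p q hF Y hYdet hYU hirr
  obtain ⟨σ, hσ⟩ : ∃ σ : F →+* F, ∀ x, σ x = x ^ q :=
    ⟨iterateFrobenius F p m, fun x => by rw [iterateFrobenius_def, ← hm]⟩
  have hmap : ∀ A : Matrix (Fin 3) (Fin 3) F, A.map (fun x => x ^ q) = A.map σ := by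
    intro A
    ext i j
    simp only [Matrix.map_apply, hσ]
  have hτmul : ∀ A B : Matrix (Fin 3) (Fin 3) F,
      ((A * B).map σ)ᵀ = (B.map σ)ᵀ * (A.map σ)ᵀ := by
    intro A B
    rw [Matrix.map_mul, Matrix.transpose_mul]
  have hτadd : ∀ A B : Matrix (Fin 3) (Fin 3) F,
      ((A + B).map σ)ᵀ = (A.map σ)ᵀ + (B.map σ)ᵀ := by
    intro A B
    rw [Matrix.map_add σ (map_add σ), Matrix.transpose_add]
  have hτsmul : ∀ (c : F) (A : Matrix (Fin 3) (Fin 3) F),
      ((c • A).map σ)ᵀ = σ c • (A.map σ)ᵀ := by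
    intro c A
    ext i j
    simp only [Matrix.transpose_apply, Matrix.map_apply, Matrix.smul_apply, smul_eq_mul, map_mul]
  have hτone : ((1 : Matrix (Fin 3) (Fin 3) F).map σ)ᵀ = 1 := by
    rw [Matrix.map_one σ (map_zero σ) (map_one σ), Matrix.transpose_one]
  have hτpow : ∀ (A : Matrix (Fin 3) (Fin 3) F) (n : ℕ),
      ((A ^ n).map σ)ᵀ = ((A.map σ)ᵀ) ^ n := by
    intro A n
    induction n with
    | zero => rw [pow_zero, pow_zero, hτone]
    | succ n ih => rw [pow_succ A n, hτmul, ih, ← pow_succ']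
  have hτY : (Y.map σ)ᵀ = Y ^ (q ^ 3) := by
    have h1 : (Y.map σ)ᵀ * Y = 1 := by
      have h2 := congrArg Matrix.transpose hYU
      rw [hmap, Matrix.transpose_mul, Matrix.transpose_transpose, Matrix.transpose_one] at h2
      exact h2
    have h3 : Y * Y ^ (q ^ 3) = 1 := by rw [← pow_succ', hYpow]
    calc (Y.map σ)ᵀ = (Y.map σ)ᵀ * (Y * Y ^ (q ^ 3)) := by rw [h3, mul_one]
      _ = ((Y.map σ)ᵀ * Y) * Y ^ (q ^ 3) := by rw [mul_assoc]
      _ = Y ^ (q ^ 3) := by rw [h1, one_mul]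
  have hFq : ∀ a : F, a ^ (q ^ 3) = a ^ q := by
    intro a
    have h1 : a ^ (q ^ 2) = a := by rw [← hF]; exact FiniteField.pow_card a
    have h2 : q ^ 3 = q ^ 2 * q := by ring
    rw [h2, pow_mul, h1]
  have hq3p : q ^ 3 = p ^ (m * 3) := by rw [hm, ← pow_mul]
  have hstar : ∀ f : Polynomial F,
      ((Polynomial.aeval Y f).map σ)ᵀ = (Polynomial.aeval Y f) ^ (q ^ 3) := by
    intro f
    refine Polynomial.induction_on f ?_ ?_ ?_
    · intro a
      rw [Polynomial.aeval_C, Algebra.algebraMap_eq_smul_one, hτsmul, hτone, _root_.smul_pow,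
        one_pow, hσ, hFq]
    · intro f g hf hg
      have hc : Commute (Polynomial.aeval Y f) (Polynomial.aeval Y g) :=
        (Commute.all f g).map (Polynomial.aeval Y)
      rw [map_add, hτadd, hf, hg, hq3p]
      exact (add_pow_char_pow_of_commute p (m * 3) hc).symm
    · intro n a _
      have h1 : Polynomial.aeval Y (C a * X ^ (n + 1)) = a • Y ^ (n + 1) := by
        rw [map_mul, Polynomial.aeval_C, map_pow, Polynomial.aeval_X,
          Algebra.algebraMap_eq_smul_one, smul_mul_assoc, one_mul]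
      rw [h1, hτsmul, hτpow, hτY, hσ, _root_.smul_pow, hFq, ← pow_mul, ← pow_mul,
        mul_comm (n + 1) (q ^ 3)]
  obtain ⟨χ, hχ⟩ : ∃ χ : Polynomial F, χ = Y.charpoly := ⟨_, rfl⟩
  rw [← hχ] at hirr
  haveI : Fact (Irreducible χ) := ⟨hirr⟩
  have hmon : χ.Monic := by rw [hχ]; exact Matrix.charpoly_monic Y
  have hdeg : χ.natDegree = 3 := by
    rw [hχ, Matrix.charpoly_natDegree_eq_dim, Fintype.card_fin]
  have hχ0 : χ ≠ 0 := hmon.ne_zero
  obtain ⟨pb, hpb⟩ : ∃ pb : PowerBasis F (AdjoinRoot χ), pb = AdjoinRoot.powerBasis hχ0 :=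
    ⟨_, rfl⟩
  have hdim : pb.dim = 3 := by rw [hpb, AdjoinRoot.powerBasis_dim, hdeg]
  haveI : Module.Finite F (AdjoinRoot χ) := PowerBasis.finite pb
  haveI : Finite (AdjoinRoot χ) := Module.finite_of_finite F
  have hfr : Module.finrank F (AdjoinRoot χ) = 3 := by rw [PowerBasis.finrank pb, hdim]
  haveI := Fintype.ofFinite (AdjoinRoot χ)
  have hcardK : Fintype.card (AdjoinRoot χ) = q ^ 2 * q ^ 2 * q ^ 2 := by
    rw [← Nat.card_eq_fintype_card, Module.natCard_eq_pow_finrank (K := F) (V := AdjoinRoot χ),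
      hfr, Nat.card_eq_fintype_card, hF]
    ring
  have h0 : ∀ a ∈ Ideal.span ({χ} : Set (Polynomial F)), Polynomial.aeval Y a = 0 := by
    intro a ha
    obtain ⟨g, hg⟩ := Ideal.mem_span_singleton.mp ha
    rw [hg, map_mul, hχ, Matrix.aeval_self_charpoly, zero_mul]
  obtain ⟨Φ, hΦ⟩ : ∃ Φ : AdjoinRoot χ →ₐ[F] Matrix (Fin 3) (Fin 3) F,
      ∀ f : Polynomial F, Φ (AdjoinRoot.mk χ f) = Polynomial.aeval Y f :=
    ⟨Ideal.Quotient.liftₐ (Ideal.span ({χ} : Set (Polynomial F))) (Polynomial.aeval Y) h0,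
      fun f => rfl⟩
  have hΦinj : Function.Injective Φ := fun a b h =>
    (Φ : AdjoinRoot χ →+* Matrix (Fin 3) (Fin 3) F).injective h
  have hstarΦ : ∀ k : AdjoinRoot χ, ((Φ k).map σ)ᵀ = (Φ k) ^ (q ^ 3) := by
    intro k
    obtain ⟨f, rfl⟩ := AdjoinRoot.mk_surjective k
    rw [hΦ]
    exact hstar f
  have hunit : ∀ k : AdjoinRoot χ, k ^ (q ^ 3 + 1) = 1 →
      (Φ k)ᵀ * (Φ k).map (fun x => x ^ q) = 1 := by
    intro k hk
    have h1 : ((Φ k).map σ)ᵀ * Φ k = 1 := by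
      rw [hstarΦ, ← pow_succ, ← map_pow, hk, map_one]
    have h2 := congrArg Matrix.transpose h1
    rw [Matrix.transpose_mul, Matrix.transpose_transpose, Matrix.transpose_one] at h2
    rw [hmap]
    exact h2
  have hdetU : ∀ A : Matrix (Fin 3) (Fin 3) F, Aᵀ * A.map (fun x => x ^ q) = 1 →
      A.det ^ (q + 1) = 1 := by
    intro A hA
    have h1 := congrArg Matrix.det hA
    rw [Matrix.det_mul, Matrix.det_transpose, Matrix.det_one, hmap] at h1
    have h2 : (A.map σ).det = A.det ^ q := by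
      rw [← hσ]
      exact (RingHom.map_det σ A).symm
    rw [h2, ← pow_succ'] at h1
    exact h1
  obtain ⟨ω, hω⟩ := IsCyclic.exists_generator (α := (AdjoinRoot χ)ˣ)
  have hordω : orderOf ω = q ^ 2 * q ^ 2 * q ^ 2 - 1 := by
    rw [orderOf_eq_card_of_forall_mem_zpowers hω, Nat.card_units, Nat.card_eq_fintype_card,
      hcardK]
  obtain ⟨Cc, hCc⟩ : ∃ Cc, Cc + 1 = q ^ 3 :=
    ⟨q ^ 3 - 1, Nat.sub_add_cancel (Nat.one_le_pow _ _ (by omega))⟩
  have hCc0 : 0 < Cc := by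
    have h8 : 2 ^ 3 ≤ q ^ 3 := Nat.pow_le_pow_left hq2 3
    omega
  obtain ⟨B, hB⟩ : ∃ B, B + q = q ^ 2 := ⟨q ^ 2 - q, Nat.sub_add_cancel (by nlinarith)⟩
  have hBdef : q ^ 2 - q = B := by omega
  have hq31 : q ^ 3 + 1 = (q + 1) * (B + 1) := by
    have h1 : (q + 1) * (B + 1) + q ^ 2 = q * (B + q) + (B + q) + 1 := by ring
    rw [hB] at h1
    have h2 : q * q ^ 2 = q ^ 3 := by ring
    omega
  have h6 : q ^ 2 * q ^ 2 * q ^ 2 - 1 = Cc * (q ^ 3 + 1) := by
    have h1 : q ^ 2 * q ^ 2 * q ^ 2 = q ^ 3 * q ^ 3 := by ring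
    have h2 : (Cc + 1) * (Cc + 1) = Cc * (Cc + 1 + 1) + 1 := by ring
    rw [h1, ← hCc, h2, Nat.add_sub_cancel]
  obtain ⟨w, hw⟩ : ∃ w : AdjoinRoot χ, w = (ω : AdjoinRoot χ) := ⟨_, rfl⟩
  have hordw : orderOf w = Cc * (q + 1) * (B + 1) := by
    rw [hw, orderOf_units, hordω, h6, hq31, mul_assoc]
  obtain ⟨k0, hk0⟩ : ∃ k0 : AdjoinRoot χ, k0 = w ^ Cc := ⟨_, rfl⟩
  have hk0pow : k0 ^ (q ^ 3 + 1) = 1 := by
    rw [hk0, ← pow_mul, hq31, ← mul_assoc, ← hordw]
    exact pow_orderOf_eq_one w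
  obtain ⟨k1, hk1⟩ : ∃ k1 : AdjoinRoot χ, k1 = k0 ^ (q + 1) := ⟨_, rfl⟩
  have hk1pow : k1 ^ (q ^ 3 + 1) = 1 := by
    rw [hk1, ← pow_mul, mul_comm, pow_mul, hk0pow, one_pow]
  have hk1ord : orderOf k1 = B + 1 := by
    have h1 : k1 = w ^ (Cc * (q + 1)) := by rw [hk1, hk0, ← pow_mul]
    have h2 : Cc * (q + 1) ≠ 0 := Nat.mul_ne_zero hCc0.ne' (by omega)
    rw [h1, orderOf_pow_of_dvd h2 (by rw [hordw]; exact Dvd.intro _ rfl), hordw,
      Nat.mul_div_cancel_left _ (Nat.pos_of_ne_zero h2)]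
  have hk10 : k1 ≠ 0 := by
    intro h
    rw [h, zero_pow (by positivity)] at hk1pow
    exact zero_ne_one hk1pow
  obtain ⟨d, hd⟩ : ∃ d, d = Nat.gcd 3 (q + 1) := ⟨_, rfl⟩
  rw [hBdef, ← hd]
  have hd0 : 0 < d := by rw [hd]; exact Nat.gcd_pos_of_pos_left _ (by norm_num)
  have hsum2 : B + 1 + (q + 1) * 2 = 3 + (q + 1) * q := by
    have h1 : B + 1 + (q + 1) * 2 = (B + q) + q + 3 := by ring
    rw [h1, hB]; ring
  have hg : Nat.gcd (B + 1) (q + 1) = d := by
    rw [hd, Nat.gcd_comm (B + 1) (q + 1), ← Nat.gcd_add_mul_left_right (q + 1) (B + 1) 2, hsum2,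
      Nat.gcd_add_mul_left_right, Nat.gcd_comm]
  have hdA : d ∣ B + 1 := by rw [← hg]; exact Nat.gcd_dvd_left _ _
  have hdq : d ∣ q + 1 := by rw [← hg]; exact Nat.gcd_dvd_right _ _
  obtain ⟨N4, hN4⟩ : ∃ N4, N4 = (B + 1) / d := ⟨_, rfl⟩
  rw [← hN4]
  have hN4d : N4 * d = B + 1 := by rw [hN4]; exact Nat.div_mul_cancel hdA
  obtain ⟨e, he⟩ : ∃ e, e = (q + 1) / d := ⟨_, rfl⟩
  have hed : e * d = q + 1 := by rw [he]; exact Nat.div_mul_cancel hdq
  have hcop2 : Nat.Coprime N4 e := by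
    have h := Nat.coprime_div_gcd_div_gcd (m := B + 1) (n := q + 1) (by rw [hg]; exact hd0)
    rw [hg] at h
    rw [hN4, he]; exact h
  obtain ⟨t, ht⟩ : ∃ t, q = t + 1 := ⟨q - 1, by omega⟩
  have hcop1 : Nat.Coprime (B + 1) t := by
    have h1 : B + 1 = 1 + t * (t + 1) := by
      have h2 : B + q = q ^ 2 := hB
      rw [ht] at h2
      have h3 : (t + 1) ^ 2 = t * (t + 1) + (t + 1) := by ring
      rw [h3] at h2
      omega
    rw [Nat.coprime_comm]
    show Nat.gcd t (B + 1) = 1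
    rw [h1, Nat.gcd_add_mul_left_right, Nat.gcd_one_right]
  have hcard1 : Fintype.card F - 1 = t * (q + 1) := by
    rw [hF, ht]
    have h : (t + 1) ^ 2 = t * (t + 1 + 1) + 1 := by ring
    rw [h, Nat.add_sub_cancel]
  have hdcard : d ∣ Fintype.card F - 1 := by
    rw [hcard1]; exact Dvd.dvd.mul_left hdq _
  refine ⟨Φ k1, hunit k1 hk1pow, ?_, ?_, ?_⟩
  · rw [hk1, map_pow, Matrix.det_pow]
    exact hdetU (Φ k0) (hunit k0 hk0pow)
  · have hz : (k1 ^ N4) ^ d = 1 := by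
      rw [← pow_mul, hN4d, ← hk1ord]; exact pow_orderOf_eq_one k1
    obtain ⟨c, hc⟩ := Cfsg.Agent.Helper14.Psl3c.root_mem (F := F) (K := AdjoinRoot χ)
      d hd0 hdcard _ hz
    refine ⟨c, ?_⟩
    rw [← map_pow, ← hc, AlgHom.commutes, Algebra.algebraMap_eq_smul_one]
  · rintro j ⟨c, hc⟩
    have hsc : Φ (algebraMap F (AdjoinRoot χ) c) = c • (1 : Matrix (Fin 3) (Fin 3) F) := by
      rw [AlgHom.commutes, Algebra.algebraMap_eq_smul_one]
    rw [← map_pow, ← hsc] at hc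
    have h2 : k1 ^ j = algebraMap F (AdjoinRoot χ) c := hΦinj hc
    have hc0 : c ≠ 0 := by
      rintro rfl
      rw [map_zero] at h2
      exact (pow_ne_zero j hk10) h2
    have h3 : k1 ^ (j * (Fintype.card F - 1)) = 1 := by
      rw [pow_mul, h2, ← map_pow, FiniteField.pow_card_sub_one_eq_one c hc0, map_one]
    have h4 := orderOf_dvd_of_pow_eq_one h3
    rw [hk1ord, hcard1] at h4
    have h5 : B + 1 ∣ j * (q + 1) := by
      apply Nat.Coprime.dvd_of_dvd_mul_right hcop1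
      have h6' : j * (q + 1) * t = j * (t * (q + 1)) := by ring
      rw [h6']; exact h4
    rw [← hN4d, ← hed] at h5
    have h7 : N4 * d ∣ (j * e) * d := by
      have h8 : j * e * d = j * (e * d) := by ring
      rw [h8]; exact h5
    have h9 : N4 ∣ j * e := Nat.dvd_of_mul_dvd_mul_right hd0 h7
    exact Nat.Coprime.dvd_of_dvd_mul_right hcop2 h9

end Cfsg.Agent.Helper14.Psu3d
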