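import Mathlib
import Cfsg.Agent.Helper14.SylTorus

/-!
# Tori in `GL`, `SL`: the homocyclic `r`-subgroups
-/

set_option autoImplicit false

namespace Cfsg.Agent.Helper14.SylTorus

open Finset

/-- the homocyclic `r`-torus of rank `a` in `GL n F`, for `a * d ≤ n`. -/
theorem gl_torus {F : Type*} [Field F] [Fintype F] (n : ℕ) (r : ℕ) [Fact r.Prime]
    (hrq : ¬ r ∣ Fintype.card F) (a : ℕ)
    (ha : a * orderOf ((Fintype.card F : ℕ) : ZMod r) ≤ n) :
    ∃ Φ : (Fin a → Multiplicative (ZMod (r ^ padicValNat r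
      ((Polynomial.cyclotomic (orderOf ((Fintype.card F : ℕ) : ZMod r)) ℤ).eval
        ((Fintype.card F : ℕ) : ℤ)).natAbs))) →* GL (Fin n) F, Function.Injective Φ := by
  classical
  obtain ⟨d, hd⟩ : ∃ d, d = orderOf ((Fintype.card F : ℕ) : ZMod r) := ⟨_, rfl⟩
  obtain ⟨k, hk⟩ : ∃ k, k = padicValNat r
      ((Polynomial.cyclotomic d ℤ).eval ((Fintype.card F : ℕ) : ℤ)).natAbs := ⟨_, rfl⟩
  rw [← hd] at ha ⊢
  rw [← hk]
  have hq2 : 2 ≤ Fintype.card F := Fintype.one_lt_card
  have hd0 : 0 < d := by rw [hd]; exact ord_pos r _ hrq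
  obtain ⟨p, hp⟩ := CharP.exists F
  haveI := hp
  haveI : Fact p.Prime := ⟨CharP.char_is_prime F p⟩
  haveI : NeZero d := ⟨hd0.ne'⟩
  haveI : Fintype (FiniteField.Extension F p d) := Fintype.ofFinite _
  have hdim : Module.finrank F (FiniteField.Extension F p d) = d :=
    FiniteField.finrank_extension F p d
  have hLcard : Nat.card (FiniteField.Extension F p d)ˣ = Fintype.card F ^ d - 1 := by
    rw [Nat.card_units, Nat.card_eq_fintype_card,
      Module.card_eq_pow_finrank (K := F) (V := FiniteField.Extension F p d), hdim]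
  have hkd : r ^ k ∣ Fintype.card F ^ d - 1 := by
    rw [hk, hd, ← val_cyc r _ hq2 hrq]
    exact pow_padicValNat_dvd
  obtain ⟨f, hf⟩ := exists_hom_zmod (C := (FiniteField.Extension F p d)ˣ) (r ^ k)
    (by rw [hLcard]; exact hkd)
  obtain ⟨φ, hφ⟩ := torusGL (F := F) (L := FiniteField.Extension F p d) a d n hdim ha
  refine ⟨φ.comp (f.compLeft (Fin a)), ?_⟩
  intro x y h
  have h1 := hφ h
  funext i
  exact hf (congrFun h1 i)

theorem pow_eq_one_zmod (m c : ℕ) (x : Fin c → Multiplicative (ZMod m)) : x ^ m = 1 := by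
  funext i
  rw [Pi.pow_apply, Pi.one_apply]
  apply Multiplicative.toAdd.injective
  rw [toAdd_pow, toAdd_one, nsmul_eq_mul, ZMod.natCast_self, zero_mul]

theorem det_one_of_coprime {F : Type*} [Field F] [Fintype F] {n : ℕ} {A : Type*} [Group A]
    (Φ : A →* GL (Fin n) F) (N : ℕ) (hN : ∀ x : A, x ^ N = 1)
    (hcop : Nat.Coprime N (Fintype.card F - 1)) (x : A) :
    (Φ x : Matrix (Fin n) (Fin n) F).det = 1 := by
  classical
  have h1 : (Matrix.GeneralLinearGroup.det (Φ x)) ^ N = 1 := by
    rw [← map_pow, ← map_pow, hN, map_one, map_one]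
  have h2 : (Matrix.GeneralLinearGroup.det (Φ x)) ^ (Fintype.card F - 1) = 1 := by
    rw [← Fintype.card_units, ← Nat.card_eq_fintype_card]; exact pow_card_eq_one'
  have h3 : orderOf (Matrix.GeneralLinearGroup.det (Φ x)) ∣
      Nat.gcd N (Fintype.card F - 1) :=
    Nat.dvd_gcd (orderOf_dvd_of_pow_eq_one h1) (orderOf_dvd_of_pow_eq_one h2)
  rw [hcop.gcd_eq_one, Nat.dvd_one, orderOf_eq_one_iff] at h3
  have := congrArg Units.val h3
  simpa using this

theorem lift_SL {F : Type*} [Field F] {n : ℕ} {A : Type*} [Group A] (Φ : A →* GL (Fin n) F)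
    (hΦ : Function.Injective Φ) (hdet : ∀ x, (Φ x : Matrix (Fin n) (Fin n) F).det = 1) :
    ∃ Ψ : A →* Matrix.SpecialLinearGroup (Fin n) F, Function.Injective Ψ := by
  refine ⟨{ toFun := fun x => ⟨(Φ x : Matrix (Fin n) (Fin n) F), hdet x⟩
            map_one' := by
              apply Subtype.ext
              show ((Φ 1 : GL (Fin n) F) : Matrix (Fin n) (Fin n) F) = 1
              rw [map_one]; rfl
            map_mul' := fun x y => by
              apply Subtype.ext
              show ((Φ (x * y) : GL (Fin n) F) : Matrix (Fin n) (Fin n) F) =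
                (Φ x : Matrix (Fin n) (Fin n) F) * (Φ y : Matrix (Fin n) (Fin n) F)
              rw [map_mul]; rfl }, fun x y h => ?_⟩
  apply hΦ
  apply Units.ext
  exact congrArg Subtype.val h

/-- the diagonal torus of determinant one -/
theorem diag_torus {F : Type*} [Field F] {M : Type*} [Group M] (f : M →* Fˣ)
    (hf : Function.Injective f) (n' : ℕ) :
    ∃ Φ : (Fin n' → M) →* Matrix.SpecialLinearGroup (Fin (n' + 1)) F, Function.Injective Φ := by
  classical
  obtain ⟨g, hg⟩ : ∃ g : (Fin n' → M) → (Fin (n' + 1) → Fˣ), g = fun x =>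
      (Fin.snoc (fun i => f (x i)) (∏ i, f (x i))⁻¹ : Fin (n' + 1) → Fˣ) := ⟨_, rfl⟩
  have hg1 : g 1 = 1 := by
    funext j
    rw [hg]
    refine Fin.lastCases ?_ (fun i => ?_) j <;> simp
  have hgm : ∀ x y, g (x * y) = g x * g y := by
    intro x y
    funext j
    rw [hg]
    refine Fin.lastCases ?_ (fun i => ?_) j <;> simp [Finset.prod_mul_distrib, mul_comm]
  have hgp : ∀ x, ∏ j, g x j = 1 := by
    intro x
    rw [Fin.prod_univ_castSucc, hg]
    simp
  have hgc : ∀ x (i : Fin n'), g x (Fin.castSucc i) = f (x i) := by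
    intro x i
    rw [hg]
    simp
  refine ⟨{ toFun := fun x => ⟨Matrix.diagonal (fun j => ((g x j : Fˣ) : F)), by
              rw [Matrix.det_diagonal, ← Units.coe_prod, hgp, Units.val_one]⟩
            map_one' := by
              apply Subtype.ext
              show Matrix.diagonal (fun j => ((g 1 j : Fˣ) : F)) = 1
              rw [hg1]
              simp
            map_mul' := fun x y => by
              apply Subtype.ext
              show Matrix.diagonal (fun j => ((g (x * y) j : Fˣ) : F)) =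
                Matrix.diagonal (fun j => ((g x j : Fˣ) : F)) *
                  Matrix.diagonal (fun j => ((g y j : Fˣ) : F))
              rw [Matrix.diagonal_mul_diagonal, hgm]
              simp }, fun x y h => ?_⟩
  have h1 : Matrix.diagonal (fun j => ((g x j : Fˣ) : F)) =
      Matrix.diagonal (fun j => ((g y j : Fˣ) : F)) := congrArg Subtype.val h
  have h2 := Matrix.diagonal_injective h1
  funext i
  apply hf
  rw [← hgc x i, ← hgc y i]
  exact Units.ext (congrFun h2 (Fin.castSucc i))

end Cfsg.Agent.Helper14.SylTorus
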