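import Mathlib
import Cfsg.Agent.Helper14.SylTorus2
import Cfsg.Agent.Helper2.SpEmbed
import Cfsg.Agent.Helper18.LawLevi
import Cfsg.Agent.S2394
import Cfsg.Agent.S0245

/-!
# Homocyclic tori in symplectic groups
-/

set_option autoImplicit false

namespace Cfsg.Agent.Helper14.SylTorus

open Matrix

/-- the space carrying `c` blocks of dimension `2 b` and one block of dimension `2 n'`. -/
abbrev BV (F : Type*) [Field F] (b c n' : ℕ) : Type _ :=
  (Fin c → (Fin b ⊕ Fin b → F)) × (Fin n' ⊕ Fin n' → F)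

/-- block-diagonal embedding of a power of a subgroup of `Sp (2 b)` in `Sp (2 n)`. -/
theorem sp_blocks {F : Type*} [Field F] (b c n : ℕ) (h : c * b ≤ n) {M : Type*} [Group M]
    (ψ : M →* ↥(Matrix.symplecticGroup (Fin b) F)) (hψ : Function.Injective ψ) :
    ∃ Φ : (Fin c → M) →* ↥(Matrix.symplecticGroup (Fin n) F), Function.Injective Φ := by
  classical
  obtain ⟨n', hn'⟩ : ∃ n', c * b + n' = n := ⟨n - c * b, by omega⟩
  let B : LinearMap.BilinForm F (BV F b c n') :=
    (∑ i : Fin c, (S0766.sB b F).comp ((LinearMap.proj i).comp (LinearMap.fst F _ _))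
        ((LinearMap.proj i).comp (LinearMap.fst F _ _)))
      + (S0766.sB n' F).comp (LinearMap.snd F _ _) (LinearMap.snd F _ _)
  have hB : ∀ x y : BV F b c n', B x y =
      ∑ i, S0766.sB b F (x.1 i) (y.1 i) + S0766.sB n' F x.2 y.2 := by
    intro x y
    simp only [B, LinearMap.add_apply, LinearMap.sum_apply, LinearMap.BilinForm.comp_apply,
      LinearMap.comp_apply, LinearMap.fst_apply, LinearMap.snd_apply, LinearMap.proj_apply]
  let ρ : (Fin c → M) →* Module.End F (BV F b c n') :=
    { toFun := fun x => LinearMap.prodMap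
        (LinearMap.pi fun i => (Matrix.toLin' ((ψ (x i) : Matrix.symplecticGroup (Fin b) F) :
          Matrix (Fin b ⊕ Fin b) (Fin b ⊕ Fin b) F)).comp (LinearMap.proj i))
        LinearMap.id
      map_one' := by
        apply LinearMap.ext
        rintro ⟨v, w⟩
        refine Prod.ext (funext fun i => ?_) rfl
        simp
      map_mul' := fun x y => by
        apply LinearMap.ext
        rintro ⟨v, w⟩
        refine Prod.ext (funext fun i => ?_) rfl
        simp [Matrix.mulVec_mulVec] }
  have hρ1 : ∀ x (v : BV F b c n'), ρ x v =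
      ((fun i => ((ψ (x i) : Matrix.symplecticGroup (Fin b) F) :
          Matrix (Fin b ⊕ Fin b) (Fin b ⊕ Fin b) F) *ᵥ v.1 i), v.2) := by
    intro x v
    refine Prod.ext (funext fun i => ?_) rfl
    simp [ρ]
  have hiso : ∀ x u v, B (ρ x u) (ρ x v) = B u v := by
    intro x u v
    rw [hB, hB, hρ1, hρ1]
    congr 1
    refine Finset.sum_congr rfl fun i _ => ?_
    exact Cfsg.Agent.Helper2.SpEmbed.sB_symp b _ (ψ (x i)).2 _ _
  have hBalt : B.IsAlt := by
    intro x
    rw [hB, Finset.sum_eq_zero (fun i _ => S0766.sB_alt b F _), S0766.sB_alt n' F, add_zero]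
  have hnd : ∀ a : BV F b c n', a ≠ 0 → ∃ w, B a w ≠ 0 := by
    intro a ha
    by_cases h2 : a.2 = 0
    · have h1 : a.1 ≠ 0 := fun h1 => ha (Prod.ext h1 h2)
      obtain ⟨i₀, hi₀⟩ : ∃ i₀, a.1 i₀ ≠ 0 := by
        by_contra hcon
        push_neg at hcon
        exact h1 (funext hcon)
      obtain ⟨y, hy⟩ : ∃ y, S0766.sB b F (a.1 i₀) y ≠ 0 := by
        by_contra hcon
        push_neg at hcon
        exact hi₀ ((S0766.sB_nondeg b F).1 _ hcon)
      refine ⟨(Pi.single i₀ y, 0), ?_⟩
      rw [hB]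
      simp only [map_zero, add_zero]
      rw [Finset.sum_eq_single i₀ (fun j _ hj => by rw [Pi.single_eq_of_ne hj, map_zero])
        (fun h => absurd (Finset.mem_univ _) h), Pi.single_eq_same]
      exact hy
    · obtain ⟨y, hy⟩ : ∃ y, S0766.sB n' F a.2 y ≠ 0 := by
        by_contra hcon
        push_neg at hcon
        exact h2 ((S0766.sB_nondeg n' F).1 _ hcon)
      refine ⟨(0, y), ?_⟩
      rw [hB]
      simp only [Pi.zero_apply, map_zero, Finset.sum_const_zero, zero_add]
      exact hy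
  have hdim : Module.finrank F (BV F b c n') = n + n := by
    rw [Module.finrank_prod, Module.finrank_pi_fintype]
    simp only [Module.finrank_fintype_fun_eq_card, Fintype.card_sum, Fintype.card_fin,
      Finset.sum_const, Finset.card_univ, smul_eq_mul]
    rw [← hn']
    ring
  have hρ : Function.Injective ρ := by
    intro x y hxy
    funext i
    apply hψ
    apply Subtype.ext
    apply Matrix.toLin'.injective
    apply LinearMap.ext
    intro v
    have h1 := congrArg (fun e : Module.End F (BV F b c n') => (e (Pi.single i v, 0)).1 i) hxy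
    simp only [hρ1, Pi.single_eq_same] at h1
    simpa using h1
  exact Cfsg.Agent.Helper2.SpEmbed.embed B hBalt hnd n hdim ρ hρ hiso

theorem hom_of_order {C : Type*} [Group C] (u : C) (m : ℕ) (hu : orderOf u = m) :
    ∃ f : Multiplicative (ZMod m) →* C, Function.Injective f := by
  have key : ∀ k, Nat.card (Subgroup.zpowers u) = k →
      Nonempty (Multiplicative (ZMod k) ≃* Subgroup.zpowers u) := by
    rintro k rfl
    exact ⟨zmodCyclicMulEquiv inferInstance⟩
  obtain ⟨e⟩ := key m (by rw [Nat.card_zpowers, hu])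
  exact ⟨(Subgroup.zpowers u).subtype.comp e.toMonoidHom,
    fun x y h => e.injective (Subtype.ext h)⟩

/-- the torus coming from `GL n` (useful when the order `d` of `q` mod `r` is odd). -/
theorem sp_torus_odd {F : Type*} [Field F] [Fintype F] (n : ℕ) (r : ℕ) [Fact r.Prime]
    (hrq : ¬ r ∣ Fintype.card F) (d k c : ℕ)
    (hd : d = orderOf ((Fintype.card F : ℕ) : ZMod r))
    (hk : k = padicValNat r
      ((Polynomial.cyclotomic d ℤ).eval ((Fintype.card F : ℕ) : ℤ)).natAbs)
    (hcd : c * d ≤ n) :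
    ∃ Φ : (Fin c → Multiplicative (ZMod (r ^ k))) →* ↥(Matrix.symplecticGroup (Fin n) F),
      Function.Injective Φ := by
  classical
  subst hd
  subst hk
  obtain ⟨Φ, hΦ⟩ := gl_torus (F := F) n r hrq c hcd
  exact ⟨(Cfsg.Agent.Helper18.leviSp (F := F) (Fin n)).comp Φ,
    (Cfsg.Agent.Helper18.leviSp_injective (Fin n)).comp hΦ⟩

/-- the torus of norm-one elements (when the order `d = 2 e` of `q` mod `r` is even). -/
theorem sp_torus_even {F : Type*} [Field F] [Fintype F] (n : ℕ) (r : ℕ) [hr : Fact r.Prime]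
    (hrq : ¬ r ∣ Fintype.card F) (d k c e : ℕ)
    (hd : d = orderOf ((Fintype.card F : ℕ) : ZMod r))
    (hk : k = padicValNat r
      ((Polynomial.cyclotomic d ℤ).eval ((Fintype.card F : ℕ) : ℤ)).natAbs)
    (hde : d = e + e) (hce : c * e ≤ n) :
    ∃ Φ : (Fin c → Multiplicative (ZMod (r ^ k))) →* ↥(Matrix.symplecticGroup (Fin n) F),
      Function.Injective Φ := by
  classical
  have hq2 : 2 ≤ Fintype.card F := Fintype.one_lt_card
  have hd0 : 0 < d := by rw [hd]; exact ord_pos r _ hrq
  have he0 : 0 < e := by omega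
  obtain ⟨p, hp⟩ := CharP.exists F
  haveI := hp
  haveI : Fact p.Prime := ⟨CharP.char_is_prime F p⟩
  haveI : NeZero (e + e) := ⟨by omega⟩
  haveI : Fintype (FiniteField.Extension F p (e + e)) := Fintype.ofFinite _
  have hdim : Module.finrank F (FiniteField.Extension F p (e + e)) = e + e :=
    FiniteField.finrank_extension F p (e + e)
  have hLcard : Fintype.card (FiniteField.Extension F p (e + e)) = (Fintype.card F ^ e) ^ 2 := by
    rw [Module.card_eq_pow_finrank (K := F) (V := FiniteField.Extension F p (e + e)), hdim,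
      ← pow_mul, mul_two]
  have hQ1 : 1 < Fintype.card F ^ e := Nat.one_lt_pow he0.ne' hq2
  have hkd : r ^ k ∣ Fintype.card F ^ d - 1 := by
    rw [hk, hd, ← val_cyc r _ hq2 hrq]
    exact pow_padicValNat_dvd
  have hfac : Fintype.card F ^ d - 1 = (Fintype.card F ^ e + 1) * (Fintype.card F ^ e - 1) := by
    rw [hde, pow_add]
    obtain ⟨Q, hQ⟩ : ∃ Q, Q = Fintype.card F ^ e := ⟨_, rfl⟩
    rw [← hQ] at hQ1 ⊢
    obtain ⟨Q', rfl⟩ : ∃ Q', Q = Q' + 1 := ⟨Q - 1, by omega⟩
    simp only [Nat.add_sub_cancel]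
    have : (Q' + 1) * (Q' + 1) = (Q' + 1 + 1) * Q' + 1 := by ring
    rw [this, Nat.add_sub_cancel]
  have hnr : ¬ r ∣ Fintype.card F ^ e - 1 := by
    rw [dvd_iff r _ (by omega) e, ← hd]
    intro h
    have := Nat.le_of_dvd he0 h
    omega
  have hm : r ^ k ∣ Fintype.card F ^ e + 1 := by
    rw [hfac] at hkd
    exact (Nat.Coprime.pow_left k
      ((Nat.Prime.coprime_iff_not_dvd hr.out).mpr hnr)).dvd_of_dvd_mul_right hkd
  obtain ⟨u, hu1, hu2⟩ := Cfsg.Agent.S2394.exists_order
    (L := FiniteField.Extension F p (e + e)) (Fintype.card F ^ e) (r ^ k) hLcard hQ1 hm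
  obtain ⟨φ, hφ⟩ := Cfsg.Agent.S2394.torus (F := F)
    (L := FiniteField.Extension F p (e + e)) e he0 hdim
  have huN : u ∈ (powMonoidHom (Fintype.card F ^ e + 1) :
      (FiniteField.Extension F p (e + e))ˣ →* (FiniteField.Extension F p (e + e))ˣ).ker := by
    rw [MonoidHom.mem_ker, powMonoidHom_apply]; exact hu1
  obtain ⟨f, hf⟩ := hom_of_order (⟨u, huN⟩ : ↥((powMonoidHom (Fintype.card F ^ e + 1) :
      (FiniteField.Extension F p (e + e))ˣ →* (FiniteField.Extension F p (e + e))ˣ).ker))
    (r ^ k) (by rw [Subgroup.orderOf_mk]; exact hu2)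
  exact sp_blocks e c n hce (φ.comp f) (hφ.comp hf)

/-- the `r`-part of the order of `Sp (2 n) F`. -/
theorem val_Sp {F : Type*} [Field F] [Fintype F] (n : ℕ) (r : ℕ) [hr : Fact r.Prime]
    (hrq : ¬ r ∣ Fintype.card F) :
    (Nat.card ↥(Matrix.symplecticGroup (Fin n) F)).factorization r =
      ∑ j ∈ Finset.Ico 1 (n + 1), padicValNat r (Fintype.card F ^ (2 * j) - 1) := by
  obtain ⟨q, hq⟩ : ∃ q, q = Fintype.card F := ⟨_, rfl⟩
  have hq2 : 2 ≤ q := by rw [hq]; exact Fintype.one_lt_card
  rw [Cfsg.Agent.S0245.result hq.symm n, ← hq]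
  rw [← hq] at hrq
  have hpos : ∀ i, q ^ (2 * (i + 1)) - 1 ≠ 0 := by
    intro i
    have : 2 ≤ q ^ (2 * (i + 1)) := le_trans hq2 (Nat.le_self_pow (by omega) q)
    omega
  rw [Nat.factorization_mul (pow_ne_zero _ (by omega))
    (Finset.prod_ne_zero_iff.mpr (fun i _ => hpos i)), Finsupp.add_apply,
    Nat.factorization_pow, Finsupp.smul_apply, Nat.factorization_eq_zero_of_not_dvd hrq,
    smul_zero, zero_add, Nat.factorization_prod (fun i _ => hpos i), Finsupp.finsetSum_apply,
    Finset.sum_Ico_eq_sum_range]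
  simp only [Nat.add_sub_cancel]
  refine Finset.sum_congr rfl (fun i _ => ?_)
  rw [Nat.factorization_def _ hr.out, add_comm 1 i]

end Cfsg.Agent.Helper14.SylTorus
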