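import Mathlib
import Cfsg.Prelude.Def_Transfer
import Cfsg.Agent.Helper14.Frattini
import Cfsg.Agent.Helper14.Comm

/-!
Extraspecial 2-groups as subgroups (helper14).

`Data Q z` records, at the level of the ambient group, what an extraspecial 2-subgroup `Q`
with central involution `z` satisfies: commutators and squares lie in `{1, z}` and the centre
of `Q` is `{1, z}`.  `of_extraspecial` extracts it from `Cfsg.IsExtraspecial 2 ↥Q`;
`to_extraspecial` goes back for a non-commutative subgroup.  `decomp` is the coprime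
decomposition `Q = [Q, A] * C_Q(A)` for a group `A` of odd order normalizing `Q`.
-/

set_option autoImplicit false

namespace Cfsg.Agent.Helper14.XS

open Cfsg

universe u

variable {G : Type u} [Group G]

open Classical in
/-- `1` at the identity and `-1` elsewhere. -/
noncomputable def eps (w : G) : ℤ := if w = 1 then 1 else -1

theorem eps_one : eps (1 : G) = 1 := by
  unfold eps; rw [if_pos rfl]

theorem eps_ne {w : G} (h : w ≠ 1) : eps w = -1 := by
  unfold eps; rw [if_neg h]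

theorem eps_eq_one {w : G} (h : eps w = 1) : w = 1 := by
  by_contra hw
  rw [eps_ne hw] at h
  norm_num at h

theorem eps_sq (w : G) : eps w * eps w = 1 := by
  by_cases h : w = 1
  · rw [h, eps_one]; norm_num
  · rw [eps_ne h]; norm_num

theorem eps_mul (z : G) (hzz : z * z = 1) (a b : G)
    (ha : a = 1 ∨ a = z) (hb : b = 1 ∨ b = z) : eps (a * b) = eps a * eps b := by
  by_cases hz1 : z = 1
  · subst hz1
    rcases ha with rfl | rfl <;> rcases hb with rfl | rfl <;> simp [eps_one]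
  · rcases ha with rfl | rfl <;> rcases hb with rfl | rfl
    · simp [eps_one]
    · simp [eps_one]
    · simp [eps_one]
    · rw [hzz, eps_one, eps_ne hz1]; norm_num

theorem comm_eq_one_iff (a x : G) : a * x * a⁻¹ * x⁻¹ = 1 ↔ a * x = x * a := by
  constructor
  · intro h
    calc a * x = (a * x * a⁻¹ * x⁻¹) * (x * a) := by group
      _ = x * a := by rw [h, one_mul]
  · intro h
    calc a * x * a⁻¹ * x⁻¹ = (a * x) * a⁻¹ * x⁻¹ := by group
      _ = (x * a) * a⁻¹ * x⁻¹ := by rw [h]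
      _ = 1 := by group

theorem pow_pair (z : G) (hzz : z * z = 1) (k : ℕ) : z ^ k = 1 ∨ z ^ k = z := by
  induction k with
  | zero => left; exact pow_zero z
  | succ k ih =>
    rcases ih with h | h
    · right; rw [pow_succ, h, one_mul]
    · left; rw [pow_succ, h, hzz]

/-- Squares are central when commutators are central of order dividing 2. -/
theorem sq_comm_of {E : Type*} [Group E] (x g : E)
    (hc2 : (g * x * g⁻¹ * x⁻¹) * (g * x * g⁻¹ * x⁻¹) = 1)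
    (hxc : x * (g * x * g⁻¹ * x⁻¹) = (g * x * g⁻¹ * x⁻¹) * x) :
    g * (x * x) = (x * x) * g := by
  obtain ⟨c, hc⟩ : ∃ c : E, c = g * x * g⁻¹ * x⁻¹ := ⟨_, rfl⟩
  rw [← hc] at hc2 hxc
  have hgx : g * x = c * x * g := by rw [hc]; group
  calc g * (x * x) = (g * x) * x := by group
    _ = c * x * g * x := by rw [hgx]
    _ = c * x * (g * x) := by group
    _ = c * x * (c * x * g) := by rw [hgx]
    _ = c * (x * c) * x * g := by group
    _ = c * (c * x) * x * g := by rw [hxc]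
    _ = (c * c) * x * x * g := by group
    _ = x * x * g := by rw [hc2, one_mul]

/-- The subgroup `Q` behaves like an extraspecial 2-group with central involution `z`. -/
def Data (Q : Subgroup G) (z : G) : Prop :=
  z ∈ Q ∧ z ≠ 1 ∧ z * z = 1 ∧ (∀ x ∈ Q, x * z = z * x) ∧
  (∀ a ∈ Q, ∀ x ∈ Q, a * x * a⁻¹ * x⁻¹ = 1 ∨ a * x * a⁻¹ * x⁻¹ = z) ∧
  (∀ x ∈ Q, x * x = 1 ∨ x * x = z) ∧
  (∀ w ∈ Q, (∀ x ∈ Q, x * w = w * x) → w = 1 ∨ w = z)

theorem lam_mul {Q : Subgroup G} {z : G} (d : Data Q z) {a x y : G} (ha : a ∈ Q) (hx : x ∈ Q)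
    (hy : y ∈ Q) :
    eps (a * (x * y) * a⁻¹ * (x * y)⁻¹) =
      eps (a * x * a⁻¹ * x⁻¹) * eps (a * y * a⁻¹ * y⁻¹) := by
  obtain ⟨hzQ, hz1, hzz, hcen, hcomm, hsqr, hrad⟩ := d
  have hcy : x⁻¹ * (a * y * a⁻¹ * y⁻¹) = (a * y * a⁻¹ * y⁻¹) * x⁻¹ := by
    rcases hcomm a ha y hy with h | h
    · rw [h, mul_one, one_mul]
    · rw [h]; exact hcen _ (Q.inv_mem hx)
  have e : a * (x * y) * a⁻¹ * (x * y)⁻¹ = (a * x * a⁻¹ * x⁻¹) * (a * y * a⁻¹ * y⁻¹) := by
    calc a * (x * y) * a⁻¹ * (x * y)⁻¹ = a * x * a⁻¹ * ((a * y * a⁻¹ * y⁻¹) * x⁻¹) := by group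
      _ = a * x * a⁻¹ * (x⁻¹ * (a * y * a⁻¹ * y⁻¹)) := by rw [hcy]
      _ = (a * x * a⁻¹ * x⁻¹) * (a * y * a⁻¹ * y⁻¹) := by group
  rw [e]
  exact eps_mul z hzz _ _ (hcomm a ha x hx) (hcomm a ha y hy)

theorem lam_inv {Q : Subgroup G} {z : G} (d : Data Q z) {a x : G} (ha : a ∈ Q) (hx : x ∈ Q) :
    eps (a * x⁻¹ * a⁻¹ * x⁻¹⁻¹) = eps (a * x * a⁻¹ * x⁻¹) := by
  have h := lam_mul d ha hx (Q.inv_mem hx)
  have e : a * (x * x⁻¹) * a⁻¹ * (x * x⁻¹)⁻¹ = 1 := by group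
  rw [e, eps_one] at h
  have h2 := eps_sq (a * x * a⁻¹ * x⁻¹)
  calc eps (a * x⁻¹ * a⁻¹ * x⁻¹⁻¹)
      = (eps (a * x * a⁻¹ * x⁻¹) * eps (a * x * a⁻¹ * x⁻¹)) * eps (a * x⁻¹ * a⁻¹ * x⁻¹⁻¹) := by
        rw [h2, one_mul]
    _ = eps (a * x * a⁻¹ * x⁻¹) * (eps (a * x * a⁻¹ * x⁻¹) * eps (a * x⁻¹ * a⁻¹ * x⁻¹⁻¹)) := by
        ring
    _ = eps (a * x * a⁻¹ * x⁻¹) := by rw [← h, mul_one]

theorem lam_list {Q : Subgroup G} {z : G} (d : Data Q z) {a : G} (ha : a ∈ Q) (L : List G)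
    (hL : ∀ t ∈ L, t ∈ Q) :
    eps (a * L.prod * a⁻¹ * L.prod⁻¹) = (L.map (fun t => eps (a * t * a⁻¹ * t⁻¹))).prod := by
  induction L with
  | nil => simp [eps_one]
  | cons t L ih =>
    have ht : t ∈ Q := hL t (by simp)
    have hL' : ∀ s ∈ L, s ∈ Q := fun s hs => hL s (List.mem_cons_of_mem _ hs)
    rw [List.prod_cons, List.map_cons, List.prod_cons,
      lam_mul d ha ht (Subgroup.list_prod_mem _ hL'), ih hL']

/-- An extraspecial 2-subgroup yields `Data`. -/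
theorem of_extraspecial (Q : Subgroup G) (h : Cfsg.IsExtraspecial 2 ↥Q) :
    ∃ z : G, Data Q z ∧
      ∀ g : G, g ∈ (Subgroup.center ↥Q).map Q.subtype ↔ (g = 1 ∨ g = z) := by
  obtain ⟨⟨hP, hfr, hcomm⟩, hZ⟩ := h
  obtain ⟨zc, hzc1, hzcu⟩ := (Nat.card_eq_two_iff' (1 : Subgroup.center ↥Q)).mp hZ
  have hcen : ∀ w : ↥Q, w ∈ Subgroup.center ↥Q → w = 1 ∨ w = (zc : ↥Q) := by
    intro w hw
    by_cases h1 : w = 1
    · left; exact h1
    · right
      have h2 := hzcu ⟨w, hw⟩ (fun h => h1 (congrArg Subtype.val h))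
      rw [← h2]
  have hzne : (zc : ↥Q) ≠ 1 := fun h => hzc1 (Subtype.ext h)
  have hzz : (zc : ↥Q) * (zc : ↥Q) = 1 := by
    rcases hcen _ (Subgroup.mul_mem _ zc.2 zc.2) with h | h
    · exact h
    · exfalso; exact hzne (mul_left_cancel (a := (zc : ↥Q)) (by rw [h, mul_one]))
  have hcc : ∀ a x : ↥Q, a * x * a⁻¹ * x⁻¹ ∈ Subgroup.center ↥Q := by
    intro a x
    rw [← hcomm]
    have h := Subgroup.commutator_mem_commutator (Subgroup.mem_top a) (Subgroup.mem_top x)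
    rw [commutatorElement_def] at h
    exact h
  refine ⟨((zc : ↥Q) : G), ⟨(zc : ↥Q).2, ?_, ?_, ?_, ?_, ?_, ?_⟩, ?_⟩
  · intro h; exact hzne (Subtype.ext h)
  · exact congrArg Subtype.val hzz
  · intro x hx
    exact congrArg Subtype.val (Subgroup.mem_center_iff.mp zc.2 ⟨x, hx⟩)
  · intro a ha x hx
    rcases hcen _ (hcc ⟨a, ha⟩ ⟨x, hx⟩) with h | h
    · left; exact congrArg Subtype.val h
    · right; exact congrArg Subtype.val h
  · intro x hx
    have hsc : (⟨x, hx⟩ : ↥Q) * ⟨x, hx⟩ ∈ Subgroup.center ↥Q := by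
      rw [Subgroup.mem_center_iff]
      intro g
      apply sq_comm_of
      · rcases hcen _ (hcc g ⟨x, hx⟩) with h | h
        · rw [h, mul_one]
        · rw [h, hzz]
      · exact Subgroup.mem_center_iff.mp (hcc g ⟨x, hx⟩) ⟨x, hx⟩
    rcases hcen _ hsc with h | h
    · left; exact congrArg Subtype.val h
    · right; exact congrArg Subtype.val h
  · intro w hw hcw
    have hwc : (⟨w, hw⟩ : ↥Q) ∈ Subgroup.center ↥Q := by
      rw [Subgroup.mem_center_iff]
      intro g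
      exact Subtype.ext (hcw g g.2)
    rcases hcen _ hwc with h | h
    · left; exact congrArg Subtype.val h
    · right; exact congrArg Subtype.val h
  · intro g
    constructor
    · rintro ⟨c, hc, rfl⟩
      rcases hcen c hc with h | h
      · left; rw [h]; rfl
      · right; rw [h]; rfl
    · rintro (h | h)
      · rw [h]; exact Subgroup.one_mem _
      · rw [h]; exact ⟨(zc : ↥Q), zc.2, rfl⟩

/-- A non-commutative subgroup with `Data` is an extraspecial 2-group. -/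
theorem to_extraspecial [Finite G] (R : Subgroup G) (z : G) (d : Data R z)
    (hnonab : ∃ a ∈ R, ∃ x ∈ R, a * x ≠ x * a) : Cfsg.IsExtraspecial 2 ↥R := by
  obtain ⟨hzR, hz1, hzz, hcen, hcomm, hsqr, hrad⟩ := d
  obtain ⟨zR, hzRdef⟩ : ∃ zR : ↥R, (zR : G) = z := ⟨⟨z, hzR⟩, rfl⟩
  have hzR1 : zR ≠ 1 := by
    intro h; apply hz1; rw [← hzRdef, h]; rfl
  have hzRz : zR * zR = 1 := by
    apply Subtype.ext
    show (zR : G) * (zR : G) = 1
    rw [hzRdef]; exact hzz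
  have hcv : ∀ a x : ↥R, a * x * a⁻¹ * x⁻¹ = 1 ∨ a * x * a⁻¹ * x⁻¹ = zR := by
    intro a x
    rcases hcomm a a.2 x x.2 with h | h
    · left; exact Subtype.ext h
    · right; apply Subtype.ext; rw [hzRdef]; exact h
  have hsv : ∀ x : ↥R, x * x = 1 ∨ x * x = zR := by
    intro x
    rcases hsqr x x.2 with h | h
    · left; exact Subtype.ext h
    · right; apply Subtype.ext; rw [hzRdef]; exact h
  have hzcen : zR ∈ Subgroup.center ↥R := by
    rw [Subgroup.mem_center_iff]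
    intro g
    apply Subtype.ext
    show (g : G) * (zR : G) = (zR : G) * (g : G)
    rw [hzRdef]; exact hcen g g.2
  have hcenter : ∀ w : ↥R, w ∈ Subgroup.center ↥R → w = 1 ∨ w = zR := by
    intro w hw
    rw [Subgroup.mem_center_iff] at hw
    rcases hrad w w.2 (fun x hx => congrArg Subtype.val (hw ⟨x, hx⟩)) with h | h
    · left; exact Subtype.ext h
    · right; apply Subtype.ext; rw [hzRdef]; exact h
  have hcmem : ∀ a x : ↥R, a * x * a⁻¹ * x⁻¹ ∈ Subgroup.center ↥R := by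
    intro a x
    rcases hcv a x with h | h
    · rw [h]; exact Subgroup.one_mem _
    · rw [h]; exact hzcen
  have hsmem : ∀ x : ↥R, x * x ∈ Subgroup.center ↥R := by
    intro x
    rcases hsv x with h | h
    · rw [h]; exact Subgroup.one_mem _
    · rw [h]; exact hzcen
  obtain ⟨a, ha, x, hx, hax⟩ := hnonab
  have hzeq : (⟨a, ha⟩ : ↥R) * ⟨x, hx⟩ * (⟨a, ha⟩ : ↥R)⁻¹ * (⟨x, hx⟩ : ↥R)⁻¹ = zR := by
    rcases hcv ⟨a, ha⟩ ⟨x, hx⟩ with h1 | h1
    · exfalso
      apply hax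
      have h2 := congrArg Subtype.val h1
      exact (comm_eq_one_iff a x).mp h2
    · exact h1
  have hzcomm : zR ∈ commutator ↥R := by
    have h := Subgroup.commutator_mem_commutator (Subgroup.mem_top (⟨a, ha⟩ : ↥R))
      (Subgroup.mem_top (⟨x, hx⟩ : ↥R))
    rw [commutatorElement_def, hzeq] at h
    exact h
  refine ⟨⟨?_, ?_, ?_⟩, ?_⟩
  · intro g
    refine ⟨2, ?_⟩
    have e : g ^ 2 ^ 2 = (g * g) * (g * g) := by
      show g ^ 4 = _
      rw [show (4 : ℕ) = 2 + 2 from rfl, pow_add, pow_two]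
    rw [e]
    rcases hsv g with h | h
    · rw [h, one_mul]
    · rw [h, hzRz]
  · apply le_antisymm
    · have h := Cfsg.Agent.Helper14.frattini_le_ker_of_elementary (p := 2)
        (QuotientGroup.mk' (Subgroup.center ↥R)) ?_ ?_
      · rwa [QuotientGroup.ker_mk'] at h
      · intro a b
        show ((a * b : ↥R) : ↥R ⧸ Subgroup.center ↥R) = ((b * a : ↥R) : ↥R ⧸ Subgroup.center ↥R)
        rw [QuotientGroup.eq]
        have e : (a * b)⁻¹ * (b * a) = b⁻¹ * a⁻¹ * b⁻¹⁻¹ * a⁻¹⁻¹ := by group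
        rw [e]
        exact hcmem b⁻¹ a⁻¹
      · intro a
        show ((a : ↥R ⧸ Subgroup.center ↥R)) ^ 2 = 1
        rw [← QuotientGroup.mk_pow, QuotientGroup.eq_one_iff, pow_two]
        exact hsmem a
    · intro w hw
      have hfr : ∀ M : Subgroup ↥R, IsCoatom M → zR ∈ M := by
        intro M hM
        by_contra hzM
        have htop : M ⊔ Subgroup.zpowers zR = ⊤ := by
          apply hM.2
          apply lt_of_le_of_ne le_sup_left
          intro heq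
          apply hzM
          rw [heq]
          exact Subgroup.mem_sup_right (Subgroup.mem_zpowers zR)
        have hzp : Subgroup.zpowers zR ≤ Subgroup.center ↥R := by
          rw [Subgroup.zpowers_le]; exact hzcen
        have hnorm : Subgroup.zpowers zR ≤ Subgroup.normalizer (M : Set ↥R) :=
          hzp.trans (Subgroup.center_le_normalizer _)
        have hdec : ∀ g : ↥R, ∃ m ∈ M, ∃ y ∈ Subgroup.center ↥R, g = m * y := by
          intro g
          obtain ⟨m, hm, y, hy, hg⟩ := Cfsg.Agent.Helper14.exists_mul_of_mem_sup_normalizer M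
            (Subgroup.zpowers zR) hnorm (w := g) (by rw [htop]; exact Subgroup.mem_top g)
          exact ⟨m, hm, y, hzp hy, hg⟩
        apply hzM
        obtain ⟨m1, hm1, y1, hy1, h1⟩ := hdec ⟨a, ha⟩
        obtain ⟨m2, hm2, y2, hy2, h2⟩ := hdec ⟨x, hx⟩
        have hy1' := Subgroup.mem_center_iff.mp hy1
        have hy2' := Subgroup.mem_center_iff.mp hy2
        have e : (⟨a, ha⟩ : ↥R) * ⟨x, hx⟩ * (⟨a, ha⟩ : ↥R)⁻¹ * (⟨x, hx⟩ : ↥R)⁻¹ =
            m1 * m2 * m1⁻¹ * m2⁻¹ := by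
          calc (⟨a, ha⟩ : ↥R) * ⟨x, hx⟩ * (⟨a, ha⟩ : ↥R)⁻¹ * (⟨x, hx⟩ : ↥R)⁻¹
              = (m1 * y1) * (m2 * y2) * (m1 * y1)⁻¹ * (m2 * y2)⁻¹ := by rw [h1, h2]
            _ = m1 * (y1 * (m2 * y2 * y1⁻¹)) * m1⁻¹ * y2⁻¹ * m2⁻¹ := by group
            _ = m1 * ((m2 * y2 * y1⁻¹) * y1) * m1⁻¹ * y2⁻¹ * m2⁻¹ := by
                rw [← hy1' (m2 * y2 * y1⁻¹)]
            _ = m1 * m2 * (y2 * (m1⁻¹ * y2⁻¹)) * m2⁻¹ := by group
            _ = m1 * m2 * ((m1⁻¹ * y2⁻¹) * y2) * m2⁻¹ := by rw [← hy2' (m1⁻¹ * y2⁻¹)]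
            _ = m1 * m2 * m1⁻¹ * m2⁻¹ := by group
        rw [← hzeq, e]
        exact M.mul_mem (M.mul_mem (M.mul_mem hm1 hm2) (M.inv_mem hm1)) (M.inv_mem hm2)
      have hzfr : zR ∈ frattini ↥R := by
        simp only [frattini, Order.radical, Subgroup.mem_iInf]
        exact fun M hM => hfr M hM
      rcases hcenter w hw with h | h
      · rw [h]; exact Subgroup.one_mem _
      · rw [h]; exact hzfr
  · apply le_antisymm
    · rw [commutator_eq_closure, Subgroup.closure_le]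
      intro g hg
      rw [mem_commutatorSet_iff] at hg
      obtain ⟨g1, g2, rfl⟩ := hg
      rw [commutatorElement_def]
      exact hcmem g1 g2
    · intro w hw
      rcases hcenter w hw with h | h
      · rw [h]; exact Subgroup.one_mem _
      · rw [h]; exact hzcomm
  · rw [Nat.card_eq_two_iff' (1 : Subgroup.center ↥R)]
    refine ⟨⟨zR, hzcen⟩, ?_, ?_⟩
    · intro h; exact hzR1 (congrArg Subtype.val h)
    · intro y hy
      rcases hcenter y.1 y.2 with h | h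
      · exfalso; exact hy (Subtype.ext h)
      · exact Subtype.ext h

/-- A multiplicative map from a group of odd order into `{1, z}` is trivial. -/
theorem odd_hom (A : Subgroup G) [Finite A] (hodd : Odd (Nat.card A)) (z : G) (hzz : z * z = 1)
    (f : G → G) (hf : ∀ b ∈ A, f b = 1 ∨ f b = z)
    (hmul : ∀ b ∈ A, ∀ b' ∈ A, f (b * b') = f b * f b') : ∀ b ∈ A, f b = 1 := by
  intro b hb
  have h1 : f 1 = 1 := by
    have h := hmul 1 A.one_mem 1 A.one_mem
    rw [mul_one] at h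
    exact mul_left_cancel (a := f 1) (h.symm.trans (mul_one _).symm)
  have hpow : ∀ k : ℕ, f (b ^ k) = f b ^ k := by
    intro k
    induction k with
    | zero => rw [pow_zero, pow_zero]; exact h1
    | succ k ih => rw [pow_succ, hmul _ (A.pow_mem hb k) _ hb, ih, pow_succ]
  have hbn : b ^ Nat.card A = 1 := by
    have h := congrArg Subtype.val (pow_card_eq_one' (G := A) (x := ⟨b, hb⟩))
    exact h
  rcases hf b hb with h | h
  · exact h
  · obtain ⟨k, hk⟩ := hodd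
    have h2 := hpow (Nat.card A)
    rw [hbn, h1, h, hk, pow_succ, pow_mul, pow_two, hzz, one_pow, one_mul] at h2
    rw [h, ← h2]

/-- The "norm" of `x` under `A`: an `A`-fixed element of `Q` in the coset `[Q, A] x ^ |A|`. -/
theorem exists_fixed [Finite G] {Q : Subgroup G} {z : G} (d : Data Q z) (A : Subgroup G)
    (hA : A ≤ Subgroup.normalizer (Q : Set G)) (hodd : Odd (Nat.card A))
    (hAz : ∀ a ∈ A, a * z = z * a) (x : G) (hx : x ∈ Q) :
    ∃ y ∈ Q, (∀ b ∈ A, b * y = y * b) ∧ ∃ r ∈ ⁅Q, A⁆, y = r * x ^ Nat.card A := by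
  classical
  have hfinA : Fintype A := Fintype.ofFinite A
  obtain ⟨hzQ, hz1, hzz, hcen, hcomm, hsqr, hrad⟩ := id d
  obtain ⟨f, hfdef⟩ : ∃ f : A → G, ∀ a : A, f a = (a : G) * x * (a : G)⁻¹ :=
    ⟨fun a => (a : G) * x * (a : G)⁻¹, fun a => rfl⟩
  have hfQ : ∀ a : A, f a ∈ Q := by
    intro a
    rw [hfdef]
    exact (Subgroup.mem_normalizer_iff.mp (hA a.2) x).mp hx
  obtain ⟨L, hLdef⟩ : ∃ L : List A, L = (Finset.univ : Finset A).toList := ⟨_, rfl⟩
  obtain ⟨y, hydef⟩ : ∃ y : G, y = (L.map f).prod := ⟨_, rfl⟩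
  have hLQ : ∀ t ∈ L.map f, t ∈ Q := by
    intro t ht
    obtain ⟨a, -, rfl⟩ := List.mem_map.mp ht
    exact hfQ a
  have hyQ : y ∈ Q := by rw [hydef]; exact Subgroup.list_prod_mem _ hLQ
  have hcoset : ∀ L' : List A, ∃ r ∈ ⁅Q, A⁆, (L'.map f).prod = r * x ^ L'.length := by
    intro L'
    induction L' with
    | nil => exact ⟨1, Subgroup.one_mem _, by simp⟩
    | cons a L'' ih =>
      obtain ⟨r, hr, hprod⟩ := ih
      have hca : (a : G) * x * (a : G)⁻¹ * x⁻¹ ∈ ⁅Q, A⁆ := by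
        rw [Subgroup.commutator_comm]
        have h := Subgroup.commutator_mem_commutator a.2 hx
        rw [commutatorElement_def] at h
        exact h
      have hxr : x * r * x⁻¹ ∈ ⁅Q, A⁆ :=
        (Subgroup.mem_normalizer_iff.mp
          (Cfsg.Agent.Helper14.le_normalizer_commutator_left Q A hx) r).mp hr
      refine ⟨((a : G) * x * (a : G)⁻¹ * x⁻¹) * (x * r * x⁻¹), Subgroup.mul_mem _ hca hxr, ?_⟩
      rw [List.map_cons, List.prod_cons, hprod, List.length_cons, pow_succ', hfdef]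
      group
  have hinv : ∀ b ∈ A, b * y * b⁻¹ * y⁻¹ = 1 ∨ b * y * b⁻¹ * y⁻¹ = z := by
    intro b hb
    have hbyQ : b * y * b⁻¹ ∈ Q := (Subgroup.mem_normalizer_iff.mp (hA hb) y).mp hyQ
    have htQ : b * y * b⁻¹ * y⁻¹ ∈ Q := Q.mul_mem hbyQ (Q.inv_mem hyQ)
    apply hrad _ htQ
    intro w hw
    have h1 : eps (w * (b * y * b⁻¹ * y⁻¹) * w⁻¹ * (b * y * b⁻¹ * y⁻¹)⁻¹) =
        eps (w * (b * y * b⁻¹) * w⁻¹ * (b * y * b⁻¹)⁻¹) * eps (w * y⁻¹ * w⁻¹ * y⁻¹⁻¹) :=
      lam_mul d hw hbyQ (Q.inv_mem hyQ)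
    rw [lam_inv d hw hyQ] at h1
    have h2 : eps (w * y * w⁻¹ * y⁻¹) = ∏ a : A, eps (w * f a * w⁻¹ * (f a)⁻¹) := by
      rw [hydef, lam_list d hw _ hLQ, List.map_map, hLdef, Finset.prod_map_toList]
      rfl
    have h3 : eps (w * (b * y * b⁻¹) * w⁻¹ * (b * y * b⁻¹)⁻¹) =
        ∏ a : A, eps (w * f a * w⁻¹ * (f a)⁻¹) := by
      have e1 : b * y * b⁻¹ = ((L.map f).map (fun t => b * t * b⁻¹)).prod := by
        rw [hydef]
        have h := map_list_prod (MulAut.conj b) (L.map f)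
        exact h
      have hLQ' : ∀ t ∈ (L.map f).map (fun t => b * t * b⁻¹), t ∈ Q := by
        intro t ht
        obtain ⟨s, hs, rfl⟩ := List.mem_map.mp ht
        exact (Subgroup.mem_normalizer_iff.mp (hA hb) s).mp (hLQ s hs)
      rw [e1, lam_list d hw _ hLQ', List.map_map, List.map_map, hLdef, Finset.prod_map_toList]
      rw [← Equiv.prod_comp (Equiv.mulLeft (⟨b, hb⟩ : A))
        (fun a : A => eps (w * f a * w⁻¹ * (f a)⁻¹))]
      refine Finset.prod_congr rfl fun a _ => ?_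
      have e2 : b * f a * b⁻¹ = f (⟨b, hb⟩ * a) := by
        rw [hfdef, hfdef]
        show b * ((a : G) * x * (a : G)⁻¹) * b⁻¹ = (b * (a : G)) * x * (b * (a : G))⁻¹
        group
      show eps (w * (b * f a * b⁻¹) * w⁻¹ * (b * f a * b⁻¹)⁻¹) =
        eps (w * f (⟨b, hb⟩ * a) * w⁻¹ * (f (⟨b, hb⟩ * a))⁻¹)
      rw [e2]
    rw [h3, ← h2, eps_sq] at h1
    exact (comm_eq_one_iff w _).mp (eps_eq_one h1)
  have hfix : ∀ b ∈ A, b * y * b⁻¹ * y⁻¹ = 1 := by
    apply odd_hom A hodd z hzz (fun b => b * y * b⁻¹ * y⁻¹) hinv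
    intro b hb b' hb'
    show (b * b') * y * (b * b')⁻¹ * y⁻¹ = (b * y * b⁻¹ * y⁻¹) * (b' * y * b'⁻¹ * y⁻¹)
    have hbyQ : b * y * b⁻¹ * y⁻¹ ∈ Q :=
      Q.mul_mem ((Subgroup.mem_normalizer_iff.mp (hA hb) y).mp hyQ) (Q.inv_mem hyQ)
    have hc : b * (b' * y * b'⁻¹ * y⁻¹) = (b' * y * b'⁻¹ * y⁻¹) * b := by
      rcases hinv b' hb' with h | h
      · rw [h, mul_one, one_mul]
      · rw [h]; exact hAz b hb
    have hc2 : (b' * y * b'⁻¹ * y⁻¹) * (b * y * b⁻¹ * y⁻¹) =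
        (b * y * b⁻¹ * y⁻¹) * (b' * y * b'⁻¹ * y⁻¹) := by
      rcases hinv b' hb' with h | h
      · rw [h, mul_one, one_mul]
      · rw [h]; exact (hcen _ hbyQ).symm
    calc (b * b') * y * (b * b')⁻¹ * y⁻¹
        = (b * (b' * y * b'⁻¹ * y⁻¹)) * y * b⁻¹ * y⁻¹ := by group
      _ = ((b' * y * b'⁻¹ * y⁻¹) * b) * y * b⁻¹ * y⁻¹ := by rw [hc]
      _ = (b' * y * b'⁻¹ * y⁻¹) * (b * y * b⁻¹ * y⁻¹) := by group
      _ = (b * y * b⁻¹ * y⁻¹) * (b' * y * b'⁻¹ * y⁻¹) := hc2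
  obtain ⟨r, hr, hprod⟩ := hcoset L
  refine ⟨y, hyQ, fun b hb => (comm_eq_one_iff b y).mp (hfix b hb), r, hr, ?_⟩
  rw [hydef, hprod, hLdef, Finset.length_toList, Finset.card_univ, Nat.card_eq_fintype_card]

/-- Coprime decomposition: `Q = [Q, A] * C_Q(A)` for `A` of odd order normalizing `Q`. -/
theorem decomp [Finite G] {Q : Subgroup G} {z : G} (d : Data Q z) (A : Subgroup G)
    (hA : A ≤ Subgroup.normalizer (Q : Set G)) (hodd : Odd (Nat.card A))
    (hAz : ∀ a ∈ A, a * z = z * a) (x : G) (hx : x ∈ Q) :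
    ∃ r ∈ ⁅Q, A⁆, ∃ c ∈ Q ⊓ Subgroup.centralizer (A : Set G), x = r * c := by
  obtain ⟨y, hyQ, hyA, r, hr, hy⟩ := exists_fixed d A hA hodd hAz x hx
  obtain ⟨hzQ, hz1, hzz, hcen, hcomm, hsqr, hrad⟩ := d
  obtain ⟨k, hk⟩ := hodd
  have hrQ : r ∈ Q := Cfsg.Agent.Helper14.commutator_le_left_of_le_normalizer Q A hA hr
  obtain ⟨z0, hz0⟩ : ∃ z0 : G, z0 = (x * x) ^ k := ⟨_, rfl⟩
  have hpow : x ^ Nat.card A = z0 * x := by
    rw [hz0, hk, pow_succ, pow_mul, pow_two]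
  have hz0v : z0 = 1 ∨ z0 = z := by
    rw [hz0]
    rcases hsqr x hx with h | h
    · left; rw [h, one_pow]
    · rw [h]; exact pow_pair z hzz k
  have hzC : z ∈ Q ⊓ Subgroup.centralizer (A : Set G) :=
    Subgroup.mem_inf.mpr ⟨hzQ, Subgroup.mem_centralizer_iff.mpr (fun a ha => hAz a ha)⟩
  have hz0C : z0 ∈ Q ⊓ Subgroup.centralizer (A : Set G) := by
    rcases hz0v with h | h
    · rw [h]; exact Subgroup.one_mem _
    · rw [h]; exact hzC
  have hyC : y ∈ Q ⊓ Subgroup.centralizer (A : Set G) :=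
    Subgroup.mem_inf.mpr ⟨hyQ, Subgroup.mem_centralizer_iff.mpr (fun a ha => hyA a ha)⟩
  have hz0r : r * z0 = z0 * r := by
    rcases hz0v with h | h
    · rw [h, mul_one, one_mul]
    · rw [h]; exact hcen r hrQ
  refine ⟨r⁻¹, Subgroup.inv_mem _ hr, z0⁻¹ * y, Subgroup.mul_mem _ (Subgroup.inv_mem _ hz0C) hyC, ?_⟩
  rw [hy, hpow]
  calc x = r⁻¹ * z0⁻¹ * (z0 * r) * x := by group
    _ = r⁻¹ * z0⁻¹ * (r * z0) * x := by rw [hz0r]
    _ = r⁻¹ * (z0⁻¹ * (r * (z0 * x))) := by group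

end Cfsg.Agent.Helper14.XS
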